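import Cfsg.Agent.Lib.Recog.SporBound.Fi22Aut.Main

set_option autoImplicit false
set_option maxRecDepth 20000

/-! Products of two and three commuting transpositions of Fi22 are not transpositions (owner: helper6). -/

namespace CfsgLib.Recog.FiM22Two

open Cfsg CfsgLib.ThreeTrans.CosetIndex CfsgLib.Recog.SporBound CfsgLib.Recog.SporBound.Fi22Aut
open CfsgLib.Recog.SporBound.Fi22Group (a act)
open CfsgLib.Recog.SporBound.Fi22U6 (a_sq)

local notation "G" => Cfsg.Spor.Fi22

/-- The commutator word of an involution and a conjugate. -/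
def wit (j g : List ℕ) : List ℕ := j ++ g ++ j ++ g.reverse

/-- A word with square and cube moving the first row. -/
noncomputable def movesB (u : List ℕ) : Bool :=
  (List.range 40).any fun c => !Nat.beq (FiHat3510.data.trace c (u ++ u)) c &&
    (List.range 40).any fun c => !Nat.beq (FiHat3510.data.trace c (u ++ u ++ u)) c

theorem moves_ok : movesB (wit [0, 2] [2, 3, 1]) = true ∧ movesB (wit [0, 2, 4] [5, 4, 3, 2, 1]) = true := by
  decide +kernel

theorem moves_spec {j g : List ℕ} (h : movesB (wit j g) = true) :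
    ∃ c : G, ((j.reverse.map a).prod * (c * (j.reverse.map a).prod * c⁻¹)) ^ 2 ≠ 1 ∧
      ((j.reverse.map a).prod * (c * (j.reverse.map a).prod * c⁻¹)) ^ 3 ≠ 1 := by
  have hw : ((wit j g).reverse.map a).prod =
      (g.map a).prod * (j.reverse.map a).prod * ((g.map a).prod)⁻¹ * (j.reverse.map a).prod := by
    simp only [wit, List.reverse_append, List.reverse_reverse, List.map_append, List.prod_append, mul_assoc,
      prod_reverse_eq_inv a a_sq g]
  obtain ⟨u, hu⟩ : ∃ u, u = wit j g := ⟨_, rfl⟩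
  rw [← hu] at hw h
  set J := (j.reverse.map a).prod
  set C := (g.map a).prod
  simp only [movesB, List.any_eq_true, Bool.and_eq_true, Bool.not_eq_true', List.mem_range] at h
  obtain ⟨c1, hc1, h1, c2, hc2, h2⟩ := h
  have key : ∀ (v : List ℕ) (c : ℕ), c < 40 → Nat.beq (FiHat3510.data.trace c v) c = false →
      (v.reverse.map a).prod ≠ 1 := by
    intro v c hc hv e
    have := trace_act v ⟨c, hc.trans (by decide)⟩
    rw [e, map_one] at this
    change FiHat3510.data.trace c v = c at this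
    rw [this] at hv
    simp at hv
  have hconj : ∀ n : ℕ, (J * (C * J * C⁻¹)) ^ n = J * (C * J * C⁻¹ * J) ^ n * J⁻¹ := fun n => by
    rw [← conj_pow]; congr 1; group
  refine ⟨C, fun e => key _ c1 hc1 h1 ?_, fun e => key _ c2 hc2 h2 ?_⟩
  · rw [hconj, conj_eq_one_iff] at e
    rw [List.reverse_append, List.map_append, List.prod_append, hw, ← pow_two]
    exact e
  · rw [hconj, conj_eq_one_iff] at e
    simp only [List.reverse_append, List.map_append, List.prod_append, hw]
    rw [← mul_assoc, ← pow_two, ← pow_succ]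
    exact e

/-- The two witnesses. -/
theorem pair_witness : ∃ c : G, (a 2 * a 0 * (c * (a 2 * a 0) * c⁻¹)) ^ 2 ≠ 1 ∧
    (a 2 * a 0 * (c * (a 2 * a 0) * c⁻¹)) ^ 3 ≠ 1 := by
  simpa using moves_spec (j := [0, 2]) moves_ok.1

theorem triple_witness : ∃ c : G, (a 4 * (a 2 * a 0) * (c * (a 4 * (a 2 * a 0)) * c⁻¹)) ^ 2 ≠ 1 ∧
    (a 4 * (a 2 * a 0) * (c * (a 4 * (a 2 * a 0)) * c⁻¹)) ^ 3 ≠ 1 := by
  simpa using moves_spec (j := [0, 2, 4]) moves_ok.2

theorem letters_ok : a 0 ≠ a 2 ∧ a 0 ≠ a 4 ∧ a 2 ≠ a 4 ∧ Commute (a 0) (a 2) ∧ Commute (a 0) (a 4) ∧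
    Commute (a 2) (a 4) ∧ a 2 ∈ conjugatesOf (a 0) ∧ a 4 ∈ conjugatesOf (a 0) := by
  have ne : ∀ j k : ℕ, (∃ c : Row, FiHat3510.data.tab c j ≠ FiHat3510.data.tab c k) → a j ≠ a k := by
    rintro j k ⟨c, hc⟩ e
    have h1 := trace_act [j] c
    have h2 := trace_act [k] c
    rw [List.reverse_singleton, List.map_cons, List.map_nil, List.prod_cons, List.prod_nil, mul_one] at h1 h2
    rw [e, ← h2] at h1
    exact hc h1
  have hw : ∀ j k : ℕ, (relWords Spor.Fi22.edges Spor.Fi22.extra Cfsg.Agent.S1687.gens).contains [j, k, j, k] = true →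
      Commute (a j) (a k) := by
    intro j k h
    have e := relWord_one Fi22Group.nodes (List.contains_iff_mem.1 h)
    simp only [List.map_cons, List.map_nil, List.prod_cons, List.prod_nil, mul_one] at e
    have e2 := congrArg (fun z => z * (a k * a j)) e
    simp only [one_mul, mul_assoc, a_sq, mul_one, ← mul_assoc (a k) (a k), ← mul_assoc (a j) (a j)] at e2
    exact e2
  have mem : ∀ x < 9, a x ∈ conjugatesOf (a 0) := fun x hx => by
    obtain ⟨h, hh⟩ := conj_letter hx
    exact isConj_iff.2 ⟨h, hh.symm⟩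
  refine ⟨ne 0 2 ?_, ne 0 4 ?_, ne 2 4 ?_, hw 0 2 (by decide +kernel), hw 0 4 (by decide +kernel),
    hw 2 4 (by decide +kernel), mem 2 (by norm_num), mem 4 (by norm_num)⟩
  · exact ⟨⟨10, by decide⟩, by decide +kernel⟩
  · exact ⟨⟨10, by decide⟩, by decide +kernel⟩
  · exact ⟨⟨110, by decide⟩, by decide +kernel⟩

end CfsgLib.Recog.FiM22Two
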