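import Cfsg.Agent.Lib.Recog.FiM22.Factor.Classes
import Cfsg.Agent.Lib.Recog.FiM22.Factor.Top
import Cfsg.Agent.Lib.Recog.FiM22.ReadOff
import Cfsg.Agent.Lib.Core.Cores
import Cfsg.Agent.Lib.Recog.FiM22Two.Witness

set_option autoImplicit false
set_option maxRecDepth 20000

/-!
Involutions of a group of type M(22) and uniqueness of its class of 3-transpositions (owner: helper6).
-/

namespace CfsgLib.Recog.FiM22Two

open Cfsg CfsgLib.ThreeTrans CfsgLib.Recog.FiM22 CfsgLib.Recog.SporBound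

universe u

variable {G : Type u} [Group G] [Finite G] {D : Set G}

theorem pCore_le_center_of_base {a : G} (B : FiM22.Base D a) {p : ℕ} (hp : p.Prime) :
    Cfsg.pCore p ↥(Subgroup.closure (nbrs D a)) ≤ Subgroup.center ↥(Subgroup.closure (nbrs D a)) := by
  haveI := psu_simple
  haveI : Fact p.Prime := ⟨hp⟩
  set H := Subgroup.closure (nbrs D a)
  have hker : B.proj.ker ≤ Subgroup.center H := B.kerLe
  haveI hn : ((Cfsg.pCore p H).map B.proj).Normal := (inferInstance : (Cfsg.pCore p H).Normal).map _ B.surj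
  rcases hn.eq_bot_or_eq_top with h | h
  · intro x hx
    exact hker (MonoidHom.mem_ker.2 (Subgroup.mem_bot.1 (h ▸ Subgroup.mem_map_of_mem _ hx)))
  · exfalso
    have hP : IsPGroup p ↥((Cfsg.pCore p H).map B.proj) :=
      (CfsgLib.Core.isPGroup_pCore p H).map B.proj
    obtain ⟨n, hn'⟩ := IsPGroup.iff_card.1 hP
    rw [h, Subgroup.card_top, Fi22U6.card_psu] at hn'
    have h5 : (5 : ℕ) ∣ p ^ n := hn' ▸ (by norm_num)
    have h3 : (3 : ℕ) ∣ p ^ n := hn' ▸ (by norm_num)
    have e5 := (Nat.prime_dvd_prime_iff_eq (by norm_num) hp).1 ((by norm_num : Nat.Prime 5).dvd_of_dvd_pow h5)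
    have e3 := (Nat.prime_dvd_prime_iff_eq (by norm_num) hp).1 ((by norm_num : Nat.Prime 3).dvd_of_dvd_pow h3)
    omega

/-- Every involution is a product of one, two or three commuting members. -/
theorem involution_factor (hD : IsThreeTranspositionGroup D) (hprim : IsPrimitiveUnderConj D)
    (h22 : IsOfTypeM22 G D) {x : G} (hx : orderOf x = 2) :
    ∃ l, Factor.ComList D l ∧ 1 ≤ l.length ∧ l.length ≤ 3 ∧ l.prod = x := by
  have hd1 := Factor.diff_one (D := D) hD.1
  obtain ⟨a, b, ⟨P⟩⟩ := Factor.exists_pre h22 (by rw [hd1]; exact hD)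
  rw [hd1] at P
  obtain ⟨B⟩ := FiM22.exists_base_at hD hprim h22 P.mema
  obtain ⟨d, hd, hcd⟩ := Factor.exists_fixed B hx
  obtain ⟨g, hg⟩ := hprim.1 d hd a P.mema
  have hxa : Commute (g * x * g⁻¹) a := by
    rw [← hg]
    show _ = _
    calc g * x * g⁻¹ * (g * d * g⁻¹) = g * (x * d) * g⁻¹ := by group
      _ = g * (d * x) * g⁻¹ := by rw [hcd.eq]
      _ = _ := by group
  obtain ⟨l, hl, h1, h3, hp⟩ := Factor.involution_short hD hprim a P.mema (pCore_le_center_of_base B Nat.prime_three)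
    (pCore_le_center_of_base B Nat.prime_two) h22 B P (x := g * x * g⁻¹)
    (by rw [show g * x * g⁻¹ = MulAut.conj g x from rfl, MulEquiv.orderOf_eq]; exact hx) hxa
  refine ⟨l.map (MulAut.conj g⁻¹), hl.conj hD.2.1 g⁻¹, by simpa using h1, by simpa using h3, ?_⟩
  rw [← map_list_prod, hp, MulAut.conj_apply]
  group

theorem prod_conj (l : List G) (g : G) : (l.map (MulAut.conj g)).prod = g * l.prod * g⁻¹ := by
  rw [← map_list_prod, MulAut.conj_apply]

/-- A product of two or three commuting members is no transposition. -/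
theorem no_class (hD : IsThreeTranspositionGroup D) (hprim : IsPrimitiveUnderConj D)
    (h22 : IsOfTypeM22 G D) {l : List G} (hl : Factor.ComList D l) (hlen : l.length = 2 ∨ l.length = 3) :
    ∃ c : G, (l.prod * (c * l.prod * c⁻¹)) ^ 2 ≠ 1 ∧ (l.prod * (c * l.prod * c⁻¹)) ^ 3 ≠ 1 := by
  obtain ⟨d, ⟨B⟩⟩ := FiM22.exists_base hD hprim h22
  obtain ⟨e, he⟩ := FiM22.identify_of_type hD hprim h22
  obtain ⟨n02, n04, n24, c02, c04, c24, m2, m4⟩ := letters_ok
  have hmem : ∀ z ∈ conjugatesOf (Fi22Group.a 0), e z ∈ D := fun z hz => he ▸ ⟨z, hz, rfl⟩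
  have main : ∀ z : Spor.Fi22, (∃ g : G, e z = g * l.prod * g⁻¹) →
      (∃ c, (z * (c * z * c⁻¹)) ^ 2 ≠ 1 ∧ (z * (c * z * c⁻¹)) ^ 3 ≠ 1) →
      ∃ c : G, (l.prod * (c * l.prod * c⁻¹)) ^ 2 ≠ 1 ∧ (l.prod * (c * l.prod * c⁻¹)) ^ 3 ≠ 1 := by
    rintro z ⟨g, hg⟩ ⟨c, hc2, hc3⟩
    have key : ∀ n : ℕ, (l.prod * ((g⁻¹ * e c * g) * l.prod * (g⁻¹ * e c * g)⁻¹)) ^ n = 1 →
        (z * (c * z * c⁻¹)) ^ n = 1 := by
      intro n hn
      apply e.injective
      rw [map_pow, map_one, map_mul, map_mul, map_mul, map_inv, hg,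
        show g * l.prod * g⁻¹ * (e c * (g * l.prod * g⁻¹) * (e c)⁻¹) =
          g * (l.prod * ((g⁻¹ * e c * g) * l.prod * (g⁻¹ * e c * g)⁻¹)) * g⁻¹ by group, conj_pow, hn, mul_one,
        mul_inv_cancel]
    exact ⟨_, fun h => hc2 (key 2 h), fun h => hc3 (key 3 h)⟩
  rcases hlen with hlen | hlen
  · obtain ⟨x, y, rfl⟩ : ∃ x y, l = [x, y] := by
      match l, hlen with
      | [x, y], _ => exact ⟨x, y, rfl⟩
    have hn : x ≠ y := by simpa using hl.nodup
    have h0 := hmem _ mem_conjugatesOf_self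
    obtain ⟨g, hg⟩ := hprim.1 x (hl.mem x (by simp)) _ h0
    have hy' : g * y * g⁻¹ ∈ D := hD.2.1 g y (hl.mem y (by simp))
    have hc' : Commute (e (Fi22Group.a 0)) (g * y * g⁻¹) := by
      rw [← hg]
      exact ((hl.comm x (by simp) y (by simp)).map (MulAut.conj g).toMonoidHom)
    obtain ⟨g₂, hg₂, hg₂y⟩ := B.setting.commute_transitive h0 hy'
      (fun e' => hn ((MulAut.conj g).injective (hg.trans e'.symm)))
      hc' (hmem _ m2) (fun e' => n02 (e.injective e').symm) (c02.map e.toMonoidHom)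
    refine main _ ⟨g₂ * g, ?_⟩ pair_witness
    rw [map_mul, show e (Fi22Group.a 2) * e (Fi22Group.a 0) = e (Fi22Group.a 0) * e (Fi22Group.a 2) from
      (c02.map e.toMonoidHom).eq.symm, List.prod_cons, List.prod_cons, List.prod_nil, mul_one, ← hg₂y]
    conv_lhs => rw [show e (Fi22Group.a 0) = g₂ * (g * x * g⁻¹) * g₂⁻¹ by rw [hg, hg₂.eq, mul_inv_cancel_right]]
    group
  · have hT : [e (Fi22Group.a 4), e (Fi22Group.a 2), e (Fi22Group.a 0)] ∈ Factor.triples D := by
      refine ⟨⟨?_, ?_, ?_⟩, rfl⟩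
      · simp [e.injective.eq_iff, Ne.symm n02, Ne.symm n04, Ne.symm n24]
      · simp only [List.mem_cons, List.not_mem_nil, or_false]
        rintro z (rfl | rfl | rfl)
        exacts [hmem _ m4, hmem _ m2, hmem _ mem_conjugatesOf_self]
      · simp only [List.mem_cons, List.not_mem_nil, or_false]
        rintro p (rfl | rfl | rfl) q (rfl | rfl | rfl)
        exacts [Commute.refl _, (c24.map e.toMonoidHom).symm, (c04.map e.toMonoidHom).symm, c24.map e.toMonoidHom,
          Commute.refl _, (c02.map e.toMonoidHom).symm, c04.map e.toMonoidHom, c02.map e.toMonoidHom, Commute.refl _]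
    obtain ⟨g, hg⟩ := Factor.triple_conj B ⟨hl, hlen⟩ hT
    refine main _ ⟨g, ?_⟩ triple_witness
    rw [← prod_conj, hg, map_mul, map_mul]
    simp

/-- The class is the only class of 3-transpositions generating the group. -/
theorem unique_class (hD : IsThreeTranspositionGroup D) (hprim : IsPrimitiveUnderConj D)
    (h22 : IsOfTypeM22 G D) {E : Set G} (hE : IsThreeTranspositionClass E) : E = D := by
  obtain ⟨⟨hord, hpair⟩, ⟨d', hd', hEeq⟩, -⟩ := hE
  obtain ⟨l, hl, h1, h3, hp⟩ := involution_factor hD hprim h22 (hord d' hd')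
  by_cases hlen : l.length = 1
  · obtain ⟨x, rfl⟩ := List.length_eq_one_iff.1 hlen
    rw [List.prod_singleton] at hp
    subst hp
    rw [hEeq]
    ext z
    refine ⟨fun hz => ?_, fun hz => isConj_iff.2 (hprim.1 x (hl.mem x (by simp)) z hz)⟩
    obtain ⟨g, rfl⟩ := isConj_iff.1 hz
    exact hD.2.1 g x (hl.mem x (by simp))
  · obtain ⟨c, hc2, hc3⟩ := no_class hD hprim h22 hl (by omega)
    rw [hp] at hc2 hc3
    have hcd : c * d' * c⁻¹ ∈ E := by rw [hEeq]; exact isConj_iff.2 ⟨c, rfl⟩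
    exact ((hpair d' hd' _ hcd).elim hc2 hc3).elim

end CfsgLib.Recog.FiM22Two
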