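import Mathlib.GroupTheory.Transfer
import Mathlib.Algebra.Group.TypeTags.Finite
import Mathlib.Data.ZMod.Basic

set_option autoImplicit false

/-!
A homomorphism to the group of order two on a subgroup of odd index which is trivial on the conjugates of a generating
set of involutions and is invariant on an element is trivial there (owner: helper6).
-/

namespace CfsgLib.Recog.FiM22Two

open MonoidHom

theorem eq_one_of_transfer {G : Type*} [Group G] [Finite G] {C : Subgroup G} (χ : C →* Multiplicative (ZMod 2))
    {D : Set G} (hgen : Subgroup.closure D = ⊤) (h2 : ∀ x ∈ D, x * x = 1)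
    (hDC : ∀ x ∈ D, ∀ (k : G) (h : k⁻¹ * x * k ∈ C), χ ⟨_, h⟩ = 1) (g : C)
    (hinv : ∀ (m : ℕ) (k : G) (h : k⁻¹ * (g : G) ^ m * k ∈ C), χ ⟨_, h⟩ = χ g ^ m)
    (hodd : Odd C.index) : χ g = 1 := by
  classical
  haveI : Subgroup.FiniteIndex C := Subgroup.finiteIndex_of_finite
  haveI : Fintype (G ⧸ C) := Fintype.ofFinite _
  have hV : ∀ x : G, transfer χ x = 1 := by
    intro x
    induction (hgen ▸ Subgroup.mem_top x : x ∈ Subgroup.closure D) using Subgroup.closure_induction with
    | mem x hx =>
      haveI : Fintype (Quotient (MulAction.orbitRel (Subgroup.zpowers x) (G ⧸ C))) := Fintype.ofFinite _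
      rw [transfer_eq_prod_quotient_orbitRel_zpowers_quot]
      refine Finset.prod_eq_one fun q _ => ?_
      have hm : Function.IsPeriodicPt (x • ·) 2 q.out := by
        show x • x • q.out = q.out
        rw [smul_smul, h2 x hx, one_smul]
      rcases (Nat.dvd_prime Nat.prime_two).1 hm.minimalPeriod_dvd with h | h
      · have hmem := QuotientGroup.out_conj_pow_minimalPeriod_mem C x q.out
        simp only [h, pow_one] at hmem ⊢
        exact hDC x hx _ hmem
      · simp only [h, pow_two, h2 x hx, mul_one, inv_mul_cancel]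
        exact map_one χ
    | one => exact map_one _
    | mul a b _ _ ha hb => rw [map_mul, ha, hb, one_mul]
    | inv a _ ha => rw [map_inv, ha, inv_one]
  haveI : Fintype (Quotient (MulAction.orbitRel (Subgroup.zpowers (g : G)) (G ⧸ C))) := Fintype.ofFinite _
  have h := hV g
  rw [transfer_eq_prod_quotient_orbitRel_zpowers_quot, Finset.prod_congr rfl fun q _ => hinv _ _ _,
    Finset.prod_pow_eq_pow_sum, ← Subgroup.index_eq_sum_minimalPeriod C (g : G)] at h
  obtain ⟨n, hn⟩ := hodd
  have hsq : ∀ z : Multiplicative (ZMod 2), z ^ 2 = 1 := by decide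
  rwa [hn, pow_add, pow_mul, hsq, one_pow, one_mul, pow_one] at h

end CfsgLib.Recog.FiM22Two
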