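import Cfsg.Agent.Lib.Recog.FiM22Two.TypeM23
import Cfsg.Agent.Lib.Recog.FiM22Two.Transfer
import Cfsg.Agent.Lib.Recog.FiM22Two.Involutions
import Cfsg.Agent.Lib.Recog.SporBound.Fi22Aut.Main
import Cfsg.Agent.Lib.Recog.FiM22.Factor.Fibre
import Cfsg.Agent.Lib.Recog.FiM22.ReadOff

set_option autoImplicit false
set_option maxRecDepth 20000

/-!
In a group of type M(23) the centralizer of a member is generated by its neighbours (owner: helper6).

An element of the centralizer outside that subgroup would induce an outer automorphism on the section; the resulting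
homomorphism to the group of order two is independent of the member, and its transfer to the whole group is trivial on
the class but, the class having odd size, nontrivial on that element.
-/

namespace CfsgLib.Recog.FiM22Two

open Cfsg CfsgLib.ThreeTrans CfsgLib.Recog.FiM22.Factor CfsgLib.Recog.SporBound

universe u

section General

variable {G : Type u} [Group G] [Finite G] {D : Set G}

/-- Two members noncommuting with `p` with the same common neighbours. -/
theorem fibre22 (hD : IsThreeTranspositionGroup D) (hprim : IsPrimitiveUnderConj D) (h22 : IsOfTypeM22 G D)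
    {p b b' : G} (hp : p ∈ D) (hb : b ∈ D) (hpb : ¬ Commute p b) (hb' : b' ∈ D) (hpb' : ¬ Commute p b')
    (h : ∀ w ∈ nb D p, Commute b w → Commute b' w) : b' = b ∨ b' = p * b * p := by
  obtain ⟨B⟩ := FiM22.exists_base_at hD hprim h22 hp
  obtain ⟨lab, L⟩ := B.exists_labelled
  exact two_in_fibre B L hb hpb hb' hpb' fun r hr hc => h _ (L.mem r hr) hc

/-- A member noncommuting with `d` commutes with some neighbour of `d`. -/
theorem exists_common_nb (S : RankThree.Setting D) {d y : G} (hd : d ∈ D) (hy : y ∈ D) (hdy : ¬ Commute d y) :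
    ∃ r ∈ nb D d, Commute r y := by
  obtain ⟨a, ha, b, hb, hab, hc⟩ := id S.width
  obtain ⟨g, hg⟩ := class_trans S.cls ha hd
  set e := g * b * g⁻¹ with he'
  have he : e ∈ nb D d := ⟨S.grp.2.1 g b hb,
    fun h => hab (mul_left_cancel (mul_right_cancel (hg.trans h.symm))), hg ▸ commute_conj_iff.2 hc⟩
  obtain ⟨f, hf, hef, hdf⟩ := S.exists_sep hd he.1 he.2.1
  obtain ⟨k, hk, hky⟩ := S.noncommute_transitive hd hf hdf hy hdy
  have hkd : k * d * k⁻¹ = d := by rw [hk.eq, mul_inv_cancel_right]
  refine ⟨k * e * k⁻¹, ⟨S.grp.2.1 k e he.1,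
    fun h => he.2.1 (mul_left_cancel (mul_right_cancel (h.trans hkd.symm))), ?_⟩, ?_⟩
  · rw [← hkd]; exact commute_conj_iff.2 he.2.2
  · rw [← hky]; exact commute_conj_iff.2 hef

end General

namespace Sec22

variable {G : Type u} [Group G] [Finite G] {D : Set G} {d : G} (S : Sec22 D d)
include S

theorem set3 : IsThreeTranspositionSet D := S.setting.grp.1

theorem inj {e f : G} (he : e ∈ nb D d) (hf : f ∈ nb D d) (h : im he = im hf) : e = f :=
  im_inj S.set3 (S.non e he) hf h

theorem comm_iff {e f : G} (he : e ∈ nb D d) (hf : f ∈ nb D d) : Commute (im he) (im hf) ↔ Commute e f :=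
  im_commute S.set3 (S.non e he) hf

theorem closure_comm {h : G} (hh : h ∈ Subgroup.closure (nb D d)) : Commute d h :=
  RankThree.commute_closure (fun _ hz => hz.2.2) hh

theorem conj_nb {k : G} (hk : Commute k d) {e : G} (he : e ∈ nb D d) : k * e * k⁻¹ ∈ nb D d := by
  have hkd : k * d * k⁻¹ = d := by rw [hk.eq, mul_inv_cancel_right]
  exact ⟨S.setting.grp.2.1 k e he.1, fun h => he.2.1 (mul_left_cancel (mul_right_cancel (h.trans hkd.symm))),
    by rw [← hkd]; exact commute_conj_iff.2 he.2.2⟩

theorem conj_closure {k : G} (hk : Commute k d) :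
    (Subgroup.closure (nb D d)).map (MulAut.conj k).toMonoidHom = Subgroup.closure (nb D d) := by
  rw [MonoidHom.map_closure]
  congr 1
  ext y
  constructor
  · rintro ⟨x, hx, rfl⟩; exact S.conj_nb hk hx
  · intro hy
    exact ⟨k⁻¹ * y * k, by simpa using S.conj_nb hk.inv_left hy, conj_cancel k y⟩

theorem center_G (hZ : Subgroup.center G = ⊥) {x : G} (h : ∀ y ∈ D, Commute x y) : x = 1 := by
  have := central_of_commute_class S.setting.cls (x := x) fun y hy => (h y hy).symm
  rwa [hZ, Subgroup.mem_bot] at this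

/-- An element fixing `d` and all its neighbours. -/
theorem fix_all (hZ : Subgroup.center G = ⊥) {g : G} (hgd : Commute g d)
    (hfix : ∀ e ∈ nb D d, Commute g e) : g = 1 ∨ g = d := by
  have hD := S.setting.grp
  have hgd' : g * d * g⁻¹ = d := by rw [hgd.eq, mul_inv_cancel_right]
  have hnon : ∀ y ∈ D, ¬ Commute d y → g * y * g⁻¹ = y ∨ g * y * g⁻¹ = d * y * d := by
    intro y hy hdy
    obtain ⟨r, hr, hry⟩ := exists_common_nb S.setting S.mem hy hdy
    set y' := g * y * g⁻¹ with hy'
    have hdy' : ¬ Commute d y' := fun h => hdy ((commute_conj_iff (g := g)).1 (by rw [hgd', ← hy']; exact h))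
    have hsame : ∀ t ∈ nb D d, Commute y t → Commute y' t := by
      intro t ht hyt
      have e : g * t * g⁻¹ = t := by rw [(hfix t ht).eq, mul_inv_cancel_right]
      rw [hy', ← e, commute_conj_iff]
      exact hyt
    obtain ⟨k, hk⟩ := class_trans S.setting.cls hr.1 S.mem
    have hin : ∀ {z : G}, z ∈ D → Commute r z → z ≠ r → k * z * k⁻¹ ∈ nb D d := fun {z} hz hc hne =>
      ⟨hD.2.1 k z hz, fun h => hne (mul_left_cancel (mul_right_cancel (h.trans hk.symm))),
        by rw [← hk]; exact commute_conj_iff.2 hc⟩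
    have hp := hin S.mem hr.2.2.symm hr.2.1.symm
    have hq := hin hy hry fun h => hdy (h ▸ hr.2.2)
    have hz := hin (hD.2.1 g y hy) (hsame r hr hry.symm).symm fun h => hdy' (by rw [hy', h]; exact hr.2.2)
    have key := fibre22 S.grp S.prim S.type (im_mem_set hp) (im_mem_set hq)
      (fun h => hdy (commute_conj_iff.1 ((S.comm_iff hp hq).1 h))) (im_mem_set hz)
      (fun h => hdy' (commute_conj_iff.1 ((S.comm_iff hp hz).1 h))) ?_
    · rcases key with h | h
      · exact Or.inl (mul_left_cancel (mul_right_cancel (S.inj hz hq h)))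
      · refine Or.inr ?_
        have hpk : Commute (k * d * k⁻¹) d := hp.2.2.symm
        have hin' : k * d * k⁻¹ * (k * y * k⁻¹) * (k * d * k⁻¹)⁻¹ ∈ nb D d := S.conj_nb hpk hq
        have himp : (im hp : SecG D d) * im hq * im hp = im hin' := by
          conv_lhs => arg 2; rw [show (im hp : SecG D d) = (im hp)⁻¹ from
            (inv_eq_of_mul_eq_one_right (im_mul_self S.set3 hp)).symm]
          rfl
        rw [himp] at h
        have e := S.inj hz hin' h
        refine mul_left_cancel (mul_right_cancel (e.trans ?_) : k * y' = k * (d * y * d))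
        rw [show k * d * k⁻¹ * (k * y * k⁻¹) * (k * d * k⁻¹)⁻¹ = k * (d * y * d⁻¹) * k⁻¹ by group,
          inv_eq S.set3 S.mem]
    · rintro w ⟨⟨⟨w', hw'⟩, hm, rfl⟩, hne, hc⟩ hqw
      have hw : w' ∈ nb D d := hm
      change im hw ≠ im hp at hne
      change Commute (im hp) (im hw) at hc
      change Commute (im hq) (im hw) at hqw
      show Commute (im hz) (im hw)
      rw [S.comm_iff hz hw]
      rw [S.comm_iff hp hw] at hc
      rw [S.comm_iff hq hw] at hqw
      set t := k⁻¹ * w' * k with ht'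
      have hkt : k * t * k⁻¹ = w' := conj_cancel k w'
      have ht : t ∈ nb D d := ⟨by simpa using hD.2.1 k⁻¹ w' hw.1, fun h => hne (by congr 1; simp [← hkt, h]), by
        rw [← commute_conj_iff (g := k), hkt]; exact hc⟩
      rw [← hkt, commute_conj_iff]
      exact hsame t ht (by rw [← commute_conj_iff (g := k), hkt]; exact hqw)
  by_cases hex : ∃ y ∈ D, ¬ Commute d y ∧ g * y * g⁻¹ = y
  · obtain ⟨y, hy, hdy, hgy⟩ := hex
    refine Or.inl (S.center_G hZ fun z hz => ?_)
    have htop := S.setting.max S.mem hy hdy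
    refine (RankThree.commute_closure (a := g) ?_ (htop ▸ Subgroup.mem_top z)).symm.symm
    rintro t (⟨htD, hdt⟩ | rfl)
    · by_cases e : t = d
      · exact e ▸ hgd
      · exact hfix t ⟨htD, e, hdt⟩
    · exact mul_inv_eq_iff_eq_mul.1 hgy
  · push Not at hex
    refine Or.inr ?_
    have h1 : d * g = 1 := S.center_G hZ fun z hz => by
      by_cases hdz : Commute d z
      · refine hdz.mul_left ?_
        by_cases e : z = d
        · exact e ▸ hgd
        · exact hfix z ⟨hz, e, hdz⟩
      · have e := (hnon z hz hdz).resolve_left (hex z hz hdz)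
        refine mul_inv_eq_iff_eq_mul.1 ?_
        calc d * g * z * (d * g)⁻¹ = d * (g * z * g⁻¹) * d⁻¹ := by group
          _ = d * (d * z * d) * d⁻¹ := by rw [e]
          _ = d * d * z := by group
          _ = z := by rw [mul_self S.set3 S.mem, one_mul]
    rw [eq_inv_of_mul_eq_one_right h1, inv_eq S.set3 S.mem]

/-- The induced automorphism of the section. -/
noncomputable def secAut {k : G} (hk : Commute k d) : MulAut (SecG D d) :=
  let ι : ↥(Subgroup.closure (nb D d)) ≃* ↥(Subgroup.closure (nb D d)) :=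
    ((Subgroup.closure (nb D d)).equivMapOfInjective _ (MulAut.conj k).injective).trans
      (MulEquiv.subgroupCongr (S.conj_closure hk))
  QuotientGroup.congr _ _ ι (by
    ext x
    constructor
    · rintro ⟨y, hy, rfl⟩
      refine Subgroup.mem_center_iff.2 fun z => ι.symm.injective ?_
      rw [map_mul, map_mul]
      simpa using Subgroup.mem_center_iff.1 hy (ι.symm z)
    · intro hx
      refine ⟨ι.symm x, Subgroup.mem_center_iff.2 fun z => ι.injective ?_, by simp⟩
      rw [map_mul, map_mul]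
      simpa using Subgroup.mem_center_iff.1 hx (ι z))

theorem secAut_im {k : G} (hk : Commute k d) {e : G} (he : e ∈ nb D d) :
    S.secAut hk (im he) = im (S.conj_nb hk he) := rfl

theorem secAut_mul {k l : G} (hk : Commute k d) (hl : Commute l d) :
    S.secAut (hk.mul_left hl) = S.secAut hk * S.secAut hl := by
  refine MulEquiv.ext fun q => ?_
  obtain ⟨⟨x, hx⟩, rfl⟩ := QuotientGroup.mk_surjective q
  refine congrArg (QuotientGroup.mk (s := Subgroup.center ↥(Subgroup.closure (nb D d)))) (Subtype.ext ?_)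
  show k * l * x * (k * l)⁻¹ = k * (l * x * l⁻¹) * k⁻¹
  group

theorem secAut_one {k : G} (hk : Commute k d) (h : k = 1) : S.secAut hk = 1 := by
  subst h
  refine MulEquiv.ext fun q => ?_
  obtain ⟨⟨x, hx⟩, rfl⟩ := QuotientGroup.mk_surjective q
  refine congrArg (QuotientGroup.mk (s := Subgroup.center ↥(Subgroup.closure (nb D d)))) (Subtype.ext ?_)
  show 1 * x * 1⁻¹ = x
  group

theorem secAut_inv {k : G} (hk : Commute k d) : S.secAut hk.inv_left = (S.secAut hk)⁻¹ := by
  refine eq_inv_of_mul_eq_one_left ?_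
  rw [← S.secAut_mul hk.inv_left hk]
  exact S.secAut_one _ (inv_mul_cancel k)

theorem sec_eq : secSet D d \ {1} = secSet D d := by
  refine Set.sdiff_singleton_eq_self fun hm => ?_
  obtain ⟨⟨e, he⟩, hme, h1⟩ := hm
  exact (S.non e hme).im_ne_one h1

theorem noRel_six : NoRel D 6 := by
  obtain ⟨a, b, ⟨P⟩⟩ := exists_pre S.type (secGrp S.setting.grp)
  exact noRel_succ ⟨S.setting.grp, fun a ha b hb => class_trans S.setting.cls ha hb⟩ S.mem S.non
    (P.noRel (by norm_num) le_rfl)

/-- The member lies in the subgroup of its neighbours. -/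
theorem mem_closure (hZ : Subgroup.center G = ⊥) : d ∈ Subgroup.closure (nb D d) := by
  obtain ⟨a, b, ⟨P⟩⟩ := exists_pre S.type (secGrp S.setting.grp)
  have hp : IsPrimitiveUnderConj (secSet D d \ {1}) := S.sec_eq.symm ▸ S.prim
  obtain ⟨e, he⟩ := FiM22.identify_of_type S.grp S.prim S.type
  obtain ⟨n02, n04, n24, c02, c04, c24, m2, m4⟩ := letters_ok
  have hmem : ∀ z ∈ conjugatesOf (Fi22Group.a 0), e z ∈ secSet D d \ {1} :=
    fun z hz => S.sec_eq.symm ▸ (he ▸ ⟨z, hz, rfl⟩ : e z ∈ secSet D d)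
  obtain ⟨g, hg⟩ := hp.1 _ (hmem _ mem_conjugatesOf_self) a P.mema
  have hnb : ∀ z ∈ conjugatesOf (Fi22Group.a 0), Fi22Group.a 0 ≠ z → Commute (Fi22Group.a 0) z →
      g * e z * g⁻¹ ∈ nb (secSet D d \ {1}) a := fun z hz hne hc =>
    ⟨P.grp.2.1 g _ (hmem z hz),
      fun h => hne (e.injective (mul_left_cancel (mul_right_cancel (hg.trans h.symm)))),
      by rw [← hg]; exact commute_conj_iff.2 (hc.map e.toMonoidHom)⟩
  obtain ⟨u, v, w, hl, hprod⟩ := six_exists hp P (hnb _ m2 n02 c02) (hnb _ m4 n04 c04)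
    (fun h => n24 (e.injective (mul_left_cancel (mul_right_cancel h))))
    (commute_conj_iff.2 (c24.map e.toMonoidHom))
  generalize hL : [a, g * e (Fi22Group.a 2) * g⁻¹, g * e (Fi22Group.a 4) * g⁻¹, u, v, w] = l at hl hprod
  have hex : ∀ q ∈ l, ∃ x : G, ∃ hx : x ∈ nb D d, im hx = q := fun q hq => by
    obtain ⟨x, hx, rfl⟩ := exists_of_mem_sec (hl.mem q hq)
    exact ⟨x, hx.1, rfl⟩
  choose x hx himx using hex
  let t : List ↥(Subgroup.closure (nb D d)) := l.attach.map fun q => ⟨x q.1 q.2, Subgroup.subset_closure (hx q.1 q.2)⟩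
  have ht : t.map (QuotientGroup.mk' (Subgroup.center ↥(Subgroup.closure (nb D d)))) = l := by
    simp only [t, List.map_map]
    conv_rhs => rw [← List.attach_map_subtype_val l]
    refine List.map_congr_left fun q _ => ?_
    exact himx q.1 q.2
  have hcen : t.prod ∈ Subgroup.center _ := by
    rw [← QuotientGroup.eq_one_iff]
    show QuotientGroup.mk' _ t.prod = 1
    rw [map_list_prod, ht, hprod]
  set z : G := Subtype.val t.prod with hz
  have hzH : z ∈ Subgroup.closure (nb D d) := t.prod.2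
  have hcl : ComList D (t.map Subtype.val) := by
    refine ⟨?_, ?_, ?_⟩
    · refine List.Nodup.map Subtype.val_injective (List.Nodup.of_map (QuotientGroup.mk' (Subgroup.center ↥(Subgroup.closure (nb D d)))) ?_)
      rw [ht]; exact hl.nodup
    · simp only [t, List.map_map, List.mem_map, List.mem_attach, true_and]
      rintro _ ⟨q, rfl⟩
      exact (hx q.1 q.2).1
    · simp only [t, List.map_map, List.mem_map, List.mem_attach, true_and]
      rintro _ ⟨q, rfl⟩ _ ⟨r, rfl⟩
      refine (S.comm_iff (hx q.1 q.2) (hx r.1 r.2)).1 ?_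
      rw [himx, himx]
      exact hl.comm _ q.2 _ r.2
  rcases S.fix_all hZ (S.closure_comm hzH).symm (fun f hf => (congrArg Subtype.val
    (Subgroup.mem_center_iff.1 hcen ⟨f, Subgroup.subset_closure hf⟩)).symm) with h | h
  · refine absurd ?_ (S.noRel_six _ hcl (by simp [t, ← hL]))
    rw [← Subgroup.val_list_prod]
    exact h
  · exact h ▸ hzH

/-- An element inducing an inner automorphism lies in the subgroup of the neighbours. -/
theorem mem_of_inner (hZ : Subgroup.center G = ⊥) {k : G} (hk : Commute k d) {q : SecG D d}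
    (h : S.secAut hk = MulAut.conj q) : k ∈ Subgroup.closure (nb D d) := by
  obtain ⟨⟨l, hl⟩, rfl⟩ := QuotientGroup.mk_surjective q
  have hld := (S.closure_comm hl).symm
  have hfix : ∀ e ∈ nb D d, Commute (l⁻¹ * k) e := by
    intro e he
    have h1 : S.secAut hk (im he) = im (S.conj_nb hld he) := by rw [h]; rfl
    rw [S.secAut_im hk he] at h1
    have h2 := S.inj _ _ h1
    refine mul_inv_eq_iff_eq_mul.1 ?_
    calc l⁻¹ * k * e * (l⁻¹ * k)⁻¹ = l⁻¹ * (k * e * k⁻¹) * l := by group
      _ = e := by rw [h2]; group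
  have hm : l⁻¹ * k ∈ Subgroup.closure (nb D d) := by
    rcases S.fix_all hZ (hld.inv_left.mul_left hk) hfix with e | e
    · rw [e]; exact one_mem _
    · rw [e]; exact S.mem_closure hZ
  simpa using mul_mem hl hm

theorem secAut_inner {k : G} (hk : k ∈ Subgroup.closure (nb D d)) :
    S.secAut (S.closure_comm hk).symm = MulAut.conj (QuotientGroup.mk ⟨k, hk⟩ : SecG D d) := by
  refine MulEquiv.ext fun q => ?_
  obtain ⟨⟨x, hx⟩, rfl⟩ := QuotientGroup.mk_surjective q
  rfl

/-- The subgroup of the neighbours has index at most two in the centralizer. -/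
theorem mul_mem_of_not (hZ : Subgroup.center G = ⊥) {k l : G} (hk : Commute k d) (hl : Commute l d)
    (nk : k ∉ Subgroup.closure (nb D d)) (nl : l ∉ Subgroup.closure (nb D d)) :
    k * l ∈ Subgroup.closure (nb D d) := by
  obtain ⟨e, -⟩ := FiM22.identify_of_type S.grp S.prim S.type
  let Φ : MulAut Spor.Fi22 ≃* MulAut (SecG D d) := MulAut.congr e
  have hinn : ∀ (m : G) (hm : Commute m d) (γ : Spor.Fi22), Φ.symm (S.secAut hm) = MulAut.conj γ →
      m ∈ Subgroup.closure (nb D d) := by
    intro m hm γ hγ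
    refine S.mem_of_inner hZ hm (q := e γ) ?_
    rw [MulEquiv.symm_apply_eq] at hγ
    rw [hγ]
    refine MulEquiv.ext fun q => ?_
    show e (γ * e.symm q * γ⁻¹) = e γ * q * (e γ)⁻¹
    rw [map_mul, map_mul, map_inv, MulEquiv.apply_symm_apply]
  set K := Φ.symm (S.secAut hk)
  set L := Φ.symm (S.secAut hl)
  have hne : ∀ (m : G) (hm : Commute m d), m ∉ Subgroup.closure (nb D d) →
      (QuotientGroup.mk (Φ.symm (S.secAut hm)) : Cfsg.Out Spor.Fi22) ≠ 1 := fun m hm hn h => by
    obtain ⟨γ, hγ⟩ := (QuotientGroup.eq_one_iff _).1 h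
    exact hn (hinn m hm γ hγ.symm)
  obtain ⟨o, -, ho⟩ := (Nat.card_eq_two_iff' (1 : Cfsg.Out Spor.Fi22)).1 Fi22Aut.card_out
  have hkk : (QuotientGroup.mk (Φ.symm (S.secAut hk.inv_left)) : Cfsg.Out Spor.Fi22) ≠ 1 :=
    hne _ hk.inv_left fun h => nk (by simpa using inv_mem h)
  have he := (ho _ hkk).trans (ho _ (hne l hl nl)).symm
  obtain ⟨γ, hγ⟩ := (QuotientGroup.eq_iff_div_mem.1 he : _ ∈ Cfsg.Inn Spor.Fi22)
  have hd' : Φ.symm (S.secAut hk.inv_left) / Φ.symm (S.secAut hl) =
      Φ.symm (S.secAut (hk.inv_left.mul_left hl.inv_left)) := by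
    rw [S.secAut_mul hk.inv_left hl.inv_left, S.secAut_inv hl, map_mul, map_inv Φ.symm (S.secAut hl), div_eq_mul_inv]
  have := inv_mem (hinn _ _ γ (hd'.symm.trans hγ.symm))
  rw [mul_inv_rev, inv_inv, inv_inv] at this
  have h2 : k * l = k * (l * k) * k⁻¹ := by group
  rw [h2]
  have := S.conj_closure hk ▸ Subgroup.mem_map_of_mem (MulAut.conj k).toMonoidHom this
  exact this

/-- The centralizer of a commuting pair of members is seen from both. -/
theorem mem_other (hZ : Subgroup.center G = ⊥) {e g : G} (he : e ∈ nb D d) (hge : Commute g e)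
    (hg : g ∈ Subgroup.closure (nb D d)) : g ∈ Subgroup.closure (nb D e) := by
  obtain ⟨B⟩ := FiM22.exists_base_at S.grp S.prim S.type (im_mem_set he)
  set q : SecG D d := QuotientGroup.mk ⟨g, hg⟩
  have hq : q ∈ Subgroup.centralizer ({im he} : Set (SecG D d)) :=
    Subgroup.mem_centralizer_singleton_iff.2 (congrArg QuotientGroup.mk
      (Subtype.ext hge.eq : (⟨g, hg⟩ : ↥(Subgroup.closure (nb D d))) * ⟨e, Subgroup.subset_closure he⟩ =
        ⟨e, Subgroup.subset_closure he⟩ * ⟨g, hg⟩))
  rw [← B.centralizer_eq] at hq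
  have hle : Subgroup.closure (FiM22.nbrs (secSet D d) (im he)) ≤
      ((Subgroup.closure (nb D e)).subgroupOf (Subgroup.closure (nb D d))).map (QuotientGroup.mk' _) := by
    rw [Subgroup.closure_le]
    rintro _ ⟨⟨⟨f, hf⟩, hm, rfl⟩, hne, hc⟩
    have hf' : f ∈ nb D d := hm
    change im hf' ≠ im he at hne
    change Commute (im he) (im hf') at hc
    exact ⟨⟨f, hf⟩, Subgroup.subset_closure ⟨hf'.1, fun h => hne (by subst h; rfl), (S.comm_iff he hf').1 hc⟩, rfl⟩
  obtain ⟨⟨h, hh⟩, hhe, hhq⟩ := hle hq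
  have hz : (⟨h, hh⟩⁻¹ * ⟨g, hg⟩ : ↥(Subgroup.closure (nb D d))) ∈ Subgroup.center _ :=
    QuotientGroup.eq.1 hhq
  have hhe' : h ∈ Subgroup.closure (nb D e) := hhe
  rcases S.fix_all hZ (S.closure_comm (mul_mem (inv_mem hh) hg)).symm (fun f hf => (congrArg Subtype.val
    (Subgroup.mem_center_iff.1 hz ⟨f, Subgroup.subset_closure hf⟩)).symm) with e1 | e1
  · rw [show g = h by rw [← mul_inv_cancel_left h g, e1, mul_one]]; exact hhe'
  · rw [show g = h * d by rw [← e1, mul_inv_cancel_left]]
    exact mul_mem hhe' (Subgroup.subset_closure ⟨S.mem, he.2.1.symm, he.2.2.symm⟩)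

theorem conj_mem_iff {k y x : G} (hk : k * d * k⁻¹ = y) :
    k * x * k⁻¹ ∈ Subgroup.closure (nb D y) ↔ x ∈ Subgroup.closure (nb D d) := by
  rw [← hk, ← closure_nb_conj S.setting.grp k d]
  exact Subgroup.mem_map_iff_mem (MulAut.conj k).injective (K := Subgroup.closure (nb D d)) (x := x)

/-- Membership does not depend on the member. -/
theorem agree (hZ : Subgroup.center G = ⊥) {y g k : G} (hy : y ∈ D) (hk : k * d * k⁻¹ = y) (hgd : Commute g d)
    (hgy : Commute g y) : k⁻¹ * g * k ∈ Subgroup.closure (nb D d) ↔ g ∈ Subgroup.closure (nb D d) := by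
  rw [← S.conj_mem_iff hk, conj_cancel]
  by_cases e : y = d
  · rw [e]
  by_cases hc : Commute d y
  · refine ⟨fun h => ?_, S.mem_other hZ ⟨hy, e, hc⟩ hgy⟩
    have h' : k⁻¹ * g * k ∈ Subgroup.closure (nb D d) := by rwa [← S.conj_mem_iff hk, conj_cancel]
    have hd : k * (k⁻¹ * d * k) * k⁻¹ = d := conj_cancel k d
    have he' : k⁻¹ * d * k ∈ nb D d := ⟨by simpa using S.setting.grp.2.1 k⁻¹ d S.mem,
      fun h => e (by rw [← hk]; conv_lhs => rw [← h]
                     exact hd),
      by rw [← commute_conj_iff (g := k), hk, hd]; exact hc.symm⟩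
    have hcg : Commute (k⁻¹ * g * k) (k⁻¹ * d * k) := by
      rw [← commute_conj_iff (g := k), conj_cancel, conj_cancel]; exact hgd
    have := S.mem_other hZ he' hcg h'
    rw [← conj_cancel k g]
    have h3 := Subgroup.mem_map_of_mem (MulAut.conj k).toMonoidHom this
    rw [closure_nb_conj S.setting.grp, hd] at h3
    exact h3
  · have hk' : d * y * d * (d * y)⁻¹ = y := by
      rw [mul_inv_rev, inv_eq S.set3 hy, inv_eq S.set3 S.mem]
      calc d * y * d * (y * d) = d * y * d * y * d := by simp only [mul_assoc]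
        _ = y := by
          rw [braid S.set3 S.mem hy hc]
          simp only [mul_assoc, mul_self_assoc S.set3 hy, mul_self S.set3 S.mem, mul_one]
    have := S.conj_mem_iff (x := g) hk'
    rwa [show d * y * g * (d * y)⁻¹ = g by
      rw [((hgd.symm).mul_left hgy.symm).eq, mul_inv_cancel_right]] at this

/-- The members commuting with `d` number one more than the neighbours. -/
theorem even_noncommuting : Even {y : G | y ∈ D ∧ ¬ Commute d y}.ncard := by
  classical
  haveI : Fact (Nat.Prime 2) := ⟨Nat.prime_two⟩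
  let N : Set G := {y : G | y ∈ D ∧ ¬ Commute d y}
  by_cases hfin : N.Finite
  swap
  · simp [N, Set.Infinite.ncard hfin]
  haveI : Fintype N := hfin.fintype
  have hdd : d * d = 1 := mul_self S.set3 S.mem
  have hd : d * d * d⁻¹ = d := by group
  let f : Function.End N := fun y => ⟨d * y * d⁻¹, S.setting.grp.2.1 d y y.2.1,
    fun h => y.2.2 ((commute_conj_iff (g := d)).1 (by rw [hd]; exact h))⟩
  have hf : f ^ 2 ^ 1 = 1 := by
    funext y
    refine Subtype.ext ?_
    show d * (d * (y : G) * d⁻¹) * d⁻¹ = y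
    rw [inv_eq S.set3 S.mem, ← mul_assoc, mul_assoc _ d d, hdd, mul_one, ← mul_assoc, hdd, one_mul]
  have := Equiv.Perm.card_fixedPoints_modEq hf
  have h0 : Fintype.card (Function.fixedPoints (f : N → N)) = 0 := Fintype.card_eq_zero_iff.2 ⟨fun y =>
    y.1.2.2 (mul_inv_eq_iff_eq_mul.1 (congrArg Subtype.val y.2))⟩
  rw [h0, Nat.modEq_zero_iff_dvd, ← Nat.card_eq_fintype_card, Nat.card_coe_set_eq] at this
  exact even_iff_two_dvd.2 this

theorem odd_class : Odd D.ncard := by
  have hsplit : D = insert d (nb D d ∪ {y : G | y ∈ D ∧ ¬ Commute d y}) := by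
    ext y
    constructor
    · intro hy
      by_cases e : y = d
      · exact Or.inl e
      · by_cases hc : Commute d y
        · exact Or.inr (Or.inl ⟨hy, e, hc⟩)
        · exact Or.inr (Or.inr ⟨hy, hc⟩)
    · rintro (rfl | h | h)
      exacts [S.mem, h.1, h.1]
  have hdis : Disjoint (nb D d) {y : G | y ∈ D ∧ ¬ Commute d y} :=
    Set.disjoint_left.2 fun y h1 h2 => h2.2 h1.2.2
  have hnd : d ∉ nb D d ∪ {y : G | y ∈ D ∧ ¬ Commute d y} := by
    rintro (h | h)
    exacts [h.2.1 rfl, h.2 (Commute.refl d)]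
  have hcard : (nb D d).ncard = 3510 := by
    rw [← FiM22.card_class S.grp S.prim S.type]
    refine Set.ncard_congr (fun e he => im he) (fun e he => im_mem_set he) (fun e f he hf h => S.inj he hf h) ?_
    rintro q ⟨⟨f, hf⟩, hm, rfl⟩
    exact ⟨f, hm, rfl⟩
  rw [hsplit, Set.ncard_insert_of_notMem hnd, Set.ncard_union_eq hdis, hcard]
  obtain ⟨n, hn⟩ := S.even_noncommuting
  exact ⟨1755 + n, by rw [hn]; ring⟩

theorem index_centralizer : (Subgroup.centralizer ({d} : Set G)).index = D.ncard := by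
  rw [Subgroup.index, ← Nat.card_coe_set_eq]
  refine Nat.card_congr (Equiv.ofBijective
    (Quotient.lift (fun g : G => (⟨g * d * g⁻¹, S.setting.grp.2.1 g d S.mem⟩ : D)) fun a b hab => ?_) ⟨?_, ?_⟩)
  · have h := Subgroup.mem_centralizer_singleton_iff.1 (QuotientGroup.leftRel_apply.1 hab)
    refine Subtype.ext ?_
    show a * d * a⁻¹ = b * d * b⁻¹
    calc a * d * a⁻¹ = a * (a⁻¹ * b * d * (a⁻¹ * b)⁻¹) * a⁻¹ := by rw [h]; group
      _ = _ := by group
  · intro p q
    induction p using Quotient.inductionOn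
    induction q using Quotient.inductionOn
    rename_i a b
    intro h
    have h' : a * d * a⁻¹ = b * d * b⁻¹ := congrArg Subtype.val h
    refine Quotient.sound (QuotientGroup.leftRel_apply.2 (Subgroup.mem_centralizer_singleton_iff.2 ?_))
    refine mul_inv_eq_iff_eq_mul.1 ?_
    calc a⁻¹ * b * d * (a⁻¹ * b)⁻¹ = a⁻¹ * (b * d * b⁻¹) * a := by group
      _ = d := by rw [← h']; group
  · rintro ⟨y, hy⟩
    obtain ⟨g, hg⟩ := class_trans S.setting.cls S.mem hy
    exact ⟨QuotientGroup.mk g, Subtype.ext hg⟩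

/-- The centralizer of a member is generated by its neighbours. -/
theorem centralizer_eq (hZ : Subgroup.center G = ⊥) :
    Subgroup.centralizer ({d} : Set G) = Subgroup.closure (nb D d) := by
  classical
  set H := Subgroup.closure (nb D d)
  set C := Subgroup.centralizer ({d} : Set G)
  refine le_antisymm (fun g hg => ?_) fun h hh => Subgroup.mem_centralizer_singleton_iff.2 (S.closure_comm hh).eq.symm
  have hC : ∀ x : C, Commute (x : G) d := fun x => Subgroup.mem_centralizer_singleton_iff.1 x.2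
  let χ : C →* Multiplicative (ZMod 2) := {
    toFun := fun x => if (x : G) ∈ H then 1 else Multiplicative.ofAdd 1
    map_one' := if_pos (one_mem H)
    map_mul' := fun x y => by
      simp only [Subgroup.coe_mul]
      by_cases hx : (x : G) ∈ H <;> by_cases hy : (y : G) ∈ H
      · simp [hx, hy, mul_mem hx hy]
      · simp [hx, hy, Subgroup.mul_mem_cancel_left H hx]
      · simp [hx, hy, Subgroup.mul_mem_cancel_right H hy]
      · rw [if_pos (S.mul_mem_of_not hZ (hC x) (hC y) hx hy), if_neg hx, if_neg hy]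
        decide }
  have hχ : ∀ x : C, χ x = 1 ↔ (x : G) ∈ H := fun x => by
    show (if (x : G) ∈ H then (1 : Multiplicative (ZMod 2)) else Multiplicative.ofAdd 1) = 1 ↔ _
    by_cases hx : (x : G) ∈ H <;> simp [hx]
  have hgd : Commute g d := hC ⟨g, hg⟩
  refine (hχ ⟨g, hg⟩).1 (eq_one_of_transfer χ S.setting.grp.2.2 (fun x hx => mul_self S.set3 hx) ?_ ⟨g, hg⟩ ?_ ?_)
  · intro x hx k h
    refine (hχ _).2 ?_
    by_cases e : k⁻¹ * x * k = d
    · show k⁻¹ * x * k ∈ H
      rw [e]; exact S.mem_closure hZ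
    · exact Subgroup.subset_closure ⟨by simpa using S.setting.grp.2.1 k⁻¹ x hx, e, (hC ⟨_, h⟩).symm⟩
  · intro m k h
    have hy : Commute (g ^ m) (k * d * k⁻¹) := by
      have := (commute_conj_iff (g := k)).2 (hC ⟨_, h⟩)
      rwa [conj_cancel] at this
    rw [← map_pow]
    by_cases hm : g ^ m ∈ H
    · rw [(hχ _).2 ((S.agree hZ (S.setting.grp.2.1 k d S.mem) rfl (hgd.pow_left m) hy).2 hm), (hχ _).2 (by simpa using hm)]
    · have h1 : k⁻¹ * g ^ m * k ∉ H := fun h' => hm ((S.agree hZ (S.setting.grp.2.1 k d S.mem) rfl (hgd.pow_left m) hy).1 h')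
      show (if _ then _ else _) = (if _ then _ else _)
      rw [if_neg h1, if_neg (by simpa using hm)]
  · rw [S.index_centralizer]; exact S.odd_class

end Sec22

end CfsgLib.Recog.FiM22Two
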