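import Cfsg.Agent.Lib.Recog.FiM22.Factor.Top
import Cfsg.Agent.Lib.Core.Cores
import Cfsg.Agent.Lib.ThreeTrans.WidthOneThm
import Cfsg.Agent.Lib.ThreeTrans.ReflectionsF3Prim
import Cfsg.Agent.S5361

set_option autoImplicit false

/-!
The section at a member of a primitive group of 3-transpositions is again primitive when the joint centraliser
section of a non-commuting pair is not solvable (owner: helper6).
-/

namespace CfsgLib.Recog.FiM22Two

open Cfsg CfsgLib.ThreeTrans CfsgLib.Recog.FiM22.Factor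

universe u

/-- Central cores give a core-free central quotient. -/
theorem pCore_quot_center_bot {H : Type u} [Group H] [Finite H] {p : ℕ} [Fact p.Prime]
    (h : Cfsg.pCore p H ≤ Subgroup.center H) : Cfsg.pCore p (H ⧸ Subgroup.center H) = ⊥ := by
  set π := QuotientGroup.mk' (Subgroup.center H) with hπ
  set M := Cfsg.pCore p (H ⧸ Subgroup.center H)
  set P := M.comap π
  haveI : P.Normal := (inferInstance : M.Normal).comap π
  let f : ↥P →* ↥M := (π.comp P.subtype).codRestrict M fun x => x.2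
  have hf : f.ker ≤ Subgroup.center ↥P := fun x hx => by
    have h1 : π (x : H) = 1 := congrArg Subtype.val (MonoidHom.mem_ker.1 hx)
    rw [hπ, QuotientGroup.mk'_apply, QuotientGroup.eq_one_iff] at h1
    exact Subgroup.mem_center_iff.2 fun y => Subtype.ext (Subgroup.mem_center_iff.1 h1 y)
  haveI := (CfsgLib.Core.isPGroup_pCore p (H ⧸ Subgroup.center H)).isNilpotent
  haveI : Group.IsNilpotent ↥P := Subgroup.isNilpotent_of_ker_le_center f hf
  have hP : P ≤ Subgroup.center H := by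
    intro x hx
    obtain ⟨k, hk⟩ := CfsgLib.Core.isPGroup_pCore p (H ⧸ Subgroup.center H) ⟨π x, hx⟩
    have hxk : x ^ p ^ k ∈ Subgroup.center H := by
      rw [← QuotientGroup.eq_one_iff, QuotientGroup.mk_pow]
      exact congrArg Subtype.val hk
    obtain ⟨S⟩ : Nonempty (Sylow p ↥P) := inferInstance
    haveI hSn : (S : Subgroup ↥P).Normal := inferInstance
    haveI : (S : Subgroup ↥P).Characteristic := S.characteristic_of_normal hSn
    haveI : ((S : Subgroup ↥P).map P.subtype).Normal := inferInstance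
    have hS : ((S : Subgroup ↥P).map P.subtype) ≤ Subgroup.center H :=
      (CfsgLib.Core.le_pCore (S.isPGroup'.map P.subtype)).trans h
    let y : ↥P := ⟨x, hx⟩
    obtain ⟨a, m, hm, ho⟩ := Nat.exists_eq_pow_mul_and_not_dvd (orderOf_pos y).ne' p (Fact.out : p.Prime).ne_one
    have hym : y ^ m ∈ (S : Subgroup ↥P) := by
      have hz : IsPGroup p ↥(Subgroup.zpowers (y ^ m)) := by
        intro ⟨w, hw⟩
        refine ⟨a, Subtype.ext ?_⟩
        obtain ⟨i, rfl⟩ := hw
        simp only [SubmonoidClass.coe_pow, OneMemClass.coe_one]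
        rw [← zpow_natCast (_ ^ i), ← zpow_mul, mul_comm, zpow_mul, zpow_natCast, ← pow_mul,
          mul_comm m, ← ho, pow_orderOf_eq_one, one_zpow]
      obtain ⟨S', hS'⟩ := hz.exists_le_sylow
      haveI : Unique (Sylow p ↥P) := Sylow.unique_of_normal S hSn
      rw [Subsingleton.elim S S']
      exact hS' (Subgroup.mem_zpowers _)
    have hxm : x ^ m ∈ Subgroup.center H := hS ⟨y ^ m, hym, rfl⟩
    have hcop : (p ^ k).Coprime m :=
      ((Fact.out : p.Prime).coprime_iff_not_dvd.2 hm).pow_left k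
    have hb := Nat.gcd_eq_gcd_ab (p ^ k) m
    rw [hcop] at hb
    rw [show x = x ^ ((1 : ℕ) : ℤ) by simp, hb, zpow_add, zpow_mul, zpow_mul, zpow_natCast, zpow_natCast]
    exact mul_mem (zpow_mem hxk _) (zpow_mem hxm _)
  refine le_bot_iff.1 fun q hq => ?_
  obtain ⟨x, rfl⟩ := QuotientGroup.mk'_surjective (Subgroup.center H) q
  exact Subgroup.mem_bot.2 ((QuotientGroup.eq_one_iff x).2 (hP hq))

variable {G : Type u} [Group G] [Finite G] {D : Set G}

theorem closure_nb_conj (hD : IsThreeTranspositionGroup D) (g d : G) :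
    (Subgroup.closure (nb D d)).map (MulAut.conj g).toMonoidHom = Subgroup.closure (nb D (g * d * g⁻¹)) := by
  rw [MonoidHom.map_closure]
  congr 1
  ext y
  constructor
  · rintro ⟨x, ⟨hx, hne, hc⟩, rfl⟩
    exact ⟨hD.2.1 g x hx, fun e => hne (mul_left_cancel (mul_right_cancel e)), commute_conj_iff.2 hc⟩
  · rintro ⟨hy, hne, hc⟩
    refine ⟨g⁻¹ * y * g, ⟨by simpa using hD.2.1 g⁻¹ y hy, fun e => hne ?_, ?_⟩, conj_cancel g y⟩
    · rw [← e, conj_cancel]
    · rw [← commute_conj_iff (g := g), conj_cancel]; exact hc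

theorem core_at (hD : IsThreeTranspositionGroup D) (hprim : IsPrimitiveUnderConj D) {p : ℕ} [Fact p.Prime] {d₀ : G}
    (hd₀ : d₀ ∈ D) (h : Cfsg.pCore p ↥(Subgroup.closure (nb D d₀)) ≤ Subgroup.center ↥(Subgroup.closure (nb D d₀)))
    {d : G} (hd : d ∈ D) : Cfsg.pCore p (SecG D d) = ⊥ := by
  obtain ⟨g, rfl⟩ := hprim.1 d₀ hd₀ d hd
  refine pCore_quot_center_bot ?_
  let ι : ↥(Subgroup.closure (nb D d₀)) ≃* ↥(Subgroup.closure (nb D (g * d₀ * g⁻¹))) :=
    ((Subgroup.closure (nb D d₀)).equivMapOfInjective _ (MulAut.conj g).injective).trans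
      (MulEquiv.subgroupCongr (closure_nb_conj hD g d₀))
  rw [← CfsgLib.Core.map_equiv_pCore ι]
  rintro _ ⟨x, hx, rfl⟩
  refine Subgroup.mem_center_iff.2 fun y => ι.symm.injective ?_
  rw [map_mul, map_mul]
  simpa using Subgroup.mem_center_iff.1 (h hx) (ι.symm y)

/-- Two neighbours of `d` are joined by commuting neighbours. -/
theorem nb_connected (hD : IsThreeTranspositionGroup D) (S : RankThree.Setting D) {d₁ c₁ : G} (hd₁ : d₁ ∈ D)
    (hc₁ : c₁ ∈ D) (hnc : ¬ Commute d₁ c₁) (hns : ¬ Group.IsSolvable ↥(Subgroup.closure (nb D d₁ ∩ nb D c₁)))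
    {d a y : G} (hd : d ∈ D) (ha : a ∈ nb D d) (hy : y ∈ nb D d) :
    Commute a y ∨ ∃ s ∈ nb D d, s ≠ a ∧ Commute a s ∧ Commute s y := by
  by_contra hno
  push Not at hno
  obtain ⟨hay, hs⟩ := hno
  have hS := hD.1
  -- the pair of the definition
  obtain ⟨g₁, hg₁⟩ := class_trans S.cls ha.1 hd₁
  have hnc' : ¬ Commute d₁ (g₁ * y * g₁⁻¹) := by rw [← hg₁, commute_conj_iff]; exact hay
  obtain ⟨g₂, hg₂, hgy⟩ := S.noncommute_transitive hd₁ (hD.2.1 g₁ y hy.1) hnc' hc₁ hnc
  set g := g₂ * g₁ with hg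
  have hga : g * a * g⁻¹ = d₁ := by
    rw [show g * a * g⁻¹ = g₂ * (g₁ * a * g₁⁻¹) * g₂⁻¹ by rw [hg]; group, hg₁, hg₂.eq, mul_inv_cancel_right]
  have hgc : g * y * g⁻¹ = c₁ := by rw [← hgy, hg]; group
  set T := nb D d₁ ∩ nb D c₁
  set i := g * d * g⁻¹ with hi
  have hiT : i ∈ T := by
    refine ⟨⟨hD.2.1 g d hd, fun e => ha.2.1 ?_, ?_⟩, hD.2.1 g d hd, fun e => hy.2.1 ?_, ?_⟩
    · exact (mul_left_cancel (mul_right_cancel (e.trans hga.symm))).symm
    · rw [← hga, commute_conj_iff]; exact ha.2.2.symm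
    · exact (mul_left_cancel (mul_right_cancel (e.trans hgc.symm))).symm
    · rw [← hgc, commute_conj_iff]; exact hy.2.2.symm
  have hi_iso : ∀ t ∈ T, Commute i t → t = i := by
    intro t ht hit
    by_contra hne
    set s := g⁻¹ * t * g with hs'
    have hgs : g * s * g⁻¹ = t := conj_cancel g t
    refine hs s ⟨by simpa using hD.2.1 g⁻¹ t ht.1.1, fun e => hne ?_, ?_⟩ (fun e => ht.1.2.1 ?_) ?_ ?_
    · rw [← hgs, e]
    · rw [← commute_conj_iff (g := g), hgs]; exact hit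
    · rw [← hgs, e, hga]
    · rw [← commute_conj_iff (g := g), hgs, hga]; exact ht.1.2.2
    · rw [← commute_conj_iff (g := g), hgs, hgc]; exact ht.2.2.2.symm
  have hTconj : ∀ s ∈ T, ∀ t ∈ T, s * t * s⁻¹ ∈ T := by
    have h1 : ∀ x : G, ∀ s, Commute x s → ∀ t ∈ nb D x, s * t * s⁻¹ ∈ nb D x := by
      intro x s hxs t ht
      have hx : s * x * s⁻¹ = x := by rw [← hxs.eq, mul_inv_cancel_right]
      exact ⟨hD.2.1 s t ht.1, fun e => ht.2.1 (mul_left_cancel (mul_right_cancel (e.trans hx.symm))),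
        by rw [← hx]; exact commute_conj_iff.2 ht.2.2⟩
    exact fun s hs t ht => ⟨h1 _ s hs.1.2.2 t ht.1, h1 _ s hs.2.2.2 t ht.2⟩
  have hiso_conj : ∀ j ∈ T, (∀ t ∈ T, Commute j t → t = j) → ∀ s ∈ T,
      ∀ t ∈ T, Commute (s * j * s⁻¹) t → t = s * j * s⁻¹ := by
    intro j hj hjiso s hs' t ht hc
    have hst : s⁻¹ * t * s ∈ T := by
      have := hTconj s hs' t ht
      rwa [inv_eq hS hs'.1.1] at this ⊢
    rw [← conj_cancel s t, hjiso _ hst (by rw [← commute_conj_iff (g := s), conj_cancel]; exact hc)]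
  have hall : ∀ s ∈ T, ∀ t ∈ T, Commute s t → t = s := by
    intro s hs'
    by_cases hsi : Commute i s
    · rw [hi_iso s hs' hsi]; exact hi_iso
    · have h2 := hiso_conj _ (hTconj s hs' i hiT) (hiso_conj i hiT hi_iso s hs') i hiT
      have e : i * (s * i * s⁻¹) * i⁻¹ = s := by
        rw [inv_eq hS hs'.1.1, inv_eq hS hiT.1.1, braid hS hs'.1.1 hiT.1.1 fun h => hsi h.symm]
        simp only [mul_assoc, mul_self_assoc hS hiT.1.1, mul_self hS hiT.1.1, mul_one]
      rwa [e] at h2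
  -- width one gives a solvable group
  apply hns
  set L := Subgroup.closure T
  haveI : Fact (Nat.Prime 3) := ⟨Nat.prime_three⟩
  let E : Set ↥L := {x | (x : G) ∈ T}
  have hE : IsThreeTranspositionGroup E := by
    refine ⟨⟨fun x hx => ?_, fun x hx z hz => ?_⟩, fun k x hx => ?_, ?_⟩
    · rw [← Subgroup.orderOf_coe]; exact hS.1 _ hx.1.1
    · exact (hS.2 _ hx.1.1 _ hz.1.1).imp (fun e => Subtype.ext e) fun e => Subtype.ext e
    · obtain ⟨k, hk⟩ := k
      show k * (x : G) * k⁻¹ ∈ T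
      have : ∀ k ∈ Subgroup.closure T, ∀ z ∈ T, k * z * k⁻¹ ∈ T := by
        intro k hk
        induction hk using Subgroup.closure_induction_left with
        | one => intro z hz; simpa using hz
        | mul_left u hu v hv ih =>
          intro z hz
          rw [show u * v * z * (u * v)⁻¹ = u * (v * z * v⁻¹) * u⁻¹ by group]
          exact hTconj u hu _ (ih z hz)
        | inv_mul_cancel u hu v hv ih =>
          intro z hz
          rw [inv_eq hS hu.1.1, show u * v * z * (u * v)⁻¹ = u * (v * z * v⁻¹) * u⁻¹ by group]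
          exact hTconj u hu _ (ih z hz)
      exact this k hk _ hx
    · exact Subgroup.closure_closure_coe_preimage
  have hprod := widthOne ↥L E hE fun x hx z hz hc =>
    Subtype.ext (hall _ hx _ hz (congrArg Subtype.val hc.eq)).symm
  let π := QuotientGroup.mk' (Cfsg.pCore 3 ↥L)
  let i' : ↥L := ⟨i, Subgroup.subset_closure hiT⟩
  have hgen : ∀ q : ↥L ⧸ Cfsg.pCore 3 ↥L, q ∈ Subgroup.zpowers (π i') := by
    intro q
    obtain ⟨x, rfl⟩ := QuotientGroup.mk'_surjective (Cfsg.pCore 3 ↥L) q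
    have hx : x ∈ Subgroup.closure E := hE.2.2 ▸ Subgroup.mem_top x
    induction hx using Subgroup.closure_induction with
    | mem z hz =>
      have h1 : π (i' * z) = 1 := (QuotientGroup.eq_one_iff _).2 (hprod i' hiT z hz)
      rw [map_mul] at h1
      show π z ∈ _
      rw [eq_inv_of_mul_eq_one_right h1]
      exact inv_mem (Subgroup.mem_zpowers _)
    | one => exact one_mem _
    | mul u v _ _ hu hv => rw [map_mul]; exact mul_mem hu hv
    | inv u _ hu => rw [map_inv]; exact inv_mem hu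
  haveI : Group.IsSolvable (↥L ⧸ Cfsg.pCore 3 ↥L) := Group.isSolvable_of_comm fun p q => by
    obtain ⟨m, rfl⟩ := Subgroup.mem_zpowers_iff.1 (hgen p)
    obtain ⟨n, rfl⟩ := Subgroup.mem_zpowers_iff.1 (hgen q)
    exact (Commute.refl (π i')).zpow_zpow m n
  haveI := (CfsgLib.Core.isPGroup_pCore 3 ↥L).isNilpotent
  exact Group.isSolvable_of_ker_le_range (Cfsg.pCore 3 ↥L).subtype π (by simp [π])

/-- The projective reflection groups in dimension at least five are not solvable. -/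
theorem not_solvable_of_projRefl {X : Type*} [Group X] {n : ℕ} (hn : 5 ≤ n) {μ c : ZMod 3} (hc : c ≠ 0)
    (h : IsProjReflectionGroupModThree X n μ c) : ¬ Group.IsSolvable X := by
  obtain ⟨Q, hQ, -, ⟨e⟩⟩ := h
  intro hX
  set R := reflectionSubgroup (⇑Q) c
  haveI : Group.IsSolvable (↥R ⧸ Subgroup.center ↥R) := Group.isSolvable_of_surjective (f := e.toMonoidHom) e.surjective
  haveI : Group.IsSolvable ↥(Subgroup.center ↥R) := Group.isSolvable_of_comm fun p q =>
    Subtype.ext (Subgroup.mem_center_iff.1 q.2 p)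
  haveI : Group.IsSolvable ↥R := Group.isSolvable_of_ker_le_range (Subgroup.center ↥R).subtype
    (QuotientGroup.mk' (Subgroup.center ↥R)) (by simp)
  obtain ⟨hqs, -⟩ := ReflectionsF3.structure_thm hc hQ hn
  haveI := hqs.2
  haveI : Nontrivial ↥(commutator ↥R) :=
    (QuotientGroup.mk'_surjective (Subgroup.center ↥(commutator ↥R))).nontrivial
  exact (Group.IsSolvable.commutator_lt_top_of_nontrivial (G := ↥(commutator ↥R))).ne hqs.1.commutator_eq_top

theorem setting_of_prim (hD : IsThreeTranspositionGroup D) (hprim : IsPrimitiveUnderConj D)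
    (hw : ∃ a ∈ D, ∃ b ∈ D, a ≠ b ∧ Commute a b) : RankThree.Setting D :=
  haveI : Fact (Nat.Prime 2) := ⟨Nat.prime_two⟩
  ⟨class_of_primitive hD hprim, hprim.2.1, hw, hprim, pCore_le_center hD hprim hw Nat.prime_two⟩

theorem im_mem_set {d e : G} (he : e ∈ nb D d) : im he ∈ secSet D d := ⟨⟨e, _⟩, he, rfl⟩

/-- Primitivity of a section. -/
theorem secPrim (hD : IsThreeTranspositionGroup D) (hprim : IsPrimitiveUnderConj D)
    {d₁ c₁ : G} (hd₁ : d₁ ∈ D) (hc₁ : c₁ ∈ D) (hnc : ¬ Commute d₁ c₁)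
    (hns : ¬ Group.IsSolvable ↥(Subgroup.closure (nb D d₁ ∩ nb D c₁)))
    {d : G} (hd : d ∈ D) (hnon : ∀ e ∈ nb D d, Noncentral D d e) (hZ : Subgroup.center (SecG D d) = ⊥)
    (hw : ∃ p ∈ secSet D d, ∃ q ∈ secSet D d, p ≠ q ∧ Commute p q)
    (hcore : ∀ p : ℕ, p = 2 ∨ p = 3 → Cfsg.pCore p (SecG D d) = ⊥) :
    secSet D d \ {1} = secSet D d ∧ IsThreeTranspositionGroup (secSet D d) ∧ IsPrimitiveUnderConj (secSet D d) := by
  haveI : Fact (Nat.Prime 2) := ⟨Nat.prime_two⟩
  haveI : Fact (Nat.Prime 3) := ⟨Nat.prime_three⟩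
  have hsec : secSet D d \ {1} = secSet D d := by
    refine Set.sdiff_singleton_eq_self fun hm => ?_
    obtain ⟨⟨e, he⟩, hme, h1⟩ := hm
    exact (hnon e hme).im_ne_one h1
  have hgrp : IsThreeTranspositionGroup (secSet D d) := hsec ▸ secGrp hD
  obtain ⟨p₀, ⟨⟨e₀, he₀⟩, hm₀, rfl⟩, -⟩ := id hw
  have hw' : ∃ a ∈ D, ∃ b ∈ D, a ≠ b ∧ Commute a b := ⟨d, hd, e₀, hm₀.1, hm₀.2.1.symm, hm₀.2.2⟩
  have S := setting_of_prim hD hprim hw'
  have hcls : IsThreeTranspositionClass (secSet D d) := by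
    refine ⟨hgrp.1, ⟨_, im_mem_set hm₀, Set.ext fun q => ⟨?_, ?_⟩⟩, hgrp.2.2⟩
    · rintro ⟨⟨f, hf⟩, hmf, rfl⟩
      obtain ⟨g, hg, hgf⟩ := S.commute_comp hd hm₀.1 hm₀.2.1 hm₀.2.2 hmf.1 hmf.2.1 hmf.2.2
      refine isConj_iff.2 ⟨QuotientGroup.mk ⟨g, hg⟩, ?_⟩
      rw [im, ← QuotientGroup.mk_mul, ← QuotientGroup.mk_inv, ← QuotientGroup.mk_mul]
      exact congrArg _ (Subtype.ext hgf)
    · intro hq
      obtain ⟨g, rfl⟩ := isConj_iff.1 hq
      exact hgrp.2.1 g _ (im_mem_set hm₀)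
  have hconn : (commutingGraph (secSet D d)).Connected := by
    haveI : Nonempty ↥(secSet D d) := ⟨⟨_, im_mem_set hm₀⟩⟩
    refine ⟨?_⟩
    have hstep : ∀ p q : ↥(secSet D d), Commute (p : SecG D d) q →
        (commutingGraph (secSet D d)).Reachable p q := by
      intro p q hc
      by_cases e : p = q
      · subst e; exact SimpleGraph.Reachable.refl _
      · exact SimpleGraph.Adj.reachable ((SimpleGraph.fromRel_adj _ _ _).2 ⟨e, Or.inl hc⟩)
    rintro ⟨p, ⟨e, he⟩, hme, rfl⟩ ⟨q, ⟨f, hf⟩, hmf, rfl⟩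
    rcases nb_connected hD S hd₁ hc₁ hnc hns hd hme hmf with h | ⟨s, hs, -, h1, h2⟩
    · exact hstep _ _ ((im_commute hD.1 (hnon e hme) hmf).2 h)
    · exact (hstep _ ⟨im hs, im_mem_set hs⟩ ((im_commute hD.1 (hnon e hme) hs).2 h1)).trans
        (hstep _ _ ((im_commute hD.1 (hnon s hs) hmf).2 h2))
  refine ⟨hsec, hgrp, ?_⟩
  exact (Cfsg.Agent.S5361.result hcls hZ hw).2.2
    ⟨hcore 2 (Or.inl rfl), hcore 3 (Or.inr rfl), hconn⟩

end CfsgLib.Recog.FiM22Two
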