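import Cfsg.Agent.Lib.Recog.FiM22Two.CentM23
import Cfsg.Agent.Lib.Recog.FiM22Two.Pair22

set_option autoImplicit false
set_option maxRecDepth 20000

/-!
The joint centralizer of two commuting members in a group of type M(23) (owner: helper6).
-/

namespace CfsgLib.Recog.FiM22Two

open Cfsg CfsgLib.ThreeTrans CfsgLib.Recog.FiM22.Factor

universe u

namespace Sec22

variable {G : Type u} [Group G] [Finite G] {D : Set G} {d e : G} (S : Sec22 D d)
include S

theorem mem_pair {x : G} : x ∈ Subgroup.centralizer ({d, e} : Set G) ↔ Commute x d ∧ Commute x e := by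
  rw [Subgroup.mem_centralizer_iff]
  exact ⟨fun h => ⟨(h d (by simp)).symm, (h e (by simp)).symm⟩, fun h z hz => by
    rcases hz with rfl | hz
    · exact h.1.eq.symm
    · rw [Set.mem_singleton_iff] at hz; subst hz; exact h.2.eq.symm⟩

theorem pair_le (hZ : Subgroup.center G = ⊥) :
    Subgroup.centralizer ({d, e} : Set G) ≤ Subgroup.closure (nb D d) := fun x hx => by
  rw [← S.centralizer_eq hZ, Subgroup.mem_centralizer_singleton_iff]
  exact (S.mem_pair.1 hx).1.eq

/-- The map to the centralizer of the image of the second member. -/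
noncomputable def pairHom (hZ : Subgroup.center G = ⊥) (he : e ∈ nb D d) :
    ↥(Subgroup.centralizer ({d, e} : Set G)) →* ↥(Subgroup.centralizer ({im he} : Set (SecG D d))) :=
  ((QuotientGroup.mk' (Subgroup.center ↥(Subgroup.closure (nb D d)))).comp
    (Subgroup.inclusion (S.pair_le hZ))).codRestrict _ fun x => by
    rw [Subgroup.mem_centralizer_singleton_iff]
    exact congrArg (QuotientGroup.mk (s := Subgroup.center ↥(Subgroup.closure (nb D d))))
      (Subtype.ext (S.mem_pair.1 x.2).2.eq : (⟨x.1, S.pair_le hZ x.2⟩ : ↥(Subgroup.closure (nb D d))) *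
        ⟨e, Subgroup.subset_closure he⟩ = ⟨e, Subgroup.subset_closure he⟩ * ⟨x.1, S.pair_le hZ x.2⟩)

theorem pairHom_one (hZ : Subgroup.center G = ⊥) (he : e ∈ nb D d)
    {x : ↥(Subgroup.centralizer ({d, e} : Set G))} (hx : S.pairHom hZ he x = 1) : (x : G) = 1 ∨ (x : G) = d := by
  have h : (QuotientGroup.mk (⟨x.1, S.pair_le hZ x.2⟩ : ↥(Subgroup.closure (nb D d))) : SecG D d) = 1 :=
    congrArg Subtype.val hx
  exact S.fix_all hZ (S.mem_pair.1 x.2).1 fun f hf => (congrArg Subtype.val
    (Subgroup.mem_center_iff.1 ((QuotientGroup.eq_one_iff _).1 h) ⟨f, Subgroup.subset_closure hf⟩)).symm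

theorem d_mem_pair (he : e ∈ nb D d) : d ∈ Subgroup.centralizer ({d, e} : Set G) :=
  S.mem_pair.2 ⟨Commute.refl d, he.2.2⟩

theorem pairHom_d (hZ : Subgroup.center G = ⊥) (he : e ∈ nb D d) : S.pairHom hZ he ⟨d, S.d_mem_pair he⟩ = 1 := by
  refine Subtype.ext ((QuotientGroup.eq_one_iff _).2 (Subgroup.mem_center_iff.2 fun g => Subtype.ext ?_))
  exact (S.closure_comm g.2).eq.symm

theorem mem_pair_of (hc : e ∈ nb D d) {f : G} (hf : f ∈ nb D d) (hfe : Commute e f) :
    f ∈ Subgroup.centralizer ({d, e} : Set G) := S.mem_pair.2 ⟨hf.2.2.symm, hfe.symm⟩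

/-- Every element of the centralizer of the image lifts. -/
theorem pairHom_surj (hZ : Subgroup.center G = ⊥) (he : e ∈ nb D d) : Function.Surjective (S.pairHom hZ he) := by
  rintro ⟨q, hq⟩
  obtain ⟨B⟩ := FiM22.exists_base_at S.grp S.prim S.type (im_mem_set he)
  rw [← B.centralizer_eq] at hq
  have hle : Subgroup.closure (FiM22.nbrs (secSet D d) (im he)) ≤
      ((Subgroup.centralizer ({d, e} : Set G)).subgroupOf (Subgroup.closure (nb D d))).map (QuotientGroup.mk' _) := by
    rw [Subgroup.closure_le]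
    rintro _ ⟨⟨⟨f, hf⟩, hm, rfl⟩, -, hc⟩
    have hf' : f ∈ nb D d := hm
    exact ⟨⟨f, hf⟩, S.mem_pair_of he hf' ((S.comm_iff he hf').1 hc), rfl⟩
  obtain ⟨⟨h, hh⟩, hhe, hhq⟩ := hle hq
  exact ⟨⟨h, hhe⟩, Subtype.ext hhq⟩

/-- The joint centralizer is perfect. -/
theorem pair_perfect (hZ : Subgroup.center G = ⊥) (he : e ∈ nb D d) :
    commutator ↥(Subgroup.centralizer ({d, e} : Set G)) = ⊤ := by
  set K := Subgroup.centralizer ({d, e} : Set G) with hK
  set π := S.pairHom hZ he with hπ
  obtain ⟨B⟩ := FiM22.exists_base_at S.grp S.prim S.type (im_mem_set he)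
  have hq := B.quasisimple.1
  rw [B.centralizer_eq] at hq
  have hperf := hq.1.commutator_eq_top
  let dK : ↥K := ⟨d, S.d_mem_pair he⟩
  have hd2 : dK * dK = 1 := Subtype.ext (mul_self S.set3 S.mem)
  have hcomm : ∀ x : ↥K, x ∈ commutator ↥K ∨ x * dK ∈ commutator ↥K := by
    intro x
    have hx : π x ∈ (commutator ↥K).map π := by
      rw [commutator_def, Subgroup.map_commutator, Subgroup.map_top_of_surjective π (S.pairHom_surj hZ he),
        ← commutator_def, hperf]
      exact Subgroup.mem_top _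
    obtain ⟨y, hy, hyx⟩ := hx
    rcases S.pairHom_one hZ he (x := y⁻¹ * x) (by rw [← hπ, map_mul, map_inv, hyx, inv_mul_cancel]) with h | h
    · left
      rw [show x = y from (inv_mul_eq_one.1 (Subtype.ext h : y⁻¹ * x = 1)).symm]
      exact hy
    · right
      have h' : y⁻¹ * x = dK := Subtype.ext h
      rw [show x * dK = y by rw [← mul_inv_cancel_left y x, h', mul_assoc, hd2, mul_one]]
      exact hy
  by_contra htop
  have hd : dK ∉ commutator ↥K := fun h => htop (eq_top_iff.2 fun x _ => by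
    rcases hcomm x with h' | h'
    · exact h'
    · simpa [mul_assoc, hd2] using mul_mem h' h)
  obtain ⟨l, hlen, hl, hln, hprod⟩ := six_at S.grp S.prim S.type (im_mem_set he)
  have hex : ∀ q ∈ l, ∃ (x : G) (hx : x ∈ nb D d), Commute e x ∧ x ≠ e ∧ im hx = q := by
    intro q hq'
    obtain ⟨⟨⟨x, hx⟩, hm, rfl⟩, hne, hc⟩ := hln q hq'
    have hm' : x ∈ nb D d := hm
    exact ⟨x, hm', (S.comm_iff he hm').1 hc, fun h => hne (by subst h; rfl), rfl⟩
  choose x hx hxe hxne himx using hex
  let t : List ↥K := l.attach.map fun q => ⟨x q.1 q.2, S.mem_pair_of he (hx _ _) (hxe _ _)⟩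
  have ht : ∀ z ∈ t, (z : G) ∈ nb D d ∧ Commute e z ∧ (z : G) ≠ e := by
    intro z hz
    obtain ⟨q, -, rfl⟩ := List.mem_map.1 hz
    exact ⟨hx _ _, hxe _ _, hxne _ _⟩
  let u : List ↥(Subgroup.closure (nb D d)) := t.map (Subgroup.inclusion (S.pair_le hZ))
  have hu : u.map (QuotientGroup.mk' (Subgroup.center ↥(Subgroup.closure (nb D d)))) = l := by
    simp only [u, t, List.map_map]
    conv_rhs => rw [← List.attach_map_subtype_val l]
    exact List.map_congr_left fun q _ => himx q.1 q.2
  have hπt : π t.prod = 1 := by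
    refine Subtype.ext ?_
    show QuotientGroup.mk' _ (Subgroup.inclusion (S.pair_le hZ) t.prod) = 1
    rw [map_list_prod, map_list_prod, hu, hprod]
  have hnd : (t.map Subtype.val).Nodup := by
    refine List.Nodup.map Subtype.val_injective (List.Nodup.of_map (Subgroup.inclusion (S.pair_le hZ)) ?_)
    refine List.Nodup.of_map (QuotientGroup.mk' (Subgroup.center ↥(Subgroup.closure (nb D d)))) ?_
    rw [hu]; exact hl.nodup
  have htd : t.prod = dK := by
    rcases S.pairHom_one hZ he hπt with h | h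
    · refine absurd ?_ (S.noRel_six (t.map Subtype.val) ⟨hnd, fun z hz => ?_, fun z hz w hw => ?_⟩
        (by simp [t, hlen]))
      · rw [← Subgroup.val_list_prod]; exact h
      · obtain ⟨z', hz', rfl⟩ := List.mem_map.1 hz; exact (ht z' hz').1.1
      · obtain ⟨z', hz', rfl⟩ := List.mem_map.1 hz
        obtain ⟨w', hw', rfl⟩ := List.mem_map.1 hw
        obtain ⟨q, -, rfl⟩ := List.mem_map.1 hz'
        obtain ⟨r, -, rfl⟩ := List.mem_map.1 hw'
        refine (S.comm_iff (hx q.1 q.2) (hx r.1 r.2)).1 ?_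
        rw [himx, himx]
        exact hl.comm _ q.2 _ r.2
    · exact Subtype.ext h
  have huni : (∀ z ∈ t, z ∈ commutator ↥K) ∨ ∀ z ∈ t, z * dK ∈ commutator ↥K := by
    by_cases hno : ∃ z ∈ t, z ∈ commutator ↥K
    · obtain ⟨z, hz, hzc⟩ := hno
      refine Or.inl fun w hw => ?_
      obtain ⟨k, k1, k2, k3⟩ : ∃ k : G, Commute k d ∧ k * e * k⁻¹ = e ∧ k * (z : G) * k⁻¹ = w := by
        obtain ⟨hz1, hz2, hz3⟩ := ht z hz
        obtain ⟨hw1, hw2, hw3⟩ := ht w hw
        exact S.move he hz1 hw1 hz3.symm hw3.symm hz2 hw2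
      let kK : ↥K := ⟨k, S.mem_pair.2 ⟨k1, mul_inv_eq_iff_eq_mul.1 k2⟩⟩
      rw [show w = kK * z * kK⁻¹ from Subtype.ext k3.symm]
      exact (inferInstance : (commutator ↥K).Normal).conj_mem z hzc kK
    · push Not at hno
      exact Or.inr fun z hz => (hcomm z).resolve_left (hno z hz)
  apply hd
  rcases huni with h | h
  · rw [← htd]; exact list_prod_mem h
  · have key : ∀ s : List ↥K, (∀ z ∈ s, z * dK ∈ commutator ↥K) →
        (if Even s.length then s.prod else s.prod * dK) ∈ commutator ↥K := by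
      intro s
      induction s with
      | nil => intro _; simp
      | cons z s ih =>
        intro hs
        have h1 := hs z (by simp)
        have h2 := ih fun w hw => hs w (List.mem_cons_of_mem _ hw)
        have hc : ∀ y : ↥K, dK * y = y * dK := fun y => Subtype.ext (S.mem_pair.1 y.2).1.eq.symm
        by_cases hev : Even s.length
        · rw [if_pos hev] at h2
          rw [if_neg (by simp [hev, Nat.even_add_one]), List.prod_cons, mul_assoc, ← hc, ← mul_assoc]
          exact mul_mem h1 h2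
        · rw [if_neg hev] at h2
          rw [if_pos (by simpa [Nat.even_add_one] using hev), List.prod_cons]
          have e3 : z * s.prod = z * dK * (s.prod * dK) := by
            rw [mul_assoc z, ← mul_assoc dK, hc s.prod, mul_assoc s.prod, hd2, mul_one]
          rw [e3]
          exact mul_mem h1 h2
    have := key t h
    rw [if_pos (by simp [t, hlen]; decide)] at this
    rw [← htd]; exact this

theorem closure_pair_cases (he : e ∈ nb D d) {x : G} (hx : x ∈ Subgroup.closure ({d, e} : Set G)) :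
    x = 1 ∨ x = d ∨ x = e ∨ x = d * e := by
  have hd := mul_self S.set3 S.mem
  have hee := mul_self S.set3 he.1
  have hc := he.2.2.eq
  induction hx using Subgroup.closure_induction with
  | mem y hy => rcases hy with h | h <;> simp_all
  | one => exact Or.inl rfl
  | mul p q _ _ hp hq =>
    have hd' : ∀ z : G, d * (d * z) = z := fun z => by rw [← mul_assoc, hd, one_mul]
    have hee' : ∀ z : G, e * (e * z) = z := fun z => by rw [← mul_assoc, hee, one_mul]
    have hed : e * d = d * e := hc.symm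
    have hed' : ∀ z : G, e * (d * z) = d * (e * z) := fun z => by rw [← mul_assoc, hed, mul_assoc]
    rcases hp with h | h | h | h <;> rcases hq with h' | h' | h' | h' <;> subst h <;> subst h' <;>
      simp [mul_assoc, hd, hee, hd', hee', hed, hed']
  | inv p _ hp =>
    rcases hp with h | h | h | h <;> subst h
    · simp
    · exact Or.inr (Or.inl (inv_eq S.set3 S.mem))
    · exact Or.inr (Or.inr (Or.inl (inv_eq S.set3 he.1)))
    · exact Or.inr (Or.inr (Or.inr (by rw [mul_inv_rev, inv_eq S.set3 S.mem, inv_eq S.set3 he.1, hc])))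

theorem pair_center (hZ : Subgroup.center G = ⊥) (he : e ∈ nb D d) :
    (Subgroup.center ↥(Subgroup.centralizer ({d, e} : Set G))).map (Subgroup.centralizer ({d, e} : Set G)).subtype =
      Subgroup.closure ({d, e} : Set G) := by
  obtain ⟨B⟩ := FiM22.exists_base_at S.grp S.prim S.type (im_mem_set he)
  have hcen := B.quasisimple.2
  rw [B.centralizer_eq] at hcen
  have heK : e ∈ Subgroup.centralizer ({d, e} : Set G) := S.mem_pair.2 ⟨he.2.2.symm, Commute.refl e⟩
  refine le_antisymm ?_ ((Subgroup.closure_le _).2 ?_)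
  · rintro _ ⟨x, hx, rfl⟩
    have h1 : S.pairHom hZ he x ∈ Subgroup.center _ := Subgroup.mem_center_iff.2 fun q => by
      obtain ⟨y, rfl⟩ := S.pairHom_surj hZ he q
      rw [← map_mul, ← map_mul, Subgroup.mem_center_iff.1 hx y]
    rw [hcen, Subgroup.mem_subgroupOf] at h1
    obtain ⟨k, hk⟩ := h1
    have h2 : (S.pairHom hZ he x : SecG D d) = im he ^ k := hk.symm
    have hee : (im he : SecG D d) * im he = 1 := im_mul_self S.set3 he
    have hcase : (S.pairHom hZ he x : SecG D d) = 1 ∨ (S.pairHom hZ he x : SecG D d) = im he := by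
      rcases Int.even_or_odd k with ⟨j, rfl⟩ | ⟨j, rfl⟩
      · left; rw [h2, zpow_add, ← (Commute.refl _).mul_zpow, hee, one_zpow]
      · right; rw [h2, two_mul, zpow_add, zpow_add, ← (Commute.refl _).mul_zpow, hee, one_zpow, one_mul, zpow_one]
    rcases hcase with h | h
    · rcases S.pairHom_one hZ he (x := x) (Subtype.ext h) with e1 | e1
      · show (x : G) ∈ _; rw [e1]; exact one_mem _
      · show (x : G) ∈ _; rw [e1]; exact Subgroup.subset_closure (by simp)
    · have h' : S.pairHom hZ he (⟨e, heK⟩ * x) = 1 := by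
        refine Subtype.ext ?_
        rw [map_mul, Subgroup.coe_mul, h]
        exact hee
      have hex : e * (e * (x : G)) = x := by rw [← mul_assoc, mul_self S.set3 he.1, one_mul]
      show (x : G) ∈ _
      rw [← hex]
      refine mul_mem (Subgroup.subset_closure (by simp)) ?_
      rcases S.pairHom_one hZ he h' with e1 | e1
      · rw [show e * (x : G) = 1 from e1]; exact one_mem _
      · rw [show e * (x : G) = d from e1]; exact Subgroup.subset_closure (by simp)
  · rintro z (rfl | rfl)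
    · exact ⟨⟨z, S.d_mem_pair he⟩, Subgroup.mem_center_iff.2 fun y => Subtype.ext (S.mem_pair.1 y.2).1.eq, rfl⟩
    · exact ⟨⟨z, heK⟩, Subgroup.mem_center_iff.2 fun y => Subtype.ext (S.mem_pair.1 y.2).2.eq, rfl⟩

theorem pair_quotient (hZ : Subgroup.center G = ⊥) (he : e ∈ nb D d) :
    IsQuasisimple ↥(Subgroup.centralizer ({d, e} : Set G)) ∧
      Nonempty (↥(Subgroup.centralizer ({d, e} : Set G)) ⧸ Subgroup.center ↥(Subgroup.centralizer ({d, e} : Set G)) ≃*
        FiM22.Q6) := by
  obtain ⟨B⟩ := FiM22.exists_base_at S.grp S.prim S.type (im_mem_set he)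
  obtain ⟨q⟩ := B.double_cover.2.1
  set C := Subgroup.centralizer ({im he} : Set (SecG D d))
  let f : ↥(Subgroup.centralizer ({d, e} : Set G)) →* FiM22.Q6 :=
    (q.toMonoidHom.comp (QuotientGroup.mk' (Subgroup.center C))).comp (S.pairHom hZ he)
  have hf : Function.Surjective f :=
    (q.surjective.comp (QuotientGroup.mk'_surjective _)).comp (S.pairHom_surj hZ he)
  have hker : f.ker = Subgroup.center _ := by
    ext x
    rw [MonoidHom.mem_ker]
    show q (QuotientGroup.mk (S.pairHom hZ he x)) = 1 ↔ _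
    rw [q.map_eq_one_iff, QuotientGroup.eq_one_iff]
    constructor
    · intro hx
      have hx' : ∀ y, S.pairHom hZ he (x * y * x⁻¹ * y⁻¹) = 1 := fun y => by
        rw [map_mul, map_mul, map_mul, map_inv, map_inv, ← Subgroup.mem_center_iff.1 hx (S.pairHom hZ he y)]
        group
      refine Subgroup.mem_center_iff.2 fun y => ?_
      have hperf := S.pair_perfect hZ he
      have hz : ∀ y : ↥(Subgroup.centralizer ({d, e} : Set G)),
          ((x * y * x⁻¹ * y⁻¹ : ↥(Subgroup.centralizer ({d, e} : Set G))) : G) = 1 ∨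
          ((x * y * x⁻¹ * y⁻¹ : ↥(Subgroup.centralizer ({d, e} : Set G))) : G) = d := fun y => S.pairHom_one hZ he (hx' y)
      have hcen : ∀ y, x * y * x⁻¹ * y⁻¹ ∈ Subgroup.center _ := fun y => by
        rcases hz y with h | h
        · rw [show x * y * x⁻¹ * y⁻¹ = 1 from Subtype.ext h]; exact one_mem _
        · rw [show x * y * x⁻¹ * y⁻¹ = ⟨d, S.d_mem_pair he⟩ from Subtype.ext h]
          exact Subgroup.mem_center_iff.2 fun z => Subtype.ext (S.mem_pair.1 z.2).1.eq
      have hom : ∀ a b, x * (a * b) * x⁻¹ * (a * b)⁻¹ =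
          (x * a * x⁻¹ * a⁻¹) * (x * b * x⁻¹ * b⁻¹) := fun a b => by
        calc x * (a * b) * x⁻¹ * (a * b)⁻¹ = x * a * x⁻¹ * ((x * b * x⁻¹ * b⁻¹) * a⁻¹) := by group
          _ = x * a * x⁻¹ * (a⁻¹ * (x * b * x⁻¹ * b⁻¹)) := by rw [Subgroup.mem_center_iff.1 (hcen b) a⁻¹]
          _ = _ := by group
      let L : ↥(Subgroup.centralizer ({d, e} : Set G)) →* ↥(Subgroup.center ↥(Subgroup.centralizer ({d, e} : Set G))) :=
        MonoidHom.mk' (fun y => ⟨_, hcen y⟩) fun a b => Subtype.ext (hom a b)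
      have hL : L y = 1 := by
        letI : CommGroup ↥(Subgroup.center ↥(Subgroup.centralizer ({d, e} : Set G))) :=
          { (inferInstance : Group ↥(Subgroup.center ↥(Subgroup.centralizer ({d, e} : Set G)))) with
            mul_comm := fun a b => Subtype.ext (Subgroup.mem_center_iff.1 b.2 a) }
        have hy : y ∈ commutator _ := hperf ▸ Subgroup.mem_top y
        exact MonoidHom.mem_ker.1 (Abelianization.commutator_subset_ker L hy)
      have e1 : x * y * x⁻¹ * y⁻¹ = 1 := congrArg Subtype.val hL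
      exact (mul_inv_eq_iff_eq_mul.1 (mul_inv_eq_one.1 e1)).symm
    · intro hx
      refine Subgroup.mem_center_iff.2 fun p => ?_
      obtain ⟨y, rfl⟩ := S.pairHom_surj hZ he p
      rw [← map_mul, ← map_mul, Subgroup.mem_center_iff.1 hx y]
  have iso := (QuotientGroup.quotientMulEquivOfEq hker.symm).trans (QuotientGroup.quotientKerEquivOfSurjective f hf)
  haveI := FiM22.psu_simple
  haveI := iso.toEquiv.nontrivial
  exact ⟨⟨⟨S.pair_perfect hZ he⟩, IsSimpleGroup.isSimpleGroup_of_surjective iso.symm.toMonoidHom iso.symm.surjective⟩,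
    ⟨iso⟩⟩

/-- An element exchanging the pair moves some member commuting with both. -/
theorem pair_moves (hZ : Subgroup.center G = ⊥) (he : e ∈ nb D d) {c : G} (h1 : c * d * c⁻¹ = e)
    (h2 : c * e * c⁻¹ = d) (hfix : ∀ w ∈ nb D d ∩ nb D e, c * w * c⁻¹ = w) : False := by
  obtain ⟨B⟩ := FiM22.exists_base_at S.grp S.prim S.type (im_mem_set he)
  obtain ⟨r, ⟨⟨f, hf⟩, hfm, rfl⟩, hrne, hrc⟩ := B.nbrs_nonempty
  have hff : f ∈ nb D d := hfm
  change im hff ≠ im he at hrne
  change Commute (im he) (im hff) at hrc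
  rw [S.comm_iff he hff] at hrc
  have hfe : f ∈ nb D d ∩ nb D e := ⟨hff, hff.1, fun h => hrne (by subst h; rfl), hrc⟩
  obtain ⟨k, hk⟩ := class_trans S.setting.cls hff.1 S.mem
  have hD := S.setting.grp.2.1
  have hp : k * d * k⁻¹ ∈ nb D d := ⟨hD k d S.mem,
    fun h => hff.2.1 (mul_left_cancel (mul_right_cancel (h.trans hk.symm))).symm,
    by have h := (commute_conj_iff (g := k)).2 hff.2.2.symm; rwa [hk] at h⟩
  have hp' : k * e * k⁻¹ ∈ nb D d := ⟨hD k e he.1,
    fun h => hfe.2.2.1 (mul_left_cancel (mul_right_cancel (h.trans hk.symm))).symm,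
    by have h := (commute_conj_iff (g := k)).2 hfe.2.2.2.symm; rwa [hk] at h⟩
  set c' := k * c * k⁻¹ with hc'
  have hc'd : Commute c' d := by
    rw [← hk, hc', commute_conj_iff]
    exact mul_inv_eq_iff_eq_mul.1 (hfix f hfe)
  have hc'H : c' ∈ Subgroup.closure (nb D d) := by
    rw [← S.centralizer_eq hZ, Subgroup.mem_centralizer_singleton_iff]; exact hc'd.eq
  have him : ∀ {x : G} (hx : x ∈ nb D d), (QuotientGroup.mk ⟨c', hc'H⟩ : SecG D d) * im hx *
      (QuotientGroup.mk ⟨c', hc'H⟩)⁻¹ = im (S.conj_nb hc'd hx) := fun hx => rfl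
  have hswap : ∀ (x y : G) (hx : k * x * k⁻¹ ∈ nb D d) (hy : k * y * k⁻¹ ∈ nb D d), c * x * c⁻¹ = y →
      (QuotientGroup.mk ⟨c', hc'H⟩ : SecG D d) * im hx * (QuotientGroup.mk ⟨c', hc'H⟩)⁻¹ = im hy := by
    intro x y hx hy hxy
    rw [him hx]
    refine congrArg (QuotientGroup.mk (s := Subgroup.center ↥(Subgroup.closure (nb D d)))) (Subtype.ext ?_)
    show c' * (k * x * k⁻¹) * c'⁻¹ = k * y * k⁻¹
    rw [← hxy, hc']; group
  refine no_swap_at S.grp S.prim S.type (im_mem_set hp) (im_mem_set hp')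
    (fun h => he.2.1 (mul_left_cancel (mul_right_cancel (S.inj hp hp' h))).symm)
    ((S.comm_iff hp hp').2 (commute_conj_iff.2 he.2.2)) _ (hswap d e hp hp' h1) (hswap e d hp' hp h2) ?_
  rintro _ ⟨⟨⟨⟨x, hx'⟩, hm, rfl⟩, hne, hcx⟩, ⟨-, hne', hcx'⟩⟩
  have hx : x ∈ nb D d := hm
  change Commute (im hp) (im hx) at hcx
  change Commute (im hp') (im hx) at hcx'
  change im hx ≠ im hp at hne
  change im hx ≠ im hp' at hne'
  rw [S.comm_iff hp hx] at hcx
  rw [S.comm_iff hp' hx] at hcx'
  have hkx : k * (k⁻¹ * x * k) * k⁻¹ = x := conj_cancel k x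
  have hx0 : k * (k⁻¹ * x * k) * k⁻¹ ∈ nb D d := by rw [hkx]; exact hx
  have hw : k⁻¹ * x * k ∈ nb D d ∩ nb D e := by
    have hwD : k⁻¹ * x * k ∈ D := by simpa using hD k⁻¹ x hx.1
    refine ⟨⟨hwD, fun h => hne ?_, ?_⟩, hwD, fun h => hne' ?_, ?_⟩
    · refine congrArg (QuotientGroup.mk (s := Subgroup.center ↥(Subgroup.closure (nb D d)))) (Subtype.ext ?_)
      show x = k * d * k⁻¹; rw [← hkx, h]
    · rw [← commute_conj_iff (g := k), hkx]; exact hcx
    · refine congrArg (QuotientGroup.mk (s := Subgroup.center ↥(Subgroup.closure (nb D d)))) (Subtype.ext ?_)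
      show x = k * e * k⁻¹; rw [← hkx, h]
    · rw [← commute_conj_iff (g := k), hkx]; exact hcx'
  have := hswap _ _ hx0 hx0 (hfix _ hw)
  simpa only [im, hkx] using this

end Sec22

end CfsgLib.Recog.FiM22Two
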