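import Cfsg.Agent.Lib.Recog.FiM22Two.Thompson
import Cfsg.Agent.Lib.Recog.FiM22Two.Involutions

set_option autoImplicit false
set_option maxRecDepth 20000

/-!
The module of order 2¹⁰ of a group of type M(22): its 22 members, its 231 products of two and its 770 products of
three (owner: helper6).
-/

namespace CfsgLib.Recog.FiM22Two

open Cfsg CfsgLib.ThreeTrans CfsgLib.Recog.FiM22

universe u

variable {G : Type u} [Group G] [Finite G] {D : Set G}

/-- The data of a module in a group of type M(22). -/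
structure BigModule (D : Set G) (K : Subgroup G) : Prop where
  grp : IsThreeTranspositionGroup D
  prim : IsPrimitiveUnderConj D
  type22 : IsOfTypeM22 G D
  ea : IsElementaryAbelian 2 K
  card : Nat.card K = 1024

/-- The members in a subgroup. -/
def members (D : Set G) (K : Subgroup G) : Set G := {x | x ∈ K ∧ x ∈ D}

/-- A product of two different members. -/
def pairs (D : Set G) (K : Subgroup G) : Set G :=
  {y | ∃ a ∈ members D K, ∃ b ∈ members D K, a ≠ b ∧ a * b = y}

/-- The remaining elements. -/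
def triplesIn (D : Set G) (K : Subgroup G) : Set G :=
  ((K : Set G) \ {1}) \ (members D K ∪ pairs D K)

theorem exists_big_in (hD : IsThreeTranspositionGroup D) (hprim : IsPrimitiveUnderConj D)
    (h22 : IsOfTypeM22 G D) (T : Sylow 2 G) :
    ∃ K, BigModule D K ∧ K ≤ T ∧ K = Subgroup.closure {x : G | x ∈ D ∧ x ∈ (T : Subgroup G)} := by
  haveI : Fact (Nat.Prime 2) := ⟨Nat.prime_two⟩
  set K := Subgroup.closure {x : G | x ∈ D ∧ x ∈ (T : Subgroup G)}
  have hKT : K ≤ T := (Subgroup.closure_le _).2 fun x hx => hx.2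
  have hK : IsElementaryAbelian 2 K := ea_closure (fun x hx y hy => commute_in_two_group hD T hx hy)
    fun x hx => by rw [← pow_two, ← hD.1.1 x hx.1, pow_orderOf_eq_one]
  obtain ⟨a, ⟨B⟩⟩ := FiM22.exists_base hD hprim h22
  obtain ⟨σ, δ, ⟨M⟩, -⟩ := exists_mod_at B
  have hp : IsPGroup 2 M.AG := fun x => ⟨1, Subtype.ext (by simpa using M.isElem_AG.2 x x.2)⟩
  obtain ⟨P, hP⟩ := hp.exists_le_sylow
  obtain ⟨g, hg⟩ := MulAction.exists_smul_eq G P T
  set A := M.AG.map (MulAut.conj g).toMonoidHom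
  have hA : IsElementaryAbelian 2 A := UsixMult.Plane.ea_map _ M.isElem_AG
  have hAc : Nat.card A = 1024 := by
    rw [Subgroup.card_map_of_injective (MulAut.conj g).injective, M.card_AG]
  have hAT : A ≤ T := by
    rintro _ ⟨x, hx, rfl⟩
    rw [← hg, Sylow.coe_subgroup_smul]
    exact ⟨x, hP hx, rfl⟩
  obtain ⟨e, he, heA⟩ := exists_member hD hprim h22 hA hAc.ge
  obtain ⟨-, hgen, -⟩ := at_member hD hprim h22 hA hAc.ge he heA
  have hAK : A ≤ K := hgen ▸ Subgroup.closure_mono fun y hy => ⟨hy.2, hAT hy.1⟩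
  have hle : 1024 ≤ Nat.card K := hAc.symm.le.trans (Subgroup.card_le_of_le hAK)
  obtain ⟨e', he', heK⟩ := exists_member hD hprim h22 hK hle
  exact ⟨K, ⟨hD, hprim, h22, hK, (at_member hD hprim h22 hK hle he' heK).1⟩, hKT, rfl⟩

theorem card_le (hD : IsThreeTranspositionGroup D) (hprim : IsPrimitiveUnderConj D)
    (h22 : IsOfTypeM22 G D) {F : Subgroup G} (hF : IsElementaryAbelian 2 F) : Nat.card F ≤ 1024 := by
  by_contra h
  obtain ⟨e, he, heF⟩ := exists_member hD hprim h22 hF (by omega)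
  exact h (at_member hD hprim h22 hF (by omega) he heF).1.le

namespace BigModule

variable {K : Subgroup G} (B : BigModule D K)
include B

theorem facts : Subgroup.closure (members D K) = K ∧ (members D K).ncard = 22 := by
  obtain ⟨e, he, heK⟩ := exists_member B.grp B.prim B.type22 B.ea B.card.ge
  obtain ⟨-, h1, h2⟩ := at_member B.grp B.prim B.type22 B.ea B.card.ge he heK
  exact ⟨h1, h2⟩

theorem map_conj (g : G) : BigModule D (K.map (MulAut.conj g).toMonoidHom) :=
  ⟨B.grp, B.prim, B.type22, UsixMult.Plane.ea_map _ B.ea,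
    (Subgroup.card_map_of_injective (MulAut.conj g).injective).trans B.card⟩

theorem eq_closure {T : Sylow 2 G} (hT : K ≤ T) :
    K = Subgroup.closure {x : G | x ∈ D ∧ x ∈ (T : Subgroup G)} := by
  obtain ⟨K', B', -, hK'⟩ := exists_big_in B.grp B.prim B.type22 T
  have hle : K ≤ K' := by
    rw [hK']
    exact B.facts.1.symm.le.trans (Subgroup.closure_mono fun x hx => ⟨hx.2, hT hx.1⟩)
  rw [← hK']
  exact Subgroup.eq_of_le_of_card_ge hle (by rw [B.card, B'.card])

theorem mul_self {x : G} (hx : x ∈ K) : x * x = 1 := by rw [← pow_two]; exact B.ea.2 x hx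

theorem commute {x y : G} (hx : x ∈ K) (hy : y ∈ K) : Commute x y := ea_comm B.ea hx hy

theorem member_ne_one {x : G} (hx : x ∈ members D K) : x ≠ 1 := fun e => by
  have := B.grp.1.1 x hx.2
  rw [e, orderOf_one] at this
  norm_num at this

theorem noRel {k : ℕ} (h3 : 3 ≤ k) (h5 : k ≤ 5) : Factor.NoRel D k := by
  obtain ⟨a, b, ⟨P⟩⟩ := Factor.exists_pre B.type22 (by rw [Factor.diff_one B.grp.1]; exact B.grp)
  exact Factor.diff_one B.grp.1 ▸ P.noRel h3 h5

theorem comList {l : List G} (hn : l.Nodup) (h : ∀ x ∈ l, x ∈ members D K) : Factor.ComList D l :=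
  ⟨hn, fun x hx => (h x hx).2, fun x hx y hy => B.commute (h x hx).1 (h y hy).1⟩

theorem length_ne {l l' : List G} (h : Factor.ComList D l) (h' : Factor.ComList D l') (hl : 1 ≤ l.length)
    (hlt : l.length < l'.length) (hl' : l'.length ≤ 3) : l.prod ≠ l'.prod := fun e =>
  Factor.length_unique B.grp.1 (B.noRel le_rfl (by norm_num)) (B.noRel (by norm_num) (by norm_num))
    (B.noRel (by norm_num) le_rfl) h h' hl hlt hl' e

theorem pair_notMem {a b : G} (ha : a ∈ members D K) (hb : b ∈ members D K) (hne : a ≠ b) : a * b ∉ D := fun h =>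
  B.length_ne (l := [a * b]) (l' := [a, b])
    ⟨by simp, by simpa using h, by simp⟩ (B.comList (by simp [hne]) (by simp [ha, hb])) le_rfl (by simp) (by simp)
    (by simp)

theorem pair_ne_one {a b : G} (ha : a ∈ members D K) (hne : a ≠ b) : a * b ≠ 1 := fun h =>
  hne (mul_left_cancel (a := a) (by rw [B.mul_self ha.1, h]))

theorem pair_unique {a b c e : G} (ha : a ∈ members D K) (hb : b ∈ members D K) (hc : c ∈ members D K)
    (he : e ∈ members D K) (hab : a ≠ b) (hce : c ≠ e) (h : a * b = c * e) :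
    (a = c ∧ b = e) ∨ (a = e ∧ b = c) := by
  rcases Factor.same_or_disjoint B.grp.1 (B.noRel (by norm_num) (by norm_num)) (B.comList (l := [a, b])
    (by simp [hab]) (by simp [ha, hb])) (B.comList (l := [c, e]) (by simp [hce]) (by simp [hc, he])) rfl rfl
    (by simp) (by simpa using h) with hs | ⟨h3, -⟩
  · have h1 := (hs a).1 (by simp)
    simp only [List.mem_cons, List.not_mem_nil, or_false] at h1
    rcases h1 with rfl | rfl
    · exact Or.inl ⟨rfl, mul_left_cancel h⟩
    · refine Or.inr ⟨rfl, mul_left_cancel (a := a) ?_⟩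
      rw [h, (B.commute hc.1 he.1).eq]
  · simp at h3

/-- A product of three different members is neither a member nor a product of two. -/
theorem triple_mem {a b c : G} (ha : a ∈ members D K) (hb : b ∈ members D K) (hc : c ∈ members D K)
    (hab : a ≠ b) (hac : a ≠ c) (hbc : b ≠ c) : a * b * c ∈ triplesIn D K := by
  have hl : Factor.ComList D [a, b, c] := B.comList (by simp [hab, hac, hbc]) (by simp [ha, hb, hc])
  refine ⟨⟨mul_mem (mul_mem ha.1 hb.1) hc.1, fun h => ?_⟩, ?_⟩
  · rw [Set.mem_singleton_iff] at h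
    exact B.noRel le_rfl (by norm_num) [a, b, c] hl rfl (by simpa [mul_assoc] using h)
  · rintro (h | ⟨p, hp, q, hq, hpq, h⟩)
    · exact B.length_ne (l := [a * b * c]) (l' := [a, b, c]) ⟨by simp, by simpa using h.2, by simp⟩ hl le_rfl
        (by simp) (by simp) (by simp [mul_assoc])
    · exact B.length_ne (l := [p, q]) (B.comList (by simp [hpq]) (by simp [hp, hq])) hl (by simp) (by simp) (by simp)
        (by simpa [mul_assoc] using h)

theorem mem_of_commute {x : G} (hx : x ∈ D) (h : ∀ y ∈ members D K, Commute x y) : x ∈ K := by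
  by_contra hxK
  have hw := FiM22.width_of_type B.grp B.prim B.type22
  have hbdd : BddAbove {n : ℕ | ∃ E : Set G, E ⊆ D ∧ E.Finite ∧ (∀ a ∈ E, ∀ b ∈ E, Commute a b) ∧ E.ncard = n} := by
    refine ⟨Nat.card G, ?_⟩
    rintro n ⟨E, -, -, -, rfl⟩
    rw [← Set.ncard_univ]
    exact Set.ncard_le_ncard (Set.subset_univ _)
  have : 23 ≤ commutingWidth D := by
    refine le_csSup hbdd ⟨insert x (members D K), ?_, Set.toFinite _, ?_, ?_⟩
    · rintro y (rfl | hy)
      exacts [hx, hy.2]
    · rintro a (rfl | ha) b (rfl | hb)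
      exacts [Commute.refl _, h b hb, (h a ha).symm, B.commute ha.1 hb.1]
    · rw [Set.ncard_insert_of_notMem (fun hm => hxK hm.1) (Set.toFinite _), B.facts.2]
  omega

theorem list_mem {l : List G} (hl : Factor.ComList D l) (h3 : l.length ≤ 3) (hp : l.prod ∈ K) :
    ∀ x ∈ l, x ∈ members D K := fun x hx =>
  ⟨B.mem_of_commute (hl.mem x hx) fun y hy =>
    (hl.commute_each B.grp.1 h3 hy.2 (B.commute hy.1 hp) x hx).symm, hl.mem x hx⟩

theorem triple_exists {y : G} (hy : y ∈ triplesIn D K) :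
    ∃ a b c, a ∈ members D K ∧ b ∈ members D K ∧ c ∈ members D K ∧ a ≠ b ∧ a ≠ c ∧ b ≠ c ∧ a * b * c = y := by
  obtain ⟨⟨hyK, hy1⟩, hy2⟩ := hy
  have ho : orderOf y = 2 := orderOf_eq_prime (B.ea.2 y hyK) hy1
  obtain ⟨l, hl, h1, h3, hp⟩ := involution_factor B.grp B.prim B.type22 ho
  have hm := B.list_mem hl h3 (by rw [hp]; exact hyK)
  match l, hl, h1, h3, hp, hm with
  | [a], _, _, _, hp, hm =>
    exact absurd (Or.inl (by rw [List.prod_singleton] at hp; exact hp ▸ hm a (by simp))) hy2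
  | [a, b], hl, _, _, hp, hm =>
    exact absurd (Or.inr ⟨a, hm a (by simp), b, hm b (by simp), by simpa using hl.nodup, by simpa using hp⟩) hy2
  | [a, b, c], hl, _, _, hp, hm =>
    have hn := hl.nodup
    simp only [List.nodup_cons, List.mem_cons, List.not_mem_nil, or_false, not_or] at hn
    exact ⟨a, b, c, hm a (by simp), hm b (by simp), hm c (by simp), hn.1.1, hn.1.2, hn.2.1,
      by simpa [mul_assoc] using hp⟩

theorem ncard_pairs : (pairs D K).ncard = 231 := by
  classical
  set M := (Set.toFinite (members D K)).toFinset with hM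
  have hm : ∀ x, x ∈ M ↔ x ∈ members D K := fun x => Set.Finite.mem_toFinset _
  have hMc : M.card = 22 := by rw [hM, ← Set.ncard_eq_toFinset_card, B.facts.2]
  have hcard : M.offDiag.card = 462 := by rw [Finset.offDiag_card, hMc]
  set P := M.offDiag.image fun p => p.1 * p.2
  have hP : pairs D K = P := by
    ext y
    simp only [pairs, P, Set.mem_setOf_eq, Finset.coe_image, Set.mem_image, Finset.mem_coe, Finset.mem_offDiag, hm]
    exact ⟨fun ⟨a, ha, b, hb, hne, e⟩ => ⟨(a, b), ⟨ha, hb, hne⟩, e⟩,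
      fun ⟨p, ⟨ha, hb, hne⟩, e⟩ => ⟨p.1, ha, p.2, hb, hne, e⟩⟩
  rw [hP, Set.ncard_coe_finset]
  have h2 : M.offDiag.card = 2 * P.card := by
    rw [Finset.card_eq_sum_card_image (fun p => p.1 * p.2) M.offDiag, Finset.sum_const_nat (m := 2), mul_comm]
    intro y hy
    obtain ⟨⟨a, b⟩, hab, rfl⟩ := Finset.mem_image.1 hy
    rw [Finset.mem_offDiag, hm, hm] at hab
    obtain ⟨ha, hb, hne⟩ := hab
    rw [show M.offDiag.filter (fun p => p.1 * p.2 = a * b) = {(a, b), (b, a)} from ?_]
    · exact Finset.card_pair (by simp [hne])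
    ext ⟨c, e⟩
    simp only [Finset.mem_filter, Finset.mem_offDiag, hm, Finset.mem_insert, Finset.mem_singleton, Prod.mk.injEq]
    constructor
    · rintro ⟨⟨hc, he, hce⟩, h⟩
      exact B.pair_unique hc he ha hb hce hne h
    · rintro (⟨rfl, rfl⟩ | ⟨rfl, rfl⟩)
      · exact ⟨⟨ha, hb, hne⟩, rfl⟩
      · exact ⟨⟨hb, ha, hne.symm⟩, (B.commute hb.1 ha.1).eq⟩
  omega

theorem ncard_triples : (triplesIn D K).ncard = 770 := by
  have hsub : members D K ∪ pairs D K ⊆ (K : Set G) \ {1} := by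
    rintro y (hy | ⟨a, ha, b, hb, hne, rfl⟩)
    · exact ⟨hy.1, B.member_ne_one hy⟩
    · exact ⟨mul_mem ha.1 hb.1, B.pair_ne_one ha hne⟩
  have hdis : Disjoint (members D K) (pairs D K) := Set.disjoint_left.2 fun y hy ⟨a, ha, b, hb, hne, e⟩ =>
    B.pair_notMem ha hb hne (e ▸ hy.2)
  have hK : ((K : Set G) \ {1}).ncard = 1023 := by
    rw [Set.ncard_sdiff_singleton_of_mem (one_mem K), ← Nat.card_coe_set_eq, SetLike.coe_sort_coe, B.card]
  rw [triplesIn, Set.ncard_sdiff hsub (Set.toFinite _), hK, Set.ncard_union_eq hdis (Set.toFinite _) (Set.toFinite _),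
    B.facts.2, B.ncard_pairs]

theorem pairs_conj {y y' : G} (hy : y ∈ pairs D K) (hy' : y' ∈ pairs D K) : ∃ g : G, g * y * g⁻¹ = y' := by
  obtain ⟨a, ha, b, hb, hab, rfl⟩ := hy
  obtain ⟨a', ha', b', hb', hab', rfl⟩ := hy'
  obtain ⟨B'⟩ := FiM22.exists_base_at B.grp B.prim B.type22 ha'.2
  obtain ⟨g, hg⟩ := B.prim.1 a ha.2 a' ha'.2
  have hbc : Commute a' (g * b * g⁻¹) := by
    rw [← hg]
    exact (B.commute ha.1 hb.1).map (MulAut.conj g).toMonoidHom
  obtain ⟨k, hk, hkb⟩ := B'.setting.commute_transitive ha'.2 (B.grp.2.1 g b hb.2)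
    (fun e => hab ((MulAut.conj g).injective (hg.trans e.symm))) hbc hb'.2 hab'.symm (B.commute ha'.1 hb'.1)
  refine ⟨k * g, ?_⟩
  have hka : k * a' * k⁻¹ = a' := by rw [hk.eq, mul_inv_cancel_right]
  calc k * g * (a * b) * (k * g)⁻¹ = k * (g * a * g⁻¹) * k⁻¹ * (k * (g * b * g⁻¹) * k⁻¹) := by group
    _ = a' * b' := by rw [hg, hka, hkb]

theorem triples_conj {y y' : G} (hy : y ∈ triplesIn D K) (hy' : y' ∈ triplesIn D K) :
    ∃ g : G, g * y * g⁻¹ = y' := by
  obtain ⟨a, b, c, ha, hb, hc, hab, hac, hbc, rfl⟩ := B.triple_exists hy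
  obtain ⟨a', b', c', ha', hb', hc', hab', hac', hbc', rfl⟩ := B.triple_exists hy'
  obtain ⟨B'⟩ := FiM22.exists_base_at B.grp B.prim B.type22 ha'.2
  obtain ⟨g, hg⟩ := Factor.triple_conj B' (l := [a, b, c]) (l' := [a', b', c'])
    ⟨B.comList (by simp [hab, hac, hbc]) (by simp [ha, hb, hc]), rfl⟩
    ⟨B.comList (by simp [hab', hac', hbc']) (by simp [ha', hb', hc']), rfl⟩
  refine ⟨g, ?_⟩
  have h := congrArg List.prod hg
  rw [prod_conj] at h
  simpa [mul_assoc] using h

end BigModule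

end CfsgLib.Recog.FiM22Two
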