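import Cfsg.Agent.Lib.Recog.FiM22Two.DoubleCount

set_option autoImplicit false
set_option maxRecDepth 20000

/-!
The orbit of the point in a fusion model of order 2¹¹ has 23 elements (owner: helper6).
-/

namespace CfsgLib.Recog.FiM22Two

open Cfsg MulAction

theorem ncard_modEq_fixed {α : Type*} [Finite α] {p : ℕ} [Fact p.Prime] (σ : Equiv.Perm α) (hσ : σ ^ p = 1)
    (s : Set α) (hs : ∀ x, σ x ∈ s ↔ x ∈ s) : s.ncard ≡ (s ∩ {x | σ x = x}).ncard [MOD p] := by
  classical
  haveI := Fintype.ofFinite α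
  set τ : Equiv.Perm {x // x ∈ s} := σ.subtypePerm hs with hτdef
  have hτ : τ ^ p ^ 1 = 1 := by
    rw [pow_one, hτdef, Equiv.Perm.subtypePerm_pow]
    exact Equiv.ext fun x => Subtype.ext (show (σ ^ p) x.1 = x.1 by rw [hσ]; rfl)
  have h := (Equiv.Perm.card_compl_support_modEq (σ := τ) hτ).symm
  rw [← Nat.card_eq_fintype_card, Nat.card_coe_set_eq] at h
  convert h using 1
  rw [← Set.ncard_coe_finset, ← Set.ncard_image_of_injective _ Subtype.val_injective]
  congr 1
  ext x
  simp only [Set.mem_inter_iff, Set.mem_setOf_eq, Set.mem_image, Finset.coe_compl, Set.mem_compl_iff,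
    Finset.mem_coe, Equiv.Perm.mem_support, not_not]
  exact ⟨fun ⟨hx, he⟩ => ⟨⟨x, hx⟩, Subtype.ext he, rfl⟩, fun ⟨y, hy, e⟩ => e ▸ ⟨y.2, congrArg Subtype.val hy⟩⟩

namespace FusionModel

variable {V : Type*} [Group V] [Finite V] {X : Subgroup (MulAut V)} {d : V} {E : Set V} (M : FusionModel X d E)
include M

theorem ncard_gt_one : 1 < E.ncard := by rw [M.ncard_E]; norm_num

omit [Finite V] in
theorem mul_d_of {φ : MulAut V} (hφ : φ ∈ X) {x y : V} (h : φ x = d) (hxy : x * y ∈ orb X d) :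
    φ y * d ∈ orb X d := by
  have := M.map_mem hφ hxy
  rwa [map_mul, h, M.d_mul] at this

omit [Finite V] in
theorem pair_mem {a b : V} (ha : a ∈ E) (hb : b ∈ E) (h : a ≠ b) : a * b ∈ pairsOf E := ⟨a, ha, b, hb, h, rfl⟩

omit [Finite V] in
theorem mul_left_d {a b : V} (ha : a ∈ E) (hb : b * d ∈ E) (h : a ≠ b * d) : a * b * d ∈ pairsOf E := by
  rw [mul_assoc]; exact ⟨a, ha, b * d, hb, h, rfl⟩

/-- Not 45. -/
theorem no_E_only (hE : ∀ a ∈ E, a ∈ orb X d) (hEd : ∀ a ∈ E, a * d ∈ orb X d)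
    (hW : ∀ a ∈ pairsOf E, a ∉ orb X d) (hWd : ∀ a ∈ pairsOf E, a * d ∉ orb X d)
    (hT : ∀ y ∈ restOf E d, y ∉ orb X d) : False := by
  obtain ⟨u, hu⟩ : E.Nonempty := Set.nonempty_of_ncard_ne_zero (by rw [M.ncard_E]; norm_num)
  obtain ⟨φ, hφ, hφu⟩ := M.to_d (hE u hu)
  set N : V → Set V := fun x => {y | y ∈ orb X d ∧ x * y ∈ orb X d} with hN
  have himg : N d = φ '' N u := by
    ext y
    constructor
    · rintro ⟨h1, h2⟩
      refine ⟨φ⁻¹ y, ⟨M.map_mem (inv_mem hφ) h1, ?_⟩, φ.apply_symm_apply y⟩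
      have := M.map_mem (inv_mem hφ) h2
      rwa [map_mul, show φ⁻¹ d = u from by rw [← hφu]; exact φ.symm_apply_apply u] at this
    · rintro ⟨z, ⟨h1, h2⟩, rfl⟩
      exact ⟨M.map_mem hφ h1, by have := M.map_mem hφ h2; rwa [map_mul, hφu] at this⟩
  have hsub : N u ⊆ {d, u * d} := by
    rintro y ⟨h1, h2⟩
    rcases M.cases' y with rfl | rfl | h | h | h | h | h
    · exact absurd h1 M.one_notMem
    · exact Or.inl rfl
    · by_cases e : u = y
      · subst e; exact absurd (M.sq u ▸ h2) M.one_notMem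
      · exact absurd h2 (hW _ (M.pair_mem hu h e))
    · by_cases e : u = y * d
      · exact Or.inr (by rw [e, M.dd]; rfl)
      · have := hWd _ (M.mul_left_d hu h e)
        rw [M.dd] at this
        exact absurd h2 this
    · exact absurd h1 (hW y h)
    · have := hWd _ h; rw [M.dd] at this; exact absurd h1 this
    · exact absurd h1 (hT y h)
  have hsup : E ⊆ N d := fun y hy => ⟨hE y hy, by rw [M.d_mul]; exact hEd y hy⟩
  have h1 := Set.ncard_le_ncard hsup (Set.toFinite _)
  rw [himg, Set.ncard_image_of_injective _ φ.injective, M.ncard_E] at h1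
  have h2 := Set.ncard_le_ncard hsub (Set.toFinite _)
  have h3 := Set.ncard_insert_le d ({u * d} : Set V)
  rw [Set.ncard_singleton] at h3
  omega

/-- The products with the point that stay in the orbit. -/
theorem d_row (hW : ∀ a ∈ pairsOf E, ¬ (a ∈ orb X d ∧ a * d ∈ orb X d)) (hT : ∀ y ∈ restOf E d, y ∉ orb X d)
    {y : V} (h1 : y ∈ orb X d) (h2 : y * d ∈ orb X d) : y ∈ E ∨ y * d ∈ E := by
  rcases M.cases' y with rfl | rfl | h | h | h | h | h
  · exact absurd h1 M.one_notMem
  · exact absurd (M.sq y ▸ h2) M.one_notMem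
  · exact Or.inl h
  · exact Or.inr h
  · exact absurd ⟨h1, h2⟩ (hW y h)
  · exact absurd ⟨h2, by rw [M.dd]; exact h1⟩ (hW _ h)
  · exact absurd h1 (hT y h)

/-- Not 276, second kind. -/
theorem no_W_minus (hE : ∀ a ∈ E, a ∈ orb X d) (hEd : ∀ a ∈ E, a * d ∈ orb X d)
    (hW : ∀ a ∈ pairsOf E, a ∉ orb X d) (hWd : ∀ a ∈ pairsOf E, a * d ∈ orb X d)
    (hT : ∀ y ∈ restOf E d, y ∉ orb X d) : False := by
  have hrow : ∀ {y : V}, y ∈ orb X d → y * d ∈ orb X d → y ∈ E ∨ y * d ∈ E := fun {y} =>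
    M.d_row (fun a ha h => hW a ha h.1) hT
  -- two neighbours of the point have a product in the orbit iff they lie on different sides
  have same : ∀ {y z : V}, y ∈ E → z ∈ E → y * z ∉ orb X d := fun {y z} hy hz h => by
    by_cases e : y = z
    · subst e; exact M.one_notMem (M.sq y ▸ h)
    · exact hW _ (M.pair_mem hy hz e) h
  have diff : ∀ {y z : V}, y ∈ E → z * d ∈ E → y * z ∈ orb X d := fun {y z} hy hz => by
    by_cases e : y = z * d
    · rw [e, mul_assoc, M.d_mul, ← mul_assoc, M.sq, one_mul]; exact M.d_mem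
    · have := hWd _ (M.mul_left_d hy hz e)
      rwa [M.dd] at this
  have same' : ∀ {y z : V}, y * d ∈ E → z * d ∈ E → y * z ∉ orb X d := fun {y z} hy hz h => by
    refine same hy hz ?_
    rwa [M.comm z d, ← mul_assoc, M.dd]
  have loc : ∀ x y z t : V, x ∈ orb X d → y ∈ orb X d → z ∈ orb X d → t ∈ orb X d →
      x * y ∈ orb X d → x * z ∈ orb X d → x * t ∈ orb X d → y * z ∉ orb X d → y * t ∈ orb X d →
      z * t ∈ orb X d := by
    intro x y z t hx hy hz ht hxy hxz hxt hyz hyt
    obtain ⟨φ, hφ, hφx⟩ := M.to_d hx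
    have tr : ∀ w, w ∈ orb X d → x * w ∈ orb X d → φ w ∈ E ∨ φ w * d ∈ E := fun w hw hxw =>
      hrow (M.map_mem hφ hw) (M.mul_d_of hφ hφx hxw)
    rw [← M.map_mem_iff hφ, map_mul] at hyz hyt ⊢
    rcases tr y hy hxy with a | a <;> rcases tr z hz hxz with b | b <;> rcases tr t ht hxt with c | c
    · exact absurd hyt (same a c)
    · exact diff b c
    · exact absurd (diff a b) hyz
    · exact absurd (diff a b) hyz
    · rw [M.comm] at hyz; exact absurd (diff b a) hyz
    · rw [M.comm] at hyz; exact absurd (diff b a) hyz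
    · rw [M.comm]; exact diff c b
    · exact absurd hyt (same' a c)
  obtain ⟨u, hu, e, he, hne⟩ : ∃ u ∈ E, ∃ e ∈ E, u ≠ e := by
    obtain ⟨u, e, hu, he, hne⟩ := (Set.one_lt_ncard_iff (Set.toFinite E)).1 M.ncard_gt_one
    exact ⟨u, hu, e, he, hne⟩
  obtain ⟨f, hf, hfu, hfe⟩ : ∃ f ∈ E, f ≠ u ∧ f ≠ e := by
    by_contra hno
    have hsub : E ⊆ {u, e} := fun f hf => by
      by_contra hf'
      simp only [Set.mem_insert_iff, Set.mem_singleton_iff, not_or] at hf'
      exact hno ⟨f, hf, hf'.1, hf'.2⟩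
    have h1 := Set.ncard_le_ncard hsub (Set.toFinite _)
    rw [M.ncard_E, Set.ncard_pair hne] at h1
    omega
  have h := loc u d (u * e * d) (f * d) (hE u hu) M.d_mem (hWd _ (M.pair_mem hu he hne)) (hEd f hf) (hEd u hu)
    (by rw [mul_assoc u e d, M.cancel]; exact hEd e he)
    (by rw [← mul_assoc]; exact hWd _ (M.pair_mem hu hf hfu.symm))
    (by rw [M.d_mul, M.dd]; exact hW _ (M.pair_mem hu he hne))
    (by rw [M.d_mul, M.dd]; exact hE f hf)
  rw [M.comm f d, ← mul_assoc, M.dd] at h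
  exact hT _ (M.triple u hu e he f hf hne hfu.symm hfe.symm) h

/-- Not 276, first kind. -/
theorem no_W_plus (hE : ∀ a ∈ E, a ∈ orb X d) (hEd : ∀ a ∈ E, a * d ∈ orb X d)
    (hW : ∀ a ∈ pairsOf E, a ∈ orb X d) (hWd : ∀ a ∈ pairsOf E, a * d ∉ orb X d)
    (hT : ∀ y ∈ restOf E d, y ∉ orb X d) (hsize : (orb X d).ncard = 276) : False := by
  classical
  haveI := Fintype.ofFinite V
  have hrow : ∀ {y : V}, y ∈ orb X d → y * d ∈ orb X d → y ∈ E ∨ y * d ∈ E := fun {y} =>
    M.d_row (fun a ha h => hWd a ha h.2) hT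
  let Rp : V → V → Prop := fun x y => ∃ φ ∈ X, φ x = d ∧ φ y ∈ E
  let Rm : V → V → Prop := fun x y => ∃ φ ∈ X, φ x = d ∧ φ y * d ∈ E
  have excl : ∀ {x y}, Rp x y → Rm x y → False := by
    rintro x y ⟨φ, hφ, hx, hy⟩ ⟨ψ, hψ, hx', hy'⟩
    have hd : (ψ * φ⁻¹) d = d := by
      rw [MulAut.mul_apply, ← hx, show φ⁻¹ (φ x) = x from φ.symm_apply_apply x, hx', hx]
    have := M.stab_E _ (mul_mem hψ (inv_mem hφ)) hd _ hy
    rw [MulAut.mul_apply, show φ⁻¹ (φ y) = y from φ.symm_apply_apply y] at this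
    exact (M.e_ne _ this).2.2 hy'
  have adjR : ∀ {x y}, x ∈ orb X d → y ∈ orb X d → x * y ∈ orb X d → Rp x y ∨ Rm x y := by
    intro x y hx hy hxy
    obtain ⟨φ, hφ, hφx⟩ := M.to_d hx
    rcases hrow (M.map_mem hφ hy) (M.mul_d_of hφ hφx hxy) with h | h
    exacts [Or.inl ⟨φ, hφ, hφx, h⟩, Or.inr ⟨φ, hφ, hφx, h⟩]
  have cross : ∀ {a b : V}, a ∈ E → b * d ∈ E → a ≠ b * d → a * b ∉ orb X d := fun {a b} ha hb e => by
    have := hWd _ (M.mul_left_d ha hb e)
    rwa [M.dd] at this
  have halfM : ∀ {x y z}, Rm x z → y ∈ orb X d → x * y ∈ orb X d → z * y ∈ orb X d → y ≠ x * z → Rm x y := by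
    rintro x y z ⟨φ, hφ, hφx, hz⟩ hy hxy hzy hne
    rcases hrow (M.map_mem hφ hy) (M.mul_d_of hφ hφx hxy) with h | h
    · exfalso
      have h' := cross h hz fun e => hne (φ.injective (by rw [e, map_mul, hφx, M.d_mul]))
      rw [← map_mul, M.map_mem_iff hφ, M.comm] at h'
      exact h' hzy
    · exact ⟨φ, hφ, hφx, h⟩
  have halfP : ∀ {x y z}, Rp x z → y ∈ orb X d → x * y ∈ orb X d → z * y ∈ orb X d → y ≠ x * z → Rp x y := by
    rintro x y z ⟨φ, hφ, hφx, hz⟩ hy hxy hzy hne
    rcases hrow (M.map_mem hφ hy) (M.mul_d_of hφ hφx hxy) with h | h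
    · exact ⟨φ, hφ, hφx, h⟩
    · exfalso
      have h' := cross hz h fun e => hne (φ.injective (by rw [map_mul, hφx, e, M.d_mul, M.dd]))
      rw [← map_mul, M.map_mem_iff hφ] at h'
      exact h' hzy
  have movP : ∀ {x y}, Rp x y → ∀ u ∈ E, ∃ φ ∈ X, φ x = d ∧ φ y = u := by
    rintro x y ⟨φ, hφ, hx, hy⟩ u hu
    obtain ⟨ψ, hψ, hd, he⟩ := M.trans_E _ hy u hu
    exact ⟨ψ * φ, mul_mem hψ hφ, by rw [MulAut.mul_apply, hx, hd], by rw [MulAut.mul_apply, he]⟩
  have movM : ∀ {x y}, Rm x y → ∀ u ∈ E, ∃ φ ∈ X, φ x = d ∧ φ y = u * d := by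
    rintro x y ⟨φ, hφ, hx, hy⟩ u hu
    obtain ⟨ψ, hψ, hd, he⟩ := M.trans_E _ hy u hu
    rw [M.stab_mulD hd] at he
    exact ⟨ψ * φ, mul_mem hψ hφ, by rw [MulAut.mul_apply, hx, hd], by rw [MulAut.mul_apply, ← he, M.dd]⟩
  have backP : ∀ {φ : MulAut V}, φ ∈ X → ∀ {x y}, Rp (φ x) (φ y) → Rp x y :=
    fun {φ} hφ {x y} ⟨ψ, hψ, h1, h2⟩ => ⟨ψ * φ, mul_mem hψ hφ, h1, h2⟩
  have backM : ∀ {φ : MulAut V}, φ ∈ X → ∀ {x y}, Rm (φ x) (φ y) → Rm x y :=
    fun {φ} hφ {x y} ⟨ψ, hψ, h1, h2⟩ => ⟨ψ * φ, mul_mem hψ hφ, h1, h2⟩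
  have dP : ∀ {a}, a ∈ E → Rp d a := fun {a} ha => ⟨1, one_mem X, rfl, ha⟩
  have dM : ∀ {a}, a ∈ E → Rm d (a * d) := fun {a} ha => ⟨1, one_mem X, rfl, by
    show a * d * d ∈ E
    rw [M.dd]; exact ha⟩
  obtain ⟨u, v, hu, hv, huv⟩ := (Set.one_lt_ncard_iff (Set.toFinite E)).1 M.ncard_gt_one
  have hud : u * d * d ∈ orb X d := by rw [M.dd]; exact hE u hu
  rcases adjR (hE u hu) M.d_mem (hEd u hu) with caseA | caseB
  · have symP : ∀ {x y}, Rp x y → Rp y x := fun {x y} h => by
      obtain ⟨φ, hφ, h1, h2⟩ := movP h u hu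
      exact backP hφ (by rw [h1, h2]; exact caseA)
    have hm : Rm (u * d) d := (adjR (hEd u hu) M.d_mem hud).resolve_left fun h => excl (symP h) (dM hu)
    have symM : ∀ {x y}, Rm x y → Rm y x := fun {x y} h => by
      obtain ⟨φ, hφ, h1, h2⟩ := movM h u hu
      exact backM hφ (by rw [h1, h2]; exact hm)
    have transP : ∀ {x y z}, Rp x y → Rp y z → x ≠ z → Rp x z := by
      rintro x y z h1 ⟨φ, hφ, hy, hz⟩ hne
      obtain ⟨ψ, hψ, hy', hx⟩ := symP h1
      have hd : (φ * ψ⁻¹) d = d := by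
        rw [MulAut.mul_apply, ← hy', show ψ⁻¹ (ψ y) = y from ψ.symm_apply_apply y, hy, hy']
      have hxE := M.stab_E _ (mul_mem hφ (inv_mem hψ)) hd _ hx
      rw [MulAut.mul_apply, show ψ⁻¹ (ψ x) = x from ψ.symm_apply_apply x] at hxE
      refine backP hφ (halfP (symP (dP hxE)) (hE _ hz) ?_ (by rw [M.d_mul]; exact hEd _ hz) ?_)
      · exact hW _ (M.pair_mem hxE hz fun e => hne (φ.injective e))
      · intro e
        exact (M.e_ne _ hxE).2.2 (e ▸ hz)
    let R : Finset V := insert d (Finset.univ.filter fun y => y * d ∈ E)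
    let K : V → Finset V := fun r => insert r (Finset.univ.filter fun y => Rp r y)
    have hR : R.card = 23 := by
      rw [Finset.card_insert_of_notMem (by simp [M.sq, show (1 : V) ∉ E from fun h => (M.e_ne _ h).1 rfl]),
        ← Set.ncard_coe_finset, show (↑(Finset.univ.filter fun y : V => y * d ∈ E) : Set V) = {y | y * d ∈ E} by simp,
        M.ncard_image_d, M.ncard_E]
    have hRO : ∀ r ∈ R, r ∈ orb X d := fun r hr => by
      simp only [R, Finset.mem_insert, Finset.mem_filter, Finset.mem_univ, true_and] at hr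
      rcases hr with rfl | hr
      · exact M.d_mem
      · rw [← M.dd r]; exact hEd _ hr
    have hK : ∀ r ∈ R, (K r).card = 23 := fun r hr => by
      obtain ⟨φ, hφ, hφr⟩ := M.to_d (hRO r hr)
      have hset : (↑(Finset.univ.filter fun y => Rp r y) : Set V) = (φ⁻¹ : MulAut V) '' E := by
        ext y
        simp only [Finset.coe_filter, Finset.mem_univ, true_and, Set.mem_setOf_eq, Set.mem_image]
        constructor
        · rintro ⟨ψ, hψ, hr', hy⟩
          have hd : (φ * ψ⁻¹) d = d := by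
            rw [MulAut.mul_apply, ← hr', show ψ⁻¹ (ψ r) = r from ψ.symm_apply_apply r, hφr, hr']
          refine ⟨φ y, ?_, φ.symm_apply_apply y⟩
          have := M.stab_E _ (mul_mem hφ (inv_mem hψ)) hd _ hy
          rwa [MulAut.mul_apply, show ψ⁻¹ (ψ y) = y from ψ.symm_apply_apply y] at this
        · rintro ⟨a, ha, rfl⟩
          exact ⟨φ, hφ, hφr, by rwa [show φ (φ⁻¹ a) = a from φ.apply_symm_apply a]⟩
      rw [Finset.card_insert_of_notMem, ← Set.ncard_coe_finset, hset,
        Set.ncard_image_of_injective _ (φ⁻¹).injective, M.ncard_E]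
      simp only [Finset.mem_filter, Finset.mem_univ, true_and]
      rintro ⟨ψ, -, h1, h2⟩
      exact (M.e_ne _ h2).2.1 h1
    have hKsub : ∀ r ∈ R, K r ⊆ Finset.univ.filter fun y => y ∈ orb X d := fun r hr y hy => by
      simp only [K, Finset.mem_insert, Finset.mem_filter, Finset.mem_univ, true_and] at hy ⊢
      rcases hy with rfl | ⟨φ, hφ, -, hy⟩
      · exact hRO _ hr
      · exact (M.map_mem_iff hφ).1 (hE _ hy)
    have hRR : ∀ r ∈ R, ∀ r' ∈ R, r ≠ r' → ¬ Rp r r' := by
      intro r hr r' hr' hne h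
      simp only [R, Finset.mem_insert, Finset.mem_filter, Finset.mem_univ, true_and] at hr hr'
      rcases hr with rfl | hr <;> rcases hr' with rfl | hr'
      · exact hne rfl
      · exact excl h (by rw [← M.dd r']; exact dM hr')
      · exact excl (symP h) (by rw [← M.dd r]; exact dM hr)
      · refine excl h (halfM (symM (by rw [← M.dd r]; exact dM hr : Rm d r)) (hRO r' ?_) ?_ ?_ ?_)
        · simp [R, hr']
        · rw [show r * r' = r * d * (r' * d) by rw [M.comm r' d, ← mul_assoc, M.dd]]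
          exact hW _ (M.pair_mem hr hr' fun e => hne (mul_right_cancel e))
        · rw [M.d_mul]; exact hE _ hr'
        · intro e
          exact (M.e_ne _ hr).2.2 (by rw [M.dd]; rw [e, M.dd] at hr'; exact hr')
    have hdisj : (R : Set V).PairwiseDisjoint K := by
      intro r hr r' hr' hne
      rw [Function.onFun, Finset.disjoint_left]
      intro y hy hy'
      simp only [K, Finset.mem_insert, Finset.mem_filter, Finset.mem_univ, true_and] at hy hy'
      refine hRR r hr r' hr' hne ?_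
      rcases hy with rfl | hy <;> rcases hy' with rfl | hy'
      · exact absurd rfl hne
      · exact symP hy'
      · exact hy
      · exact transP hy (symP hy') hne
    have hcard := Finset.card_le_card (Finset.biUnion_subset.2 hKsub)
    rw [Finset.card_biUnion hdisj, Finset.sum_congr rfl hK, Finset.sum_const, hR, ← Set.ncard_coe_finset,
      show (↑(Finset.univ.filter fun y : V => y ∈ orb X d) : Set V) = orb X d by simp, hsize, smul_eq_mul] at hcard
    omega
  · have revP : ∀ {x y}, Rp x y → Rm y x := fun {x y} h => by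
      obtain ⟨φ, hφ, h1, h2⟩ := movP h u hu
      exact backM hφ (by rw [h1, h2]; exact caseB)
    have hp : Rp (u * d) d := (adjR (hEd u hu) M.d_mem hud).resolve_right fun h => by
      obtain ⟨φ, hφ, h1, h2⟩ := movM caseB u hu
      exact excl (dP hu) (backM hφ (by rw [h1, h2]; exact h))
    have revM : ∀ {x y}, Rm x y → Rp y x := fun {x y} h => by
      obtain ⟨φ, hφ, h1, h2⟩ := movM h u hu
      exact backP hφ (by rw [h1, h2]; exact hp)
    have key : ∀ a ∈ E, ∀ b ∈ E, a ≠ b → Rm a b := fun a ha b hb hab =>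
      halfM (revP (dP ha)) (hE b hb) (hW _ (M.pair_mem ha hb hab)) (by rw [M.d_mul]; exact hEd b hb)
        fun e => (M.e_ne _ ha).2.2 (e ▸ hb)
    exact excl (revM (key u hu v hv huv)) (key v hv u hu huv.symm)

/-- Not 1024. -/
theorem no_sum_free (hE : ∀ a ∈ E, a ∈ orb X d) (hfree : ∀ y ∈ orb X d, y * d ∉ orb X d)
    (hsize : (orb X d).ncard = 1024) : False := by
  have hfr : ∀ x ∈ orb X d, ∀ y ∈ orb X d, x * y ∉ orb X d := fun x hx y hy h => by
    obtain ⟨φ, hφ, hφx⟩ := M.to_d hx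
    exact hfree _ (M.map_mem hφ hy) (M.mul_d_of hφ hφx h)
  have hback : ∀ x ∈ orb X d, ∀ z, z ∉ orb X d → x * z ∈ orb X d := by
    intro x hx z hz
    have hsub : (fun y => x * y) '' orb X d ⊆ (orb X d)ᶜ := by
      rintro _ ⟨y, hy, rfl⟩
      exact hfr x hx y hy
    have heq : (fun y => x * y) '' orb X d = (orb X d)ᶜ := Set.eq_of_subset_of_ncard_le hsub (by
      rw [Set.ncard_image_of_injective _ (mul_right_injective x), Set.ncard_compl, M.card, hsize]) (Set.toFinite _)
    obtain ⟨y, hy, rfl⟩ : z ∈ (fun y => x * y) '' orb X d := by rw [heq]; exact hz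
    rwa [M.cancel]
  obtain ⟨l, hl, hmem, hp⟩ := M.seven
  have h : ∀ x ∈ l, x ∈ orb X d := fun x hx => hE x (hmem x hx)
  match l, hl with
  | [a, b, c, e, f, g, i], _ =>
    simp only [List.prod_cons, List.prod_nil, mul_one] at hp
    refine M.one_notMem (hp ▸ ?_)
    simp only [List.mem_cons, List.not_mem_nil, or_false, forall_eq_or_imp, forall_eq] at h
    obtain ⟨ha, hb, hc, he, hf, hg, hi⟩ := h
    exact hback a ha _ (hfr b hb _ (hback c hc _ (hfr e he _ (hback f hf _ (hfr g hg i hi)))))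

/-- Not 2025. -/
theorem no_complement (hEd : ∀ a ∈ E, a * d ∉ orb X d)
    (hrest : ∀ y : V, y ≠ 1 → y * d ∉ E → y ∈ orb X d) : False := by
  obtain ⟨a, b, ha, hb, hab⟩ := (Set.one_lt_ncard_iff (Set.toFinite E)).1 M.ncard_gt_one
  have hne : a * b * d ∉ E := (M.w_ne _ (M.pair_mem ha hb hab)).2.2.2.1
  obtain ⟨φ, hφ, hφw⟩ := M.to_d (hrest (a * b) (M.w_ne _ (M.pair_mem ha hb hab)).1 hne)
  have hm : ∀ x ∈ E, φ (x * d) * d ∈ E := fun x hx => by
    by_contra h
    refine hEd x hx ((M.map_mem_iff hφ).1 (hrest _ (fun h1 => ?_) h))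
    have h2 : x * d = 1 := φ.injective (h1.trans (map_one φ).symm)
    exact (M.e_ne x hx).2.1 (by rw [M.eq_mul_d h2, one_mul])
  have h := M.pair_mem (hm a ha) (hm b hb) fun e => hab (mul_right_cancel (φ.injective (mul_right_cancel e)))
  rw [show φ (a * d) * d * (φ (b * d) * d) = φ (a * d * (b * d)) from by
    rw [map_mul _ (a * d), M.comm (φ (b * d)) d, ← mul_assoc, M.dd],
    show a * d * (b * d) = a * b by rw [M.comm b d, ← mul_assoc, M.dd], hφw] at h
  exact (M.w_ne d h).2.1 rfl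

/-- Not 2047. -/
theorem no_all (hall : ∀ y : V, y ≠ 1 → y ∈ orb X d) : False := by
  classical
  haveI := Fintype.ofFinite V
  let Γ : V → V → Subgroup X := fun x y => stabilizer X x ⊓ stabilizer X y
  set st : V → V → ℕ := fun x y => Nat.card (Γ x y) with hst
  have smul_def : ∀ (φ : X) (v : V), φ • v = (φ : MulAut V) v := fun _ _ => rfl
  have hinv : ∀ (φ : X) (x y : V), st (φ • x) (φ • y) = st x y := fun φ x y => by
    have : Γ (φ • x) (φ • y) = (Γ x y).map (MulAut.conj φ).toMonoidHom := by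
      rw [show Γ (φ • x) (φ • y) = stabilizer X (φ • x) ⊓ stabilizer X (φ • y) from rfl,
        MulAction.stabilizer_smul_eq_stabilizer_map_conj, MulAction.stabilizer_smul_eq_stabilizer_map_conj]
      exact (Subgroup.map_inf _ _ _ (MulAut.conj φ).injective).symm
    rw [hst]
    simp only [this]
    exact Subgroup.card_map_of_injective (MulAut.conj φ).injective
  set Nd := st d d with hNd
  have horb : ∀ y, (orbit (stabilizer X d) y).ncard * st d y = Nd := fun y => by
    rw [← index_stabilizer, hst, hNd, hst]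
    simp only [Γ, inf_idem]
    rw [show Nat.card (stabilizer X d ⊓ stabilizer X y : Subgroup X) =
        Nat.card (stabilizer (stabilizer X d) y) from ?_, Subgroup.index_mul_card]
    exact Nat.card_congr
      { toFun := fun z => ⟨⟨z.1, z.2.1⟩, z.2.2⟩
        invFun := fun z => ⟨z.1.1, z.1.2, z.2⟩
        left_inv := fun _ => rfl
        right_inv := fun _ => rfl }
  have hpos : ∀ x y, 0 < st x y := fun x y => Nat.card_pos
  have key : ∀ y, y ≠ 1 → y ≠ d → (st d y * 22 = Nd ↔ y ∈ E ∨ y * d ∈ E) := by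
    intro y h1 h2
    have hh : st d y * 22 = Nd ↔ (orbit (stabilizer X d) y).ncard = 22 := by
      rw [← horb y, mul_comm]
      exact ⟨fun h => (Nat.eq_of_mul_eq_mul_right (hpos d y) h).symm, fun h => by rw [h]⟩
    rw [hh]
    have inO : ∀ {φ : MulAut V}, φ ∈ X → φ d = d → φ y ∈ orbit (stabilizer X d) y :=
      fun {φ} hφ hd => ⟨⟨⟨φ, hφ⟩, hd⟩, rfl⟩
    have fromO : ∀ {z}, z ∈ orbit (stabilizer X d) y → ∃ φ ∈ X, φ d = d ∧ φ y = z :=
      fun {z} ⟨φ, e⟩ => ⟨φ.1.1, φ.1.2, φ.2, e⟩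
    rcases M.cases' y with h | h | h | h | h | h | h
    · exact absurd h h1
    · exact absurd h h2
    · refine iff_of_true ?_ (Or.inl h)
      rw [show orbit (stabilizer X d) y = E from ?_, M.ncard_E]
      ext z
      refine ⟨fun hz => ?_, fun hz => ?_⟩
      · obtain ⟨φ, hφ, hd, rfl⟩ := fromO hz
        exact M.stab_E φ hφ hd y h
      · obtain ⟨φ, hφ, hd, rfl⟩ := M.trans_E y h z hz
        exact inO hφ hd
    · refine iff_of_true ?_ (Or.inr h)
      rw [show orbit (stabilizer X d) y = {z | z * d ∈ E} from ?_, M.ncard_image_d, M.ncard_E]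
      ext z
      refine ⟨fun hz => ?_, fun hz => ?_⟩
      · obtain ⟨φ, hφ, hd, rfl⟩ := fromO hz
        rw [Set.mem_setOf_eq, ← M.stab_mulD hd]
        exact M.stab_E φ hφ hd _ h
      · obtain ⟨φ, hφ, hd, e⟩ := M.trans_E _ h _ hz
        rw [M.stab_mulD hd] at e
        rw [← mul_right_cancel e]; exact inO hφ hd
    · refine iff_of_false (fun hc => ?_) ?_
      · have hsub : pairsOf E ⊆ orbit (stabilizer X d) y := fun z hz => by
          obtain ⟨φ, hφ, hd, rfl⟩ := M.trans_W y h z hz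
          exact inO hφ hd
        have := Set.ncard_le_ncard hsub (Set.toFinite _)
        rw [hc, M.ncard_W] at this
        omega
      · rintro (h' | h')
        exacts [(M.w_ne y h).2.2.1 h', (M.w_ne y h).2.2.2.1 h']
    · refine iff_of_false (fun hc => ?_) ?_
      · have hsub : {z | z * d ∈ pairsOf E} ⊆ orbit (stabilizer X d) y := fun z hz => by
          obtain ⟨φ, hφ, hd, e⟩ := M.trans_W _ h _ hz
          rw [M.stab_mulD hd] at e
          rw [← mul_right_cancel e]; exact inO hφ hd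
        have := Set.ncard_le_ncard hsub (Set.toFinite _)
        rw [hc, M.ncard_image_d, M.ncard_W] at this
        omega
      · rintro (h' | h')
        · have := (M.w_ne _ h).2.2.2.1
          rw [M.dd] at this
          exact this h'
        · exact (M.w_ne _ h).2.2.1 h'
    · refine iff_of_false (fun hc => ?_) ?_
      · have hsub : restOf E d ⊆ orbit (stabilizer X d) y ∪ {z | z * d ∈ orbit (stabilizer X d) y} := fun z hz => by
          obtain ⟨φ, hφ, hd, e | e⟩ := M.trans_T y h z hz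
          · exact Or.inl (e ▸ inO hφ hd)
          · exact Or.inr (show z * d ∈ orbit (stabilizer X d) y from e ▸ inO hφ hd)
        have := (Set.ncard_le_ncard hsub (Set.toFinite _)).trans (Set.ncard_union_le _ _)
        rw [M.ncard_image_d, hc, M.ncard_rest] at this
        omega
      · rintro (h' | h')
        exacts [h.2.2.1 h', h.2.2.2.1 h']
  set P : V → V → Prop := fun x y => x ≠ 1 ∧ y ≠ 1 ∧ x ≠ y ∧ st x y * 22 = Nd with hP
  have hdiag : ∀ x, x ≠ 1 → st x x = Nd := fun x hx => by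
    obtain ⟨φ, hφ, hφx⟩ := M.to_d (hall x hx)
    rw [hNd, ← hφx]
    exact (hinv ⟨φ, hφ⟩ x x).symm
  have hfib : ∀ x, x ≠ 1 → (Finset.univ.filter fun y => P x y).card = 44 := by
    intro x hx
    obtain ⟨φ, hφ, hφx⟩ := M.to_d (hall x hx)
    have hset : (↑(Finset.univ.filter fun y => P x y) : Set V) = φ ⁻¹' (E ∪ {y | y * d ∈ E}) := by
      ext y
      simp only [Finset.coe_filter, Finset.mem_univ, true_and, Set.mem_setOf_eq, Set.mem_preimage, Set.mem_union, hP]
      have hs : st x y = st d (φ y) := by rw [← hφx]; exact (hinv ⟨φ, hφ⟩ x y).symm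
      constructor
      · rintro ⟨-, hy, hxy, h⟩
        rw [hs] at h
        exact (key _ (fun e => hy (φ.injective (e.trans (map_one φ).symm)))
          (fun e => hxy (φ.injective (hφx.trans e.symm)))).1 h
      · intro h
        have h1 : φ y ≠ 1 ∧ φ y ≠ d := by
          rcases h with h | h
          · exact ⟨(M.e_ne _ h).1, (M.e_ne _ h).2.1⟩
          · refine ⟨fun e => (M.e_ne _ h).2.1 (by rw [e, one_mul]), fun e => (M.e_ne _ h).1 (by rw [e, M.sq])⟩
        refine ⟨hx, fun e => h1.1 (by rw [e, map_one]), fun e => h1.2 (by rw [← e, hφx]), ?_⟩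
        rw [hs]
        exact (key _ h1.1 h1.2).2 h
    rw [← Set.ncard_coe_finset, hset, Set.ncard_preimage_of_injective_subset_range φ.injective
      (fun z _ => φ.surjective z), Set.ncard_union_eq ?_ (Set.toFinite _) (Set.toFinite _), M.ncard_image_d, M.ncard_E]
    exact Set.disjoint_left.2 fun z hz hz' => (M.e_ne z hz).2.2 hz'
  have hcard : Fintype.card {p : V × V // P p.1 p.2} = 2047 * 44 := by
    rw [Fintype.card_subtype, Finset.card_eq_sum_card_fiberwise (f := Prod.fst) (t := Finset.univ.erase (1 : V))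
      (fun p hp => Finset.mem_erase.2 ⟨((Finset.mem_filter.1 hp).2).1, Finset.mem_univ _⟩)]
    rw [Finset.sum_congr rfl (g := fun _ => 44), Finset.sum_const, Finset.card_erase_of_mem (Finset.mem_univ _),
      Finset.card_univ, ← Nat.card_eq_fintype_card, M.card, smul_eq_mul]
    intro x hx
    rw [← hfib x (Finset.ne_of_mem_erase hx)]
    refine Finset.card_bij (fun p _ => p.2) (fun p hp => ?_) (fun p hp q hq e => ?_) fun y hy => ?_
    · simp only [Finset.mem_filter, Finset.mem_univ, true_and] at hp ⊢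
      exact hp.2 ▸ hp.1
    · simp only [Finset.mem_filter, Finset.mem_univ, true_and] at hp hq
      exact Prod.ext (hp.2.trans hq.2.symm) e
    · simp only [Finset.mem_filter, Finset.mem_univ, true_and] at hy
      exact ⟨(x, y), by simp [hy], rfl⟩
  have hshift : ∀ x y, P x y → P y (x * y) := by
    rintro x y ⟨hx, hy, hne, h⟩
    have e : Γ y (x * y) = Γ x y := by
      ext z
      simp only [Γ, Subgroup.mem_inf, mem_stabilizer_iff, smul_def, map_mul]
      constructor
      · rintro ⟨h1, h2⟩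
        rw [h1] at h2
        exact ⟨mul_right_cancel h2, h1⟩
      · rintro ⟨h1, h2⟩
        exact ⟨h2, by rw [h1, h2]⟩
    refine ⟨hy, fun e1 => hne (mul_right_cancel (b := y) (e1.trans (M.sq y).symm)),
      fun e1 => hx (mul_eq_right.1 e1.symm), ?_⟩
    rw [hst] at h ⊢
    simp only [e]
    exact h
  let Ψ : {p : V × V // P p.1 p.2} → {p : V × V // P p.1 p.2} := fun p =>
    ⟨(p.1.2, p.1.1 * p.1.2), hshift _ _ p.2⟩
  have hΨ : ∀ p, Ψ (Ψ (Ψ p)) = p := fun p => by
    have e : p.1.2 * (p.1.1 * p.1.2) = p.1.1 := by rw [M.comm p.1.1, M.cancel]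
    refine Subtype.ext (Prod.ext e ?_)
    show p.1.1 * p.1.2 * (p.1.2 * (p.1.1 * p.1.2)) = p.1.2
    rw [e, M.comm, M.cancel]
  let Φ : Equiv.Perm {p : V × V // P p.1 p.2} := ⟨Ψ, fun p => Ψ (Ψ p), hΨ, hΨ⟩
  have h3 : Φ ^ 3 ^ 1 = 1 := Equiv.ext hΨ
  haveI : Fact (Nat.Prime 3) := ⟨Nat.prime_three⟩
  obtain ⟨⟨⟨x, y⟩, hp⟩, hfix⟩ := Equiv.Perm.exists_fixed_point_of_prime (α := {p : V × V // P p.1 p.2})
    (p := 3) (n := 1) (by rw [hcard]; decide) h3
  exact hp.2.2.1 (congrArg (fun q => q.1.1) hfix).symm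

/-- Not 254. -/
theorem no_254 (hE : ∀ a ∈ E, a ∈ orb X d) (hsize : (orb X d).ncard = 254) : False := by
  classical
  haveI : Fact (Nat.Prime 127) := ⟨by norm_num⟩
  letI : CommGroup V := { (inferInstance : Group V) with mul_comm := M.comm }
  have hdvd : 127 ∣ Nat.card X := by
    have h : orb X d = MulAction.orbit X d := by
      ext y
      exact ⟨fun ⟨φ, hφ, e⟩ => ⟨⟨φ, hφ⟩, e⟩, fun ⟨φ, e⟩ => ⟨φ.1, φ.2, e⟩⟩
    refine (show 127 ∣ 254 by norm_num).trans ?_
    rw [← hsize, h, ← index_stabilizer]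
    exact Subgroup.index_dvd_card _
  obtain ⟨τ, hτ⟩ := exists_prime_orderOf_dvd_card' 127 hdvd
  set f : MulAut V := (τ : MulAut V) with hf
  have hord : orderOf f = 127 := by rw [hf, Subgroup.orderOf_coe, hτ]
  set σ : Equiv.Perm V := MulEquiv.toEquiv f with hσ
  have hσp : σ ^ 127 = 1 := by
    have h : f ^ 127 = 1 := by rw [← hord]; exact pow_orderOf_eq_one f
    have e : ∀ n : ℕ, σ ^ n = MulEquiv.toEquiv (f ^ n) := fun n => by
      induction n with
      | zero => rfl
      | succ n ih => rw [pow_succ, pow_succ, ih]; rfl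
    rw [e, h]
    rfl
  set F : Set V := {x | f x = x} with hF
  let g : V →* V := MonoidHom.mk' (fun x => x * f x) fun x y => by
    rw [map_mul]; exact mul_mul_mul_comm _ _ _ _
  have hker : (g.ker : Set V) = F := by
    ext x
    show x * f x = 1 ↔ f x = x
    exact ⟨fun h => mul_left_cancel (h.trans (M.sq x).symm), fun h => by rw [h, M.sq]⟩
  set W := g.range
  have hcardF : F.ncard = Nat.card g.ker := by rw [← hker, ← Nat.card_coe_set_eq]; rfl
  have hmul : Nat.card W * Nat.card g.ker = 2048 := by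
    rw [← M.card, ← Subgroup.index_ker, Subgroup.index_mul_card]
  obtain ⟨k, hk11, hk⟩ : ∃ k ≤ 11, Nat.card g.ker = 2 ^ k :=
    (Nat.dvd_prime_pow Nat.prime_two).1 ⟨Nat.card W, by rw [mul_comm, hmul]; norm_num⟩
  have hmod := ncard_modEq_fixed σ hσp Set.univ (fun _ => iff_of_true trivial trivial)
  rw [Set.univ_inter, Set.ncard_univ, M.card, show ({x | σ x = x} : Set V) = F from rfl, hcardF, hk] at hmod
  have hk4 : k = 4 := by
    have hne : k ≠ 11 := fun e => by
      subst e
      have htop : g.ker = ⊤ := Subgroup.eq_top_of_card_eq _ (by rw [hk, M.card]; norm_num)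
      have : f = 1 := MulEquiv.ext fun x => (Set.ext_iff.1 hker x).1 (htop ▸ Subgroup.mem_top x)
      rw [this, orderOf_one] at hord
      norm_num at hord
    unfold Nat.ModEq at hmod
    interval_cases k <;> first | rfl | (exfalso; omega) | (norm_num at hmod)
  subst hk4
  have hinv : ∀ x, σ x ∈ orb X d ↔ x ∈ orb X d := fun x => M.map_mem_iff τ.2
  -- the cosets of the image are invariant
  let q : V →* V ⧸ W := QuotientGroup.mk' W
  have hq : ∀ x, q (σ x) = q x := fun x => by
    show (QuotientGroup.mk (σ x) : V ⧸ W) = QuotientGroup.mk x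
    rw [QuotientGroup.eq]
    exact ⟨x, by show x * f x = (f x)⁻¹ * x; rw [inv_eq_of_mul_eq_one_right (M.sq (f x))]; exact M.comm x (f x)⟩
  have hfix0 : ∀ x ∈ orb X d, f x ≠ x := fun x hx he => by
    have h := ncard_modEq_fixed σ hσp (orb X d) hinv
    rw [hsize] at h
    have hle : (orb X d ∩ {x | σ x = x}).ncard ≤ 16 := by
      refine (Set.ncard_le_ncard Set.inter_subset_right (Set.toFinite _)).trans ?_
      rw [show ({x | σ x = x} : Set V) = F from rfl, hcardF, hk]
      norm_num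
    have hpos : 0 < (orb X d ∩ {x | σ x = x}).ncard :=
      Set.ncard_pos (Set.toFinite _) |>.2 ⟨x, hx, he⟩
    unfold Nat.ModEq at h
    omega
  haveI : Fintype V := Fintype.ofFinite V
  let O : Finset V := Finset.univ.filter fun x => x ∈ orb X d
  have hOc : O.card = 254 := by
    rw [← hsize, ← Set.ncard_coe_finset]
    congr 1
    simp [O]
  have hfiber : ∀ c ∈ O.image q, 127 ≤ (O.filter fun x => q x = c).card := by
    intro c hc
    obtain ⟨x, hx, rfl⟩ := Finset.mem_image.1 hc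
    have h := ncard_modEq_fixed σ hσp {y | y ∈ orb X d ∧ q y = q x} fun y => by
      show σ y ∈ orb X d ∧ q (σ y) = q x ↔ _
      rw [hinv, hq]; rfl
    have he : ({y | y ∈ orb X d ∧ q y = q x} ∩ {y | σ y = y} : Set V) = ∅ :=
      Set.eq_empty_of_forall_notMem fun y hy => hfix0 y hy.1.1 hy.2
    rw [he, Set.ncard_empty] at h
    have hcoe : (↑(O.filter fun y => q y = q x) : Set V) = {y | y ∈ orb X d ∧ q y = q x} := by
      ext y; simp [O]
    rw [← hcoe, Set.ncard_coe_finset] at h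
    refine Nat.le_of_dvd (Finset.card_pos.2 ⟨x, Finset.mem_filter.2 ⟨hx, rfl⟩⟩) ?_
    exact Nat.modEq_zero_iff_dvd.1 h
  have himg : (O.image q).card ≤ 2 := by
    have h := Finset.card_eq_sum_card_image q O
    have h' : (O.image q).card * 127 ≤ O.card := by
      rw [h, ← smul_eq_mul, ← Finset.sum_const]
      exact Finset.sum_le_sum hfiber
    omega
  set S : Set (V ⧸ W) := ↑(O.image q) with hS
  have htop : Subgroup.closure S = ⊤ := by
    refine top_le_iff.1 ?_
    rw [← Subgroup.map_top_of_surjective q (QuotientGroup.mk'_surjective W), ← M.span, MonoidHom.map_closure]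
    refine Subgroup.closure_mono ?_
    rintro _ ⟨x, hx, rfl⟩
    refine Finset.mem_coe.2 (Finset.mem_image.2 ⟨x, Finset.mem_filter.2 ⟨Finset.mem_univ _, ?_⟩, rfl⟩)
    rcases hx with rfl | hx
    exacts [M.d_mem, hE x hx]
  have hQ : Nat.card (V ⧸ W) = 16 := by
    have h := W.index_mul_card
    rw [M.card, Subgroup.index_eq_card] at h
    rw [hk] at hmul
    nlinarith
  have hsq : ∀ x : V ⧸ W, x * x = 1 := fun x => by
    induction x using QuotientGroup.induction_on with
    | _ x => rw [← QuotientGroup.mk_mul, M.sq]; rfl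
  obtain ⟨a, b, hab⟩ : ∃ a b : V ⧸ W, S ⊆ {a, b} := by
    rcases (O.image q).eq_empty_or_nonempty with h | ⟨a, ha⟩
    · exact ⟨1, 1, by rw [hS, h, Finset.coe_empty]; exact Set.empty_subset _⟩
    by_cases hb : ∃ b ∈ O.image q, b ≠ a
    · obtain ⟨b, hb, hne⟩ := hb
      refine ⟨a, b, fun x hx => ?_⟩
      by_contra hx'
      simp only [Set.mem_insert_iff, Set.mem_singleton_iff, not_or] at hx'
      have h3 : 3 ≤ (O.image q).card := by
        rw [← show ({x, a, b} : Finset (V ⧸ W)).card = 3 by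
          rw [Finset.card_eq_three]; exact ⟨x, a, b, hx'.1, hx'.2, hne.symm, rfl⟩]
        refine Finset.card_le_card ?_
        intro y hy
        simp only [Finset.mem_insert, Finset.mem_singleton] at hy
        rcases hy with rfl | rfl | rfl
        exacts [hx, ha, hb]
      omega
    · push Not at hb
      exact ⟨a, a, fun x hx => Or.inl (hb x hx)⟩
  let H : Subgroup (V ⧸ W) :=
    { carrier := {1, a, b, a * b}
      one_mem' := by simp
      mul_mem' := by
        intro x y hx hy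
        have e : ∀ p q : V ⧸ W, p * (p * q) = q := fun p q => by rw [← mul_assoc, hsq, one_mul]
        have e' : ∀ p q : V ⧸ W, p * q * p = q := fun p q => by rw [mul_comm p q, mul_assoc, hsq, mul_one]
        simp only [Set.mem_insert_iff, Set.mem_singleton_iff] at hx hy ⊢
        have e'' : b * a = a * b := mul_comm b a
        have e3 : a * b * b = a := by rw [mul_assoc, hsq, mul_one]
        rcases hx with h1 | h1 | h1 | h1 <;> rcases hy with h2 | h2 | h2 | h2 <;> rw [h1, h2] <;>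
          simp [hsq, e, e', e'', e3, show b * (a * b) = a by rw [mul_comm b (a * b), e3]]
      inv_mem' := fun {x} hx => by rw [inv_eq_of_mul_eq_one_right (hsq x)]; exact hx }
  have hle : Subgroup.closure S ≤ H := (Subgroup.closure_le H).2 fun x hx => by
    rcases hab hx with h | h
    · exact Or.inr (Or.inl h)
    · exact Or.inr (Or.inr (Or.inl h))
  rw [htop, top_le_iff] at hle
  have h4 : (H : Set (V ⧸ W)).ncard ≤ 4 := by
    refine (Set.ncard_insert_le _ _).trans ?_
    have := Set.ncard_insert_le a ({b, a * b} : Set (V ⧸ W))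
    have := Set.ncard_insert_le b ({a * b} : Set (V ⧸ W))
    rw [Set.ncard_singleton] at this
    omega
  rw [hle, Subgroup.coe_top, Set.ncard_univ, hQ] at h4
  omega

theorem ncard_orb_of_E (hE : ∀ a ∈ E, a ∈ orb X d) : (orb X d).ncard = 23 := by
  have hsplit := M.ncard_split (orb X d)
  have e1 : (orb X d ∩ {1}).ncard = 0 := by
    rw [Set.ncard_eq_zero]
    exact Set.eq_empty_of_forall_notMem fun y hy => M.one_notMem (hy.2 ▸ hy.1)
  have ed : (orb X d ∩ {d}).ncard = 1 := by
    rw [Set.inter_eq_self_of_subset_right (Set.singleton_subset_iff.2 M.d_mem), Set.ncard_singleton]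
  have eE : (orb X d ∩ E).ncard = 22 := by rw [Set.inter_eq_self_of_subset_right hE, M.ncard_E]
  have yes : ∀ S : Set V, (∀ a ∈ S, a * d ∈ orb X d) → (orb X d ∩ {y | y * d ∈ S}).ncard = S.ncard := fun S h => by
    rw [Set.inter_eq_self_of_subset_right (fun y hy => by rw [← M.dd y]; exact h _ hy), M.ncard_image_d]
  have no : ∀ S : Set V, (∀ a ∈ S, a * d ∉ orb X d) → (orb X d ∩ {y | y * d ∈ S}).ncard = 0 := fun S h => by
    rw [Set.ncard_eq_zero]
    exact Set.eq_empty_of_forall_notMem fun y hy => h _ hy.2 (by rw [M.dd]; exact hy.1)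
  have hdvd := M.ncard_orb_dvd
  have nE : ∀ S : Set V, (∀ a ∈ S, a ∈ orb X d) → (orb X d ∩ S).ncard = S.ncard := fun S h => by
    rw [Set.inter_eq_self_of_subset_right h]
  have nN : ∀ S : Set V, (∀ a ∈ S, a ∉ orb X d) → (orb X d ∩ S).ncard = 0 := fun S h => by
    rw [Set.ncard_eq_zero]
    exact Set.eq_empty_of_forall_notMem fun y hy => h _ hy.2 hy.1
  have free : (∀ a ∈ E, a * d ∉ orb X d) →
      (∀ a ∈ pairsOf E, ¬ (a ∈ orb X d ∧ a * d ∈ orb X d)) →
      (∀ y ∈ restOf E d, y ∈ orb X d → y * d ∉ orb X d) → ∀ y ∈ orb X d, y * d ∉ orb X d := by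
    intro hEd hW hT y hy h
    rcases M.cases' y with rfl | rfl | c | c | c | c | c
    · exact M.one_notMem hy
    · exact M.one_notMem (M.sq y ▸ h)
    · exact hEd y c h
    · exact hEd _ c (by rw [M.dd]; exact hy)
    · exact hW y c ⟨hy, h⟩
    · exact hW _ c ⟨h, by rw [M.dd]; exact hy⟩
    · exact hT y c hy h
  rcases M.Ed_cases with hEd | hEd <;> rcases M.W_cases with hW | hW <;> rcases M.Wd_cases with hWd | hWd <;>
    rcases M.T_cases with ⟨hTc, hT⟩ | ⟨hTc, hT⟩ | ⟨hTc, hT⟩ <;>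
    first
      | rw [e1, ed, eE, yes E hEd, nE _ hW, yes _ hWd, hTc, M.ncard_E, M.ncard_W] at hsplit
      | rw [e1, ed, eE, yes E hEd, nE _ hW, no _ hWd, hTc, M.ncard_E, M.ncard_W] at hsplit
      | rw [e1, ed, eE, yes E hEd, nN _ hW, yes _ hWd, hTc, M.ncard_E, M.ncard_W] at hsplit
      | rw [e1, ed, eE, yes E hEd, nN _ hW, no _ hWd, hTc, M.ncard_E] at hsplit
      | rw [e1, ed, eE, no E hEd, nE _ hW, yes _ hWd, hTc, M.ncard_W] at hsplit
      | rw [e1, ed, eE, no E hEd, nE _ hW, no _ hWd, hTc, M.ncard_W] at hsplit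
      | rw [e1, ed, eE, no E hEd, nN _ hW, yes _ hWd, hTc, M.ncard_W] at hsplit
      | rw [e1, ed, eE, no E hEd, nN _ hW, no _ hWd, hTc] at hsplit
  all_goals norm_num at hsplit
  all_goals first
    | exact hsplit
    | (exfalso; rw [hsplit] at hdvd; revert hdvd; decide +kernel)
    | exact (M.no_E_only hE hEd hW hWd hT).elim
    | exact (M.no_W_minus hE hEd hW hWd hT).elim
    | exact (M.no_W_plus hE hEd hW hWd hT hsplit).elim
    | exact (M.no_sum_free hE (free hEd (fun a ha h => hW a ha h.1) fun y hy h => (hT y hy).1 h) hsplit).elim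
    | exact (M.no_sum_free hE (free hEd (fun a ha h => hWd a ha h.2) fun y hy h => (hT y hy).1 h) hsplit).elim
    | exact (M.no_254 hE hsplit).elim
    | refine (M.no_complement hEd fun y h1 h2 => ?_).elim
      rcases M.cases' y with rfl | rfl | c | c | c | c | c
      exacts [absurd rfl h1, M.d_mem, hE y c, absurd c h2, hW y c, by rw [← M.dd y]; exact hWd _ c, hT y c]
    | refine (M.no_all fun y h1 => ?_).elim
      rcases M.cases' y with rfl | rfl | c | c | c | c | c
      exacts [absurd rfl h1, M.d_mem, hE y c, by rw [← M.dd y]; exact hEd _ c, hW y c,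
        by rw [← M.dd y]; exact hWd _ c, hT y c]

/-- The orbit of the point has 23 elements. -/
theorem ncard_orb : (orb X d).ncard = 23 := by
  rcases M.E_cases with hE | hE
  · exact M.ncard_orb_of_E hE
  rcases M.Ed_cases with hEd | hEd
  · refine M.swap.ncard_orb_of_E fun a ha => ?_
    rw [← M.dd a]
    exact hEd _ ha
  exfalso
  have hsplit := M.ncard_split (orb X d)
  have hdvd := M.ncard_orb_dvd
  have e1 : (orb X d ∩ {1}).ncard = 0 := by
    rw [Set.ncard_eq_zero]
    exact Set.eq_empty_of_forall_notMem fun y hy => M.one_notMem (hy.2 ▸ hy.1)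
  have ed : (orb X d ∩ {d}).ncard = 1 := by
    rw [Set.inter_eq_self_of_subset_right (Set.singleton_subset_iff.2 M.d_mem), Set.ncard_singleton]
  have eE : (orb X d ∩ E).ncard = 0 := by
    rw [Set.ncard_eq_zero]; exact Set.eq_empty_of_forall_notMem fun y hy => hE y hy.2 hy.1
  have eEd : (orb X d ∩ {y | y * d ∈ E}).ncard = 0 := by
    rw [Set.ncard_eq_zero]
    exact Set.eq_empty_of_forall_notMem fun y hy => hEd _ hy.2 (by rw [M.dd]; exact hy.1)
  obtain ⟨w, hw, hwc⟩ : ∃ w ≤ 1, (orb X d ∩ pairsOf E).ncard = 231 * w := by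
    rcases M.W_cases with h | h
    · exact ⟨1, le_rfl, by rw [Set.inter_eq_self_of_subset_right h, M.ncard_W]⟩
    · exact ⟨0, by norm_num, by
        rw [mul_zero, Set.ncard_eq_zero]; exact Set.eq_empty_of_forall_notMem fun y hy => h y hy.2 hy.1⟩
  obtain ⟨w', hw', hwc'⟩ : ∃ w ≤ 1, (orb X d ∩ {y | y * d ∈ pairsOf E}).ncard = 231 * w := by
    rcases M.Wd_cases with h | h
    · refine ⟨1, le_rfl, ?_⟩
      rw [Set.inter_eq_self_of_subset_right (fun y hy => by rw [← M.dd y]; exact h _ hy), M.ncard_image_d, M.ncard_W]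
    · refine ⟨0, by norm_num, ?_⟩
      rw [mul_zero, Set.ncard_eq_zero]
      exact Set.eq_empty_of_forall_notMem fun y hy => h _ hy.2 (by rw [M.dd]; exact hy.1)
  have hne : (orb X d).ncard ≠ 1 := fun h => by
    obtain ⟨φ, hφ, hd⟩ := M.moved
    exact hd ((Set.ncard_le_one_iff (Set.toFinite _)).1 h.le ⟨φ, hφ, rfl⟩ M.d_mem)
  rw [e1, ed, eE, eEd, hwc, hwc'] at hsplit
  interval_cases w <;> interval_cases w' <;>
    rcases M.T_cases with ⟨hTc, -⟩ | ⟨hTc, -⟩ | ⟨hTc, -⟩ <;> rw [hTc] at hsplit <;> norm_num at hsplit <;>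
    first
      | exact hne (Set.ncard_eq_one.2 hsplit)
      | (rw [hsplit] at hdvd; revert hdvd; decide +kernel)

end FusionModel

end CfsgLib.Recog.FiM22Two
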