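import Cfsg.Agent.Lib.Recog.FiM22Two.GLEleven

set_option autoImplicit false
set_option maxRecDepth 20000

/-!
A transitive group of automorphisms of an elementary abelian group of order 2¹¹ with the orbits of a double cover of
the stabiliser of 2¹⁰:M22 on the point has orbit of size 23 (owner: helper6).
-/

namespace CfsgLib.Recog.FiM22Two

open Cfsg

variable {V : Type*} [Group V]

/-- The products of two different elements of a set. -/
def pairsOf (E : Set V) : Set V := {y | ∃ a ∈ E, ∃ b ∈ E, a ≠ b ∧ a * b = y}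

/-- The elements left over. -/
def restOf (E : Set V) (d : V) : Set V :=
  {y | y ≠ 1 ∧ y ≠ d ∧ y ∉ E ∧ y * d ∉ E ∧ y ∉ pairsOf E ∧ y * d ∉ pairsOf E}

/-- The orbit of the point. -/
def orb (X : Subgroup (MulAut V)) (d : V) : Set V := {y | ∃ φ ∈ X, φ d = y}

/-- The hypotheses on the orbits of the stabiliser. -/
structure FusionModel (X : Subgroup (MulAut V)) (d : V) (E : Set V) : Prop where
  sq : ∀ x : V, x * x = 1
  comm : ∀ x y : V, x * y = y * x
  card : Nat.card V = 2048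
  d_ne : d ≠ 1
  ncard_E : E.ncard = 22
  ncard_W : (pairsOf E).ncard = 231
  e_ne : ∀ a ∈ E, a ≠ 1 ∧ a ≠ d ∧ a * d ∉ E
  w_ne : ∀ y ∈ pairsOf E, y ≠ 1 ∧ y ≠ d ∧ y ∉ E ∧ y * d ∉ E ∧ y * d ∉ pairsOf E
  triple : ∀ a ∈ E, ∀ b ∈ E, ∀ c ∈ E, a ≠ b → a ≠ c → b ≠ c → a * b * c ∈ restOf E d
  stab_E : ∀ φ ∈ X, φ d = d → ∀ a ∈ E, φ a ∈ E
  trans_E : ∀ a ∈ E, ∀ b ∈ E, ∃ φ ∈ X, φ d = d ∧ φ a = b
  trans_W : ∀ a ∈ pairsOf E, ∀ b ∈ pairsOf E, ∃ φ ∈ X, φ d = d ∧ φ a = b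
  trans_T : ∀ a ∈ restOf E d, ∀ b ∈ restOf E d, ∃ φ ∈ X, φ d = d ∧ (φ a = b ∨ φ a = b * d)
  seven : ∃ l : List V, l.length = 7 ∧ (∀ x ∈ l, x ∈ E) ∧ l.prod = 1
  seven' : ∃ l : List V, l.length = 7 ∧ (∀ x ∈ l, x ∈ E) ∧ l.prod = d
  span : Subgroup.closure (insert d E) = ⊤
  moved : ∃ φ ∈ X, φ d ≠ d

namespace FusionModel

variable {X : Subgroup (MulAut V)} {d : V} {E : Set V} (M : FusionModel X d E)
include M

theorem dd (x : V) : x * d * d = x := by rw [mul_assoc, M.sq, mul_one]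

theorem d_mul (x : V) : d * x = x * d := M.comm d x

theorem cancel (x y : V) : x * (x * y) = y := by rw [← mul_assoc, M.sq, one_mul]

theorem eq_mul_d {x y : V} (h : x * d = y) : x = y * d := by rw [← h, M.dd]

theorem stab_mulD {φ : MulAut V} (hd : φ d = d) (y : V) : φ (y * d) = φ y * d := by rw [map_mul, hd]

theorem stab_inv {φ : MulAut V} (hd : φ d = d) : φ⁻¹ d = d := by
  conv_lhs => rw [← hd]
  exact φ.symm_apply_apply d

theorem stab_W {φ : MulAut V} (hφ : φ ∈ X) (hd : φ d = d) {y : V} (hy : y ∈ pairsOf E) : φ y ∈ pairsOf E := by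
  obtain ⟨a, ha, b, hb, hne, rfl⟩ := hy
  exact ⟨φ a, M.stab_E φ hφ hd a ha, φ b, M.stab_E φ hφ hd b hb, fun h => hne (φ.injective h), (map_mul φ a b).symm⟩

theorem d_mem : d ∈ orb X d := ⟨1, one_mem X, rfl⟩

theorem map_mem {φ : MulAut V} (hφ : φ ∈ X) {y : V} (hy : y ∈ orb X d) : φ y ∈ orb X d := by
  obtain ⟨ψ, hψ, rfl⟩ := hy
  exact ⟨φ * ψ, mul_mem hφ hψ, rfl⟩

theorem map_mem_iff {φ : MulAut V} (hφ : φ ∈ X) {y : V} : φ y ∈ orb X d ↔ y ∈ orb X d := by
  refine ⟨fun h => ?_, M.map_mem hφ⟩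
  have := M.map_mem (inv_mem hφ) h
  rwa [show φ⁻¹ (φ y) = y from φ.symm_apply_apply y] at this

theorem to_d {y : V} (hy : y ∈ orb X d) : ∃ φ ∈ X, φ y = d := by
  obtain ⟨ψ, hψ, rfl⟩ := hy
  exact ⟨ψ⁻¹, inv_mem hψ, ψ.symm_apply_apply d⟩

theorem one_notMem : (1 : V) ∉ orb X d := fun ⟨φ, _, h⟩ => M.d_ne (φ.injective (h.trans (map_one φ).symm))

theorem cases' (y : V) : y = 1 ∨ y = d ∨ y ∈ E ∨ y * d ∈ E ∨ y ∈ pairsOf E ∨ y * d ∈ pairsOf E ∨ y ∈ restOf E d := by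
  by_contra h
  simp only [not_or] at h
  obtain ⟨h1, h2, h3, h4, h5, h6, h7⟩ := h
  exact h7 ⟨h1, h2, h3, h4, h5, h6⟩

theorem E_cases : (∀ a ∈ E, a ∈ orb X d) ∨ ∀ a ∈ E, a ∉ orb X d := by
  by_cases h : ∃ a ∈ E, a ∈ orb X d
  · obtain ⟨a, ha, hO⟩ := h
    left
    intro b hb
    obtain ⟨φ, hφ, -, rfl⟩ := M.trans_E a ha b hb
    exact M.map_mem hφ hO
  · exact Or.inr fun a ha hO => h ⟨a, ha, hO⟩

theorem Ed_cases : (∀ a ∈ E, a * d ∈ orb X d) ∨ ∀ a ∈ E, a * d ∉ orb X d := by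
  by_cases h : ∃ a ∈ E, a * d ∈ orb X d
  · obtain ⟨a, ha, hO⟩ := h
    left
    intro b hb
    obtain ⟨φ, hφ, hd, rfl⟩ := M.trans_E a ha b hb
    rw [← M.stab_mulD hd]
    exact M.map_mem hφ hO
  · exact Or.inr fun a ha hO => h ⟨a, ha, hO⟩

theorem W_cases : (∀ a ∈ pairsOf E, a ∈ orb X d) ∨ ∀ a ∈ pairsOf E, a ∉ orb X d := by
  by_cases h : ∃ a ∈ pairsOf E, a ∈ orb X d
  · obtain ⟨a, ha, hO⟩ := h
    left
    intro b hb
    obtain ⟨φ, hφ, -, rfl⟩ := M.trans_W a ha b hb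
    exact M.map_mem hφ hO
  · exact Or.inr fun a ha hO => h ⟨a, ha, hO⟩

theorem Wd_cases : (∀ a ∈ pairsOf E, a * d ∈ orb X d) ∨ ∀ a ∈ pairsOf E, a * d ∉ orb X d := by
  by_cases h : ∃ a ∈ pairsOf E, a * d ∈ orb X d
  · obtain ⟨a, ha, hO⟩ := h
    left
    intro b hb
    obtain ⟨φ, hφ, hd, rfl⟩ := M.trans_W a ha b hb
    rw [← M.stab_mulD hd]
    exact M.map_mem hφ hO
  · exact Or.inr fun a ha hO => h ⟨a, ha, hO⟩

theorem rest_mul_d {y : V} (hy : y ∈ restOf E d) : y * d ∈ restOf E d := by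
  obtain ⟨h1, h2, h3, h4, h5, h6⟩ := hy
  refine ⟨fun h => h2 ?_, fun h => h1 ?_, h4, ?_, h6, ?_⟩
  · rw [M.eq_mul_d h, one_mul]
  · rw [M.eq_mul_d h, M.sq]
  · rw [M.dd]; exact h3
  · rw [M.dd]; exact h5

theorem ncard_image_d (S : Set V) : {y : V | y * d ∈ S}.ncard = S.ncard := by
  have : {y : V | y * d ∈ S} = (fun y => y * d) '' S := by
    ext y
    exact ⟨fun h => ⟨y * d, h, M.dd y⟩, fun ⟨z, hz, e⟩ => by rw [← e, Set.mem_setOf_eq, M.dd]; exact hz⟩
  rw [this, Set.ncard_image_of_injective _ (mul_left_injective d)]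

variable [Finite V]

theorem ncard_split (P : Set V) : P.ncard = (P ∩ {1}).ncard + (P ∩ {d}).ncard + (P ∩ E).ncard +
    (P ∩ {y | y * d ∈ E}).ncard + (P ∩ pairsOf E).ncard + (P ∩ {y | y * d ∈ pairsOf E}).ncard +
    (P ∩ restOf E d).ncard := by
  have hu : P = (P ∩ {1}) ∪ ((P ∩ {d}) ∪ ((P ∩ E) ∪ ((P ∩ {y | y * d ∈ E}) ∪ ((P ∩ pairsOf E) ∪
      ((P ∩ {y | y * d ∈ pairsOf E}) ∪ (P ∩ restOf E d)))))) := by
    ext y
    simp only [Set.mem_union, Set.mem_inter_iff, Set.mem_singleton_iff, Set.mem_setOf_eq]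
    have := M.cases' y
    tauto
  have hE : ∀ a, a ∈ E → a ≠ 1 ∧ a ≠ d ∧ a * d ∉ E := M.e_ne
  have hd1 : (1 : V) ≠ d := M.d_ne.symm
  conv_lhs => rw [hu]
  rw [Set.ncard_union_eq ?_ (Set.toFinite _) (Set.toFinite _), Set.ncard_union_eq ?_ (Set.toFinite _) (Set.toFinite _),
    Set.ncard_union_eq ?_ (Set.toFinite _) (Set.toFinite _), Set.ncard_union_eq ?_ (Set.toFinite _) (Set.toFinite _),
    Set.ncard_union_eq ?_ (Set.toFinite _) (Set.toFinite _), Set.ncard_union_eq ?_ (Set.toFinite _) (Set.toFinite _)]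
  · omega
  all_goals
    rw [Set.disjoint_left]
    intro y hy hy'
    simp only [Set.mem_union, Set.mem_inter_iff, Set.mem_singleton_iff, Set.mem_setOf_eq] at hy hy'
  · exact hy'.2.2.2.2.2.2 hy.2
  · rcases hy' with ⟨-, h⟩ | ⟨-, h⟩
    · exact (M.w_ne y hy.2).2.2.2.2 h
    · exact h.2.2.2.2.1 hy.2
  · rcases hy' with ⟨-, h⟩ | ⟨-, h⟩ | ⟨-, h⟩
    · exact (M.w_ne y h).2.2.2.1 hy.2
    · exact (M.w_ne _ h).2.2.1 hy.2
    · exact h.2.2.2.1 hy.2
  · rcases hy' with ⟨-, h⟩ | ⟨-, h⟩ | ⟨-, h⟩ | ⟨-, h⟩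
    · exact (hE y hy.2).2.2 h
    · exact (M.w_ne y h).2.2.1 hy.2
    · have := (M.w_ne _ h).2.2.2.1
      rw [M.dd] at this
      exact this hy.2
    · exact h.2.2.1 hy.2
  · obtain rfl := hy.2
    rcases hy' with ⟨-, h⟩ | ⟨-, h⟩ | ⟨-, h⟩ | ⟨-, h⟩ | ⟨-, h⟩
    · exact (hE _ h).2.1 rfl
    · exact (hE _ h).1 (M.sq _)
    · exact (M.w_ne _ h).2.1 rfl
    · exact (M.w_ne _ h).1 (M.sq _)
    · exact h.2.1 rfl
  · obtain rfl := hy.2
    rcases hy' with ⟨-, h⟩ | ⟨-, h⟩ | ⟨-, h⟩ | ⟨-, h⟩ | ⟨-, h⟩ | ⟨-, h⟩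
    · exact hd1 h
    · exact (hE _ h).1 rfl
    · exact (hE _ h).2.1 (one_mul d)
    · exact (M.w_ne _ h).1 rfl
    · exact (M.w_ne _ h).2.1 (one_mul d)
    · exact h.1 rfl

theorem ncard_rest : (restOf E d).ncard = 1540 := by
  have h := M.ncard_split Set.univ
  simp only [Set.univ_inter, Set.ncard_univ, Set.ncard_singleton, M.ncard_image_d, M.ncard_E, M.ncard_W, M.card] at h
  omega

theorem T_cases : ((orb X d ∩ restOf E d).ncard = 0 ∧ ∀ y ∈ restOf E d, y ∉ orb X d) ∨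
    ((orb X d ∩ restOf E d).ncard = 770 ∧ ∀ y ∈ restOf E d, (y ∈ orb X d ↔ y * d ∉ orb X d)) ∨
    ((orb X d ∩ restOf E d).ncard = 1540 ∧ ∀ y ∈ restOf E d, y ∈ orb X d) := by
  have hinv : ∀ a ∈ restOf E d, ∀ b ∈ restOf E d, (a ∈ orb X d ∧ a * d ∈ orb X d → b ∈ orb X d) ∧
      (a ∉ orb X d ∧ a * d ∉ orb X d → b ∉ orb X d) := by
    intro a ha b hb
    obtain ⟨φ, hφ, hd, h⟩ := M.trans_T a ha b hb
    rcases h with h | h
    · rw [← h, M.map_mem_iff hφ]
      exact ⟨fun h => h.1, fun h => h.1⟩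
    · rw [show b = φ (a * d) by rw [M.stab_mulD hd, h, M.dd], M.map_mem_iff hφ]
      exact ⟨fun h => h.2, fun h => h.2⟩
  by_cases hb : ∃ a ∈ restOf E d, a ∈ orb X d ∧ a * d ∈ orb X d
  · obtain ⟨a, ha, h⟩ := hb
    refine Or.inr (Or.inr ⟨?_, fun y hy => (hinv a ha y hy).1 h⟩)
    rw [Set.inter_eq_self_of_subset_right (fun y hy => (hinv a ha y hy).1 h), M.ncard_rest]
  by_cases hn : ∃ a ∈ restOf E d, a ∉ orb X d ∧ a * d ∉ orb X d
  · obtain ⟨a, ha, h⟩ := hn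
    refine Or.inl ⟨?_, fun y hy => (hinv a ha y hy).2 h⟩
    rw [Set.ncard_eq_zero]
    exact Set.eq_empty_of_forall_notMem fun y hy => (hinv a ha y hy.2).2 h hy.1
  push Not at hb hn
  have key : ∀ y ∈ restOf E d, (y ∈ orb X d ↔ y * d ∉ orb X d) := fun y hy =>
    ⟨fun h => hb y hy h, fun h => by_contra fun h' => h (hn y hy h')⟩
  refine Or.inr (Or.inl ⟨?_, key⟩)
  have h1 : (restOf E d \ orb X d) = {y | y * d ∈ orb X d ∩ restOf E d} := by
    ext y
    simp only [Set.mem_sdiff, Set.mem_setOf_eq, Set.mem_inter_iff]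
    constructor
    · rintro ⟨hy, hn'⟩
      exact ⟨hn y hy hn', M.rest_mul_d hy⟩
    · rintro ⟨ho, hy⟩
      have hy' := M.rest_mul_d hy
      rw [M.dd] at hy'
      exact ⟨hy', fun h => hb y hy' h ho⟩
  have h2 := Set.ncard_inter_add_ncard_sdiff_eq_ncard (restOf E d) (orb X d) (Set.toFinite _)
  rw [h1, M.ncard_image_d, Set.inter_comm, M.ncard_rest] at h2
  omega

theorem ncard_orb_dvd : (orb X d).ncard ∣ gl11 := by
  have h : orb X d = MulAction.orbit X d := by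
    ext y
    exact ⟨fun ⟨φ, hφ, e⟩ => ⟨⟨φ, hφ⟩, e⟩, fun ⟨φ, e⟩ => ⟨φ.1, φ.2, e⟩⟩
  rw [h, ← MulAction.index_stabilizer, ← card_gl11]
  exact (Subgroup.index_dvd_card _).trans ((Subgroup.card_subgroup_dvd_card X).trans
    (card_mulAut_dvd M.comm M.sq (show Nat.card V = 2 ^ 11 by rw [M.card]; norm_num)))

theorem swap : FusionModel X d {y | y * d ∈ E} := by
  have hW : pairsOf {y | y * d ∈ E} = pairsOf E := by
    ext y
    constructor
    · rintro ⟨a, ha, b, hb, hne, rfl⟩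
      refine ⟨a * d, ha, b * d, hb, fun h => hne (mul_right_cancel h), ?_⟩
      rw [M.comm b d, ← mul_assoc, M.dd]
    · rintro ⟨a, ha, b, hb, hne, rfl⟩
      refine ⟨a * d, by rwa [Set.mem_setOf_eq, M.dd], b * d, by rwa [Set.mem_setOf_eq, M.dd],
        fun h => hne (mul_right_cancel h), ?_⟩
      rw [M.comm b d, ← mul_assoc, M.dd]
  have hT : restOf {y | y * d ∈ E} d = restOf E d := by
    ext y
    simp only [restOf, hW, Set.mem_setOf_eq, M.dd]
    tauto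
  refine
    { sq := M.sq, comm := M.comm, card := M.card, d_ne := M.d_ne, moved := M.moved
      ncard_E := by rw [M.ncard_image_d, M.ncard_E]
      ncard_W := by rw [hW, M.ncard_W]
      e_ne := fun a ha => ⟨fun h => (M.e_ne _ ha).2.1 (by rw [h, one_mul]), fun h => (M.e_ne _ ha).1 (by rw [h, M.sq]),
        fun h => (M.e_ne _ ha).2.2 h⟩
      w_ne := fun y hy => ?_
      triple := fun a ha b hb c hc hab hac hbc => ?_
      stab_E := fun φ hφ hd a ha => ?_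
      trans_E := fun a ha b hb => ?_
      trans_W := by rw [hW]; exact M.trans_W
      trans_T := by rw [hT]; exact M.trans_T
      seven := ?_
      seven' := ?_
      span := ?_ }
  · rw [hW] at hy ⊢
    obtain ⟨h1, h2, h3, h4, h5⟩ := M.w_ne y hy
    exact ⟨h1, h2, h4, by rw [Set.mem_setOf_eq, M.dd]; exact h3, h5⟩
  · rw [hT]
    have h := M.rest_mul_d (M.triple _ ha _ hb _ hc (fun h => hab (mul_right_cancel h))
      (fun h => hac (mul_right_cancel h)) (fun h => hbc (mul_right_cancel h)))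
    rwa [show a * d * (b * d) = a * b from by rw [M.comm b d, ← mul_assoc, M.dd], ← mul_assoc, M.dd] at h
  · rw [Set.mem_setOf_eq, ← M.stab_mulD hd]
    exact M.stab_E φ hφ hd _ ha
  · obtain ⟨φ, hφ, hd, h⟩ := M.trans_E _ ha _ hb
    rw [M.stab_mulD hd] at h
    exact ⟨φ, hφ, hd, mul_right_cancel h⟩
  · obtain ⟨l, hl, hmem, hp⟩ := M.seven'
    match l, hl with
    | [a, b, c, e, f, g, h], _ =>
      simp only [List.prod_cons, List.prod_nil, mul_one] at hp
      refine ⟨[a * d, b * d, c * d, e * d, f * d, g * d, h * d], rfl, ?_, ?_⟩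
      · intro x hx
        simp only [List.mem_cons, List.not_mem_nil, or_false] at hx
        rcases hx with rfl | rfl | rfl | rfl | rfl | rfl | rfl <;>
          (rw [Set.mem_setOf_eq, M.dd]; exact hmem _ (by simp))
      · letI : CommGroup V := { (inferInstance : Group V) with mul_comm := M.comm }
        simp only [List.prod_cons, List.prod_nil, mul_one]
        calc a * d * (b * d * (c * d * (e * d * (f * d * (g * d * (h * d))))))
            = (a * (b * (c * (e * (f * (g * h)))))) * d * ((d * d) * (d * d) * (d * d)) := by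
              simp only [mul_comm, mul_left_comm, mul_assoc]
          _ = 1 := by rw [hp, M.sq, one_mul, one_mul, mul_one]
  · obtain ⟨l, hl, hmem, hp⟩ := M.seven
    match l, hl with
    | [a, b, c, e, f, g, h], _ =>
      simp only [List.prod_cons, List.prod_nil, mul_one] at hp
      refine ⟨[a * d, b * d, c * d, e * d, f * d, g * d, h * d], rfl, ?_, ?_⟩
      · intro x hx
        simp only [List.mem_cons, List.not_mem_nil, or_false] at hx
        rcases hx with rfl | rfl | rfl | rfl | rfl | rfl | rfl <;>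
          (rw [Set.mem_setOf_eq, M.dd]; exact hmem _ (by simp))
      · letI : CommGroup V := { (inferInstance : Group V) with mul_comm := M.comm }
        simp only [List.prod_cons, List.prod_nil, mul_one]
        calc a * d * (b * d * (c * d * (e * d * (f * d * (g * d * (h * d))))))
            = (a * (b * (c * (e * (f * (g * h)))))) * d * ((d * d) * (d * d) * (d * d)) := by
              simp only [mul_comm, mul_left_comm, mul_assoc]
          _ = d := by simp [hp, M.sq]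
  · refine top_le_iff.1 (M.span ▸ (Subgroup.closure_le _).2 ?_)
    intro x hx
    have hdm : d ∈ Subgroup.closure (insert d {y | y * d ∈ E}) := Subgroup.subset_closure (Or.inl rfl)
    rcases hx with rfl | hx
    · exact hdm
    · rw [← M.dd x]
      exact mul_mem (Subgroup.subset_closure (Or.inr (show x * d * d ∈ E by rw [M.dd]; exact hx))) hdm

end FusionModel

end CfsgLib.Recog.FiM22Two
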