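import Cfsg.Agent.Lib.Recog.FiM22Two.DoubleModule
import Cfsg.Agent.Lib.Recog.FiM22Two.DoubleCases

set_option autoImplicit false
set_option maxRecDepth 20000

/-!
The Thompson subgroup of an involution centraliser 2.Fi22 holds 23 conjugates of the involution (owner: helper6).
-/

namespace CfsgLib.Recog.FiM22Two

open Cfsg CfsgLib.ThreeTrans CfsgLib.Recog.FiM22
open CfsgLib.Recog.UsixMult.Plane (ea_map ea_subgroupOf)

universe u v

variable {G : Type v} [Group G] [Finite G] {d : G} {Q : Type u} [Group Q] [Finite Q]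
  {π : ↥(Subgroup.centralizer ({d} : Set G)) →* Q} {δ : ↥(Subgroup.centralizer ({d} : Set G))} {D : Set Q}

theorem modules_conj {K K' : Subgroup Q} (B : BigModule D K) (B' : BigModule D K') :
    ∃ q : Q, K'.map (MulAut.conj q).toMonoidHom = K := by
  haveI : Fact (Nat.Prime 2) := ⟨Nat.prime_two⟩
  have pg : ∀ F : Subgroup Q, IsElementaryAbelian 2 F → IsPGroup 2 F := fun F hF x =>
    ⟨1, Subtype.ext (by simpa using hF.2 x x.2)⟩
  obtain ⟨T, hT⟩ := (pg K B.ea).exists_le_sylow
  obtain ⟨T', hT'⟩ := (pg K' B'.ea).exists_le_sylow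
  obtain ⟨q, hq⟩ := MulAction.exists_smul_eq Q T' T
  refine ⟨q, ?_⟩
  have hle : K'.map (MulAut.conj q).toMonoidHom ≤ T := by
    rintro _ ⟨x, hx, rfl⟩
    rw [← hq, Sylow.coe_subgroup_smul]
    exact ⟨x, hT' hx, rfl⟩
  rw [B.eq_closure hT, ← (B'.map_conj q).eq_closure hle]

/-- The subgroup of G belonging to a module. -/
abbrev bigG (π : ↥(Subgroup.centralizer ({d} : Set G)) →* Q) (K : Subgroup Q) : Subgroup G :=
  (K.comap π).map (Subgroup.centralizer ({d} : Set G)).subtype

namespace DoubleCover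

variable (S : DoubleCover π δ D) {K : Subgroup Q} (B : BigModule D K) (hδ : (δ : G) = d)
include S B

theorem ea_bigG : IsElementaryAbelian 2 (bigG π K) := ea_map _ (S.ea_comap B)

theorem card_bigG : Nat.card (bigG π K) = 2048 :=
  (Subgroup.card_map_of_injective (Subgroup.subtype_injective _)).trans (S.card_module B)

include hδ

theorem d_mem_bigG : d ∈ bigG π K :=
  ⟨δ, by show π δ ∈ K; rw [S.map_delta]; exact one_mem K, hδ⟩

theorem exists_to_d {x : G} (hx : x ∈ bigG π K) (hc : IsConj d x) :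
    ∃ n ∈ Subgroup.normalizer (bigG π K : Set G), n * x * n⁻¹ = d := by
  obtain ⟨g, hg⟩ := isConj_iff.1 hc.symm
  set A := bigG π K with hA
  have hC : A.map (MulAut.conj g).toMonoidHom ≤ Subgroup.centralizer ({d} : Set G) := by
    rintro _ ⟨a, ha, rfl⟩
    rw [Subgroup.mem_centralizer_singleton_iff, ← hg]
    exact ((ea_comm (S.ea_bigG B) ha hx).map (MulAut.conj g).toMonoidHom).eq
  set F := (A.map (MulAut.conj g).toMonoidHom).subgroupOf (Subgroup.centralizer ({d} : Set G))
  have hFc : 2048 ≤ Nat.card F := by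
    rw [Nat.card_congr (Subgroup.subgroupOfEquivOfLe hC).toEquiv,
      Subgroup.card_map_of_injective (MulAut.conj g).injective, S.card_bigG B]
  obtain ⟨B', hF⟩ := S.eq_module (ea_subgroupOf (ea_map _ (S.ea_bigG B)) _) hFc
  obtain ⟨q, hq⟩ := modules_conj B B'
  obtain ⟨c, rfl⟩ := S.surj q
  refine ⟨(c : G) * g, ?_, ?_⟩
  · have hmap : A.map (MulAut.conj ((c : G) * g)).toMonoidHom = A := by
      refine Subgroup.eq_of_le_of_card_ge ?_ (le_of_eq (Subgroup.card_map_of_injective (MulAut.conj _).injective).symm)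
      rintro _ ⟨a, ha, rfl⟩
      have hm : (⟨g * a * g⁻¹, hC ⟨a, ha, rfl⟩⟩ : ↥(Subgroup.centralizer ({d} : Set G))) ∈ F := ⟨a, ha, rfl⟩
      replace hm := (SetLike.ext_iff.1 hF _).1 hm
      refine ⟨c * ⟨g * a * g⁻¹, hC ⟨a, ha, rfl⟩⟩ * c⁻¹, ?_, ?_⟩
      · show π _ ∈ K
        rw [← hq, map_mul, map_mul, map_inv]
        exact ⟨_, hm, rfl⟩
      · show (c : G) * (g * a * g⁻¹) * (c : G)⁻¹ = MulAut.conj ((c : G) * g) a
        rw [MulAut.conj_apply]; group
    refine Subgroup.mem_normalizer_iff.2 fun a => ⟨fun ha => hmap ▸ ⟨a, ha, rfl⟩, fun ha => ?_⟩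
    obtain ⟨b, hb, e⟩ : _ ∈ A.map (MulAut.conj ((c : G) * g)).toMonoidHom := hmap.symm ▸ ha
    rw [← (MulAut.conj ((c : G) * g)).injective e]
    exact hb
  · have hcd : (c : G) * d = d * c := Subgroup.mem_centralizer_singleton_iff.1 c.2
    rw [show (c : G) * g * x * ((c : G) * g)⁻¹ = (c : G) * (g * x * g⁻¹) * (c : G)⁻¹ by group, hg, hcd,
      mul_inv_cancel_right]

theorem transitive {x y : G} (hx : x ∈ bigG π K) (hy : y ∈ bigG π K) (hcx : IsConj d x) (hcy : IsConj d y) :
    ∃ n ∈ Subgroup.normalizer (bigG π K : Set G), n * x * n⁻¹ = y := by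
  obtain ⟨n, hn, hnx⟩ := S.exists_to_d B hδ hx hcx
  obtain ⟨m, hm, hmy⟩ := S.exists_to_d B hδ hy hcy
  refine ⟨m⁻¹ * n, mul_mem (inv_mem hm) hn, ?_⟩
  rw [show m⁻¹ * n * x * (m⁻¹ * n)⁻¹ = m⁻¹ * (n * x * n⁻¹) * m by group, hnx, ← hmy]
  group

theorem exists_moved (hnwc : ∃ g : G, g * d * g⁻¹ ∈ Subgroup.centralizer ({d} : Set G) ∧ g * d * g⁻¹ ≠ d) :
    ∃ x ∈ bigG π K, IsConj d x ∧ x ≠ d := by
  haveI : Fact (Nat.Prime 2) := ⟨Nat.prime_two⟩
  obtain ⟨g, hgC, hgd⟩ := hnwc
  set y : ↥(Subgroup.centralizer ({d} : Set G)) := ⟨g * d * g⁻¹, hgC⟩ with hy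
  have hd1 : d ≠ 1 := fun h => S.ne (Subtype.ext (hδ.trans h))
  have hdd : d * d = 1 := by rw [← hδ, ← Subgroup.coe_mul, S.delta_sq]; rfl
  have hsq : π y * π y = 1 := by
    rw [← map_mul, ← map_one π]
    refine congrArg π (Subtype.ext ?_)
    show g * d * g⁻¹ * (g * d * g⁻¹) = 1
    rw [show g * d * g⁻¹ * (g * d * g⁻¹) = g * (d * d) * g⁻¹ by group, hdd, mul_one, mul_inv_cancel]
  have hy1 : π y ≠ 1 := fun h => by
    rcases (S.ker y).1 h with e | e
    · apply hd1
      have e' : g * d * g⁻¹ = 1 := congrArg Subtype.val e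
      calc d = g⁻¹ * (g * d * g⁻¹) * g := by group
        _ = 1 := by rw [e', mul_one, inv_mul_cancel]
    · exact hgd ((congrArg Subtype.val e).trans hδ)
  obtain ⟨l, hl, -, -, hp⟩ := involution_factor S.grp S.prim S.type22 (orderOf_eq_prime (by rw [pow_two]; exact hsq) hy1)
  set F := Subgroup.closure {z : Q | z ∈ l}
  have hF : IsElementaryAbelian 2 F := ea_closure hl.comm fun z hz => by
    rw [← pow_two, ← S.grp.1.1 z (hl.mem z hz), pow_orderOf_eq_one]
  obtain ⟨T, hT⟩ := (show IsPGroup 2 F from fun x => ⟨1, Subtype.ext (by simpa using hF.2 x x.2)⟩).exists_le_sylow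
  obtain ⟨K', B', -, hK'⟩ := exists_big_in S.grp S.prim S.type22 T
  have hyK : π y ∈ K' := by
    rw [← hp]
    exact list_prod_mem fun z hz => hK' ▸ Subgroup.subset_closure ⟨hl.mem z hz, hT (Subgroup.subset_closure hz)⟩
  obtain ⟨q, hq⟩ := modules_conj B B'
  obtain ⟨c, rfl⟩ := S.surj q
  refine ⟨((c * y * c⁻¹ : ↥(Subgroup.centralizer ({d} : Set G))) : G), ⟨c * y * c⁻¹, ?_, rfl⟩,
    isConj_iff.2 ⟨(c : G) * g, ?_⟩, ?_⟩
  · show π _ ∈ K
    rw [← hq, map_mul, map_mul, map_inv]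
    exact ⟨_, hyK, rfl⟩
  · show _ = (c : G) * (g * d * g⁻¹) * (c : G)⁻¹
    group
  · intro h
    apply hgd
    have hcd : (c : G) * d = d * c := Subgroup.mem_centralizer_singleton_iff.1 c.2
    change (c : G) * (g * d * g⁻¹) * (c : G)⁻¹ = d at h
    calc g * d * g⁻¹ = (c : G)⁻¹ * ((c : G) * (g * d * g⁻¹) * (c : G)⁻¹) * c := by group
      _ = (c : G)⁻¹ * (d * c) := by rw [h, mul_assoc]
      _ = d := by rw [← hcd, inv_mul_cancel_left]

theorem ncard_conjugates (hnwc : ∃ g : G, g * d * g⁻¹ ∈ Subgroup.centralizer ({d} : Set G) ∧ g * d * g⁻¹ ≠ d) :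
    Set.ncard {x : G | x ∈ bigG π K ∧ IsConj d x} = 23 := by
  classical
  let C := Subgroup.centralizer ({d} : Set G)
  set A := bigG π K with hA
  have hAC : A ≤ C := Subgroup.map_subtype_le _
  let j : A →* C := Subgroup.inclusion hAC
  have hjinj : Function.Injective j := Subgroup.inclusion_injective hAC
  have hjA : ∀ v : A, j v ∈ K.comap π := fun v => by
    obtain ⟨c, hc, e⟩ := v.2
    rwa [show j v = c from Subtype.ext e.symm]
  have hjsurj : ∀ c ∈ K.comap π, ∃ v : A, j v = c := fun c hc => ⟨⟨c, c, hc, rfl⟩, Subtype.ext rfl⟩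
  let dV : A := ⟨d, S.d_mem_bigG B hδ⟩
  have hjd : j dV = δ := Subtype.ext hδ.symm
  have hjmul : ∀ v : A, j (v * dV) = j v * δ := fun v => by rw [map_mul, hjd]
  let X : Subgroup (MulAut A) := (Subgroup.normalizerMonoidHom A).range
  obtain ⟨q₀, hq₀⟩ := Set.nonempty_of_ncard_ne_zero (show (members D K).ncard ≠ 0 by rw [B.facts.2]; norm_num)
  obtain ⟨u, rfl⟩ := S.surj q₀
  have hu : π u ∈ members D K := hq₀
  let E : Set A := {v | j v ∈ classIn (K.comap π) u}
  have hEm : ∀ {v : A}, v ∈ E → π (j v) ∈ members D K := fun {v} hv => S.classIn_members B hu hv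
  have hEinj : ∀ {v w : A}, v ∈ E → w ∈ E → π (j v) = π (j w) → v = w := fun {v w} hv hw h =>
    hjinj (S.classIn_inj B hu hv hw h)
  have hπd : ∀ v : A, π (j (v * dV)) = π (j v) := fun v => by rw [hjmul, S.map_mul_delta]
  have hpair : ∀ {v : A}, v ∈ pairsOf E → π (j v) ∈ pairs D K := by
    rintro _ ⟨a, ha, b, hb, hne, rfl⟩
    exact ⟨_, hEm ha, _, hEm hb, fun e => hne (hEinj ha hb e), by rw [map_mul, map_mul]⟩
  have hWinj : ∀ {v w : A}, v ∈ pairsOf E → w ∈ pairsOf E → π (j v) = π (j w) → v = w := by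
    rintro _ _ ⟨a, ha, b, hb, hab, rfl⟩ ⟨a', ha', b', hb', hab', rfl⟩ h
    rw [map_mul, map_mul, map_mul, map_mul] at h
    rcases B.pair_unique (hEm ha) (hEm hb) (hEm ha') (hEm hb') (fun e => hab (hEinj ha hb e))
      (fun e => hab' (hEinj ha' hb' e)) h with ⟨e1, e2⟩ | ⟨e1, e2⟩
    · rw [hEinj ha ha' e1, hEinj hb hb' e2]
    · rw [hEinj ha hb' e1, hEinj hb ha' e2]
      exact Subtype.ext (ea_comm (S.ea_bigG B) b'.2 a'.2).eq
  have hcomm : ∀ x y : A, x * y = y * x := fun x y => Subtype.ext (ea_comm (S.ea_bigG B) x.2 y.2).eq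
  have hsq : ∀ x : A, x * x = 1 := fun x => Subtype.ext (by
    show (x : G) * x = 1
    rw [← pow_two]; exact (S.ea_bigG B).2 x x.2)
  have hne_d : ∀ {v : A}, v * dV ≠ v := fun {v} h => S.ne (hjd.symm.trans (by rw [mul_eq_left.1 h, map_one]))
  have hπ1 : ∀ {v : A}, π (j v) = 1 → v = 1 ∨ v = dV := fun {v} h => by
    rcases (S.ker _).1 h with e | e
    · exact Or.inl (hjinj (e.trans (map_one j).symm))
    · exact Or.inr (hjinj (e.trans hjd.symm))
  have hmem_rest : ∀ {v : A}, π (j v) ∈ triplesIn D K → v ∈ restOf E dV := by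
    rintro v ⟨⟨-, h1⟩, h2⟩
    refine ⟨?_, ?_, fun h => h2 (Or.inl (hEm h)), fun h => h2 (Or.inl (hπd v ▸ hEm h)), fun h => h2 (Or.inr (hpair h)),
      fun h => h2 (Or.inr (hπd v ▸ hpair h))⟩
    · rintro rfl
      exact h1 (by rw [map_one, map_one]; rfl)
    · rintro rfl
      exact h1 (by rw [hjd, S.map_delta]; rfl)
  have hliftE : ∀ {q : Q}, q ∈ members D K → ∃ v ∈ E, π (j v) = q := fun {q} hq => by
    obtain ⟨c, hc, e⟩ := S.classIn_image B hu hq
    obtain ⟨v, rfl⟩ := hjsurj c hc.1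
    exact ⟨v, hc, e⟩
  have hliftW : ∀ {q : Q}, q ∈ pairs D K → ∃ v ∈ pairsOf E, π (j v) = q := by
    rintro _ ⟨a, ha, b, hb, hne, rfl⟩
    obtain ⟨v, hv, rfl⟩ := hliftE ha
    obtain ⟨w, hw, rfl⟩ := hliftE hb
    exact ⟨v * w, ⟨v, hv, w, hw, fun e => hne (by rw [e]), rfl⟩, by rw [map_mul, map_mul]⟩
  have hrest_mem : ∀ {v : A}, v ∈ restOf E dV → π (j v) ∈ triplesIn D K := by
    intro v ⟨h1, h2, h3, h4, h5, h6⟩
    refine ⟨⟨hjA v, fun h => (hπ1 h).elim h1 h2⟩, ?_⟩
    rintro (h | h)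
    · rcases S.member_cases B hu h with e | e
      · exact h3 e
      · exact h4 (show j (v * dV) ∈ _ by rw [hjmul]; exact e)
    · obtain ⟨w, hw, e⟩ := hliftW h
      rcases S.lift_eq e with e' | e'
      · exact h5 (hjinj e' ▸ hw)
      · refine h6 ?_
        rwa [show v * dV = w from hjinj (by rw [hjmul, e', S.mul_delta_delta])]
  have act : ∀ (n : C), (K.comap π).map (MulAut.conj n).toMonoidHom = K.comap π →
      ∃ φ ∈ X, φ dV = dV ∧ ∀ v : A, j (φ v) = n * j v * n⁻¹ := by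
    intro n hn
    have hmap : A.map (MulAut.conj (n : G)).toMonoidHom = A := by
      show ((K.comap π).map C.subtype).map _ = _
      conv_rhs => rw [hA, bigG, ← hn, Subgroup.map_map]
      rw [Subgroup.map_map]
      rfl
    have hnN : (n : G) ∈ Subgroup.normalizer (A : Set G) := by
      refine Subgroup.mem_normalizer_iff.2 fun a => ⟨fun ha => hmap ▸ ⟨a, ha, rfl⟩, fun ha => ?_⟩
      obtain ⟨b, hb, e⟩ : _ ∈ A.map (MulAut.conj (n : G)).toMonoidHom := hmap.symm ▸ ha
      rw [← (MulAut.conj (n : G)).injective e]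
      exact hb
    refine ⟨Subgroup.normalizerMonoidHom A ⟨n, hnN⟩, ⟨_, rfl⟩, Subtype.ext ?_, fun v => Subtype.ext rfl⟩
    show (n : G) * d * (n : G)⁻¹ = d
    rw [show (n : G) * d = d * n from Subgroup.mem_centralizer_singleton_iff.1 n.2, mul_inv_cancel_right]
  have move : ∀ {v w : A} (c : C), c * j v * c⁻¹ = j w → ∃ φ ∈ X, φ dV = dV ∧ φ v = w := fun {v w} c hc => by
    obtain ⟨n, hn, e⟩ := S.control B (hjA v) (c := c) (hc ▸ hjA w)
    obtain ⟨φ, hφ, hd, hj⟩ := act n hn
    exact ⟨φ, hφ, hd, hjinj (by rw [hj, e, hc])⟩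
  have stabE : ∀ φ ∈ X, φ dV = dV → ∀ a ∈ E, φ a ∈ E := by
    rintro _ ⟨⟨n, hn⟩, rfl⟩ hd a ha
    have hnC : n ∈ C := by
      rw [Subgroup.mem_centralizer_singleton_iff]
      have e : n * d * n⁻¹ = d := congrArg Subtype.val hd
      exact mul_inv_eq_iff_eq_mul.1 e
    refine ⟨hjA _, ha.2.trans (isConj_iff.2 ⟨⟨n, hnC⟩, Subtype.ext rfl⟩)⟩
  have liftQ : ∀ {v w : A} (g : Q), g * π (j v) * g⁻¹ = π (j w) →
      ∃ c : C, c * j v * c⁻¹ ∈ K.comap π ∧ π (c * j v * c⁻¹) = π (j w) := by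
    intro v w g hg
    obtain ⟨c, rfl⟩ := S.surj g
    refine ⟨c, ?_, by rw [map_mul, map_mul, map_inv, hg]⟩
    show π _ ∈ K
    rw [map_mul, map_mul, map_inv, hg]; exact hjA w
  have M : FusionModel X dV E :=
    { sq := hsq
      comm := hcomm
      card := S.card_bigG B
      d_ne := fun h => S.ne (hjd.symm.trans (by rw [h, map_one]))
      ncard_E := by
        rw [← S.ncard_classIn B hu, ← Set.ncard_image_of_injective E hjinj]
        congr 1
        ext c
        exact ⟨fun ⟨v, hv, e⟩ => e ▸ hv, fun hc => (hjsurj c hc.1).imp fun v e => ⟨show j v ∈ _ by rwa [e], e⟩⟩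
      ncard_W := by
        rw [← B.ncard_pairs]
        refine Set.ncard_congr (fun v _ => π (j v)) (fun v hv => hpair hv) (fun v w hv hw e => hWinj hv hw e)
          fun q hq => ?_
        obtain ⟨v, hv, e⟩ := hliftW hq
        exact ⟨v, hv, e⟩
      e_ne := fun a ha => ⟨fun h => B.member_ne_one (hEm ha) (by rw [h, map_one, map_one]),
        fun h => B.member_ne_one (hEm ha) (by rw [h, hjd, S.map_delta]),
        fun h => hne_d (hEinj h ha (hπd a))⟩
      w_ne := fun y hy => by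
        have hp := hpair hy
        refine ⟨?_, ?_, ?_, ?_, fun h => hne_d (hWinj h hy (hπd y))⟩
        · rintro rfl
          obtain ⟨a, ha, b, hb, hne, e⟩ := hp
          exact B.pair_ne_one ha hne (by rw [e, map_one, map_one])
        · rintro rfl
          obtain ⟨a, ha, b, hb, hne, e⟩ := hp
          exact B.pair_ne_one ha hne (by rw [e, hjd, S.map_delta])
        · intro h
          obtain ⟨a, ha, b, hb, hne, e⟩ := hp
          exact B.pair_notMem ha hb hne (e ▸ (hEm h).2)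
        · intro h
          obtain ⟨a, ha, b, hb, hne, e⟩ := hp
          have h' := (hEm h).2
          rw [hπd, ← e] at h'
          exact B.pair_notMem ha hb hne h'
      triple := fun a ha b hb c hc hab hac hbc => hmem_rest (by
        rw [map_mul, map_mul, map_mul, map_mul]
        exact B.triple_mem (hEm ha) (hEm hb) (hEm hc) (fun e => hab (hEinj ha hb e)) (fun e => hac (hEinj ha hc e))
          (fun e => hbc (hEinj hb hc e)))
      stab_E := stabE
      trans_E := fun a ha b hb => by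
        obtain ⟨c, hc⟩ := isConj_iff.1 (ha.2.symm.trans hb.2)
        exact move c hc
      trans_W := fun a ha b hb => by
        obtain ⟨g, hg⟩ := B.pairs_conj (hpair ha) (hpair hb)
        obtain ⟨c, hc, hπc⟩ := liftQ g hg
        obtain ⟨w, hw⟩ := hjsurj _ hc
        obtain ⟨φ, hφ, hd, rfl⟩ := move c hw.symm
        refine ⟨φ, hφ, hd, hWinj ?_ hb (by rw [hw, hπc])⟩
        obtain ⟨a₁, h₁, a₂, h₂, hne, rfl⟩ := ha
        exact ⟨φ a₁, stabE φ hφ hd a₁ h₁, φ a₂, stabE φ hφ hd a₂ h₂, fun e => hne (φ.injective e),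
          (map_mul φ a₁ a₂).symm⟩
      trans_T := fun a ha b hb => by
        obtain ⟨g, hg⟩ := B.triples_conj (hrest_mem ha) (hrest_mem hb)
        obtain ⟨c, hc, hπc⟩ := liftQ g hg
        obtain ⟨w, hw⟩ := hjsurj _ hc
        obtain ⟨φ, hφ, hd, rfl⟩ := move c hw.symm
        refine ⟨φ, hφ, hd, ?_⟩
        rw [← hw] at hπc
        exact (S.lift_eq hπc.symm).imp (fun e => hjinj e) fun e => hjinj (by rw [hjmul, e])
      seven := by
        obtain ⟨l, hl, hmem, hp⟩ := S.seven B hu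
        have hall : ∀ x ∈ l, ∃ v : A, j v = x := fun x hx => hjsurj x (hmem x hx).1
        choose f hf using hall
        refine ⟨l.pmap f (fun x h => h), by simp [hl], fun v hv => ?_, hjinj ?_⟩
        · obtain ⟨x, hx, rfl⟩ := List.mem_pmap.1 hv
          show j _ ∈ classIn (K.comap π) u
          rw [hf]; exact hmem x hx
        · rw [map_list_prod, List.map_pmap, map_one, ← hp]
          congr 1
          calc List.pmap (fun a h => j (f a h)) l (fun x h => h) = List.pmap (fun a _ => a) l (fun x h => h) :=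
                List.pmap_congr_left l fun a _ h _ => hf a h
            _ = l := by rw [List.pmap_eq_map]; exact List.map_id' _
      seven' := by
        have hu' : π (u * δ) ∈ members D K := by rw [S.map_mul_delta]; exact hu
        obtain ⟨l, hl, hmem, hp⟩ := S.seven B hu'
        have hall : ∀ x ∈ l, ∃ v : A, j v = x * δ := fun x hx => hjsurj (x * δ) (by
          show π _ ∈ K
          rw [S.map_mul_delta]; exact (hmem x hx).1)
        have hmem' : ∀ x ∈ l, x * δ ∈ classIn (K.comap π) u := fun x hx => by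
          refine ⟨by show π _ ∈ K; rw [S.map_mul_delta]; exact (hmem x hx).1, ?_⟩
          obtain ⟨c, hc⟩ := isConj_iff.1 (hmem x hx).2
          refine isConj_iff.2 ⟨c, ?_⟩
          rw [← hc, show c * (u * δ) * c⁻¹ * δ = c * u * (δ * c⁻¹) * δ by group, ← S.central, ← mul_assoc,
            S.mul_delta_delta]
        choose f hf using hall
        match l, hl, hp, hmem', f, hf with
        | [a₁, a₂, a₃, a₄, a₅, a₆, a₇], _, hp, hmem', f, hf =>
          refine ⟨[f a₁ (by simp), f a₂ (by simp), f a₃ (by simp), f a₄ (by simp), f a₅ (by simp), f a₆ (by simp),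
            f a₇ (by simp)], rfl, fun v hv => ?_, hjinj ?_⟩
          · simp only [List.mem_cons, List.not_mem_nil, or_false] at hv
            rcases hv with rfl | rfl | rfl | rfl | rfl | rfl | rfl <;>
              (show j _ ∈ classIn (K.comap π) u; rw [hf]; exact hmem' _ (by simp))
          · simp only [List.prod_cons, List.prod_nil, mul_one, map_mul, hf, hjd] at hp ⊢
            have h1 : ∀ x y : C, x * δ * y = x * y * δ := fun x y => by rw [mul_assoc, ← S.central, ← mul_assoc]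
            simp only [← mul_assoc, h1] at hp ⊢
            rw [hp, one_mul]
            simp [S.delta_sq, mul_assoc]
      span := by
        refine top_le_iff.1 fun v _ => ?_
        set H := Subgroup.closure (insert dV E)
        obtain ⟨w, hw, hwv⟩ : ∃ w ∈ H, π (j w) = π (j v) := by
          have hle : K ≤ (H.map j).map π := by
            rw [← B.facts.1, Subgroup.closure_le]
            intro q hq
            obtain ⟨w, hw, e⟩ := hliftE hq
            exact ⟨j w, ⟨w, Subgroup.subset_closure (Or.inr hw), rfl⟩, e⟩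
          obtain ⟨_, ⟨w, hw, rfl⟩, e⟩ := hle (hjA v)
          exact ⟨w, hw, e⟩
        rcases S.lift_eq hwv with e | e
        · exact hjinj e ▸ hw
        · rw [show v = w * dV from hjinj (by rw [e, hjmul])]
          exact mul_mem hw (Subgroup.subset_closure (Or.inl rfl))
      moved := by
        obtain ⟨x, hx, hcx, hxd⟩ := S.exists_moved B hδ hnwc
        obtain ⟨n, hn, hnx⟩ := S.exists_to_d B hδ hx hcx
        refine ⟨_, ⟨⟨n, hn⟩⁻¹, rfl⟩, fun h => hxd ?_⟩
        have e : n⁻¹ * d * n⁻¹⁻¹ = d := congrArg Subtype.val h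
        calc x = n⁻¹ * (n * x * n⁻¹) * n⁻¹⁻¹ := by group
          _ = d := by rw [hnx, e] }
  rw [← M.ncard_orb, ← Set.ncard_image_of_injective (orb X dV) Subtype.val_injective]
  congr 1
  ext x
  constructor
  · rintro ⟨hx, hcx⟩
    obtain ⟨n, hn, hnx⟩ := S.exists_to_d B hδ hx hcx
    refine ⟨⟨x, hx⟩, ⟨_, ⟨⟨n, hn⟩⁻¹, rfl⟩, Subtype.ext ?_⟩, rfl⟩
    show n⁻¹ * d * n⁻¹⁻¹ = x
    rw [← hnx]; group
  · rintro ⟨v, ⟨_, ⟨⟨n, hn⟩, rfl⟩, rfl⟩, rfl⟩
    exact ⟨Subtype.prop _, isConj_iff.2 ⟨n, rfl⟩⟩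

omit hδ in
theorem thompson_eq {T : Sylow 2 ↥(Subgroup.centralizer ({d} : Set G))}
    (hT : K.comap π ≤ (T : Subgroup ↥(Subgroup.centralizer ({d} : Set G)))) :
    Cfsg.thompsonSubgroupOf 2 (T : Subgroup ↥(Subgroup.centralizer ({d} : Set G))) = K.comap π := by
  set AC := K.comap π
  have hcA : Nat.card (AC.subgroupOf T) = 2048 :=
    (Nat.card_congr (Subgroup.subgroupOfEquivOfLe hT).toEquiv).trans (S.card_module B)
  have hsub := Subgroup.subtype_injective (T : Subgroup ↥(Subgroup.centralizer ({d} : Set G)))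
  have hmax : Cfsg.maxElementaryAbelianSubgroups 2 (T : Subgroup ↥(Subgroup.centralizer ({d} : Set G))) =
      {AC.subgroupOf T} := by
    ext F
    constructor
    · rintro ⟨hF, hmx⟩
      have hc : 2048 ≤ Nat.card F := hcA ▸ hmx _ (ea_subgroupOf (S.ea_comap B) _)
      rw [Set.mem_singleton_iff]
      have e := S.unique_in B (ea_map (T : Subgroup _).subtype hF)
        (by rwa [Subgroup.card_map_of_injective hsub]) T.isPGroup' hT (Subgroup.map_subtype_le F)
      refine Subgroup.map_injective hsub ?_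
      rw [e, Subgroup.subgroupOf_map_subtype, inf_eq_left.2 hT]
    · rintro rfl
      refine ⟨ea_subgroupOf (S.ea_comap B) _, fun F hF => ?_⟩
      rw [hcA, ← Subgroup.card_map_of_injective hsub]
      exact S.card_le (ea_map _ hF)
  rw [Cfsg.thompsonSubgroupOf, Cfsg.thompsonSubgroup, hmax, sSup_singleton, Subgroup.subgroupOf_map_subtype,
    inf_eq_left.2 hT]

end DoubleCover

/-- A Sylow 2-subgroup of a double cover contains a module. -/
theorem exists_module_in {C : Type v} [Group C] [Finite C] {Q : Type u} [Group Q] [Finite Q] {π : C →* Q} {δ : C}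
    {D : Set Q} (S : DoubleCover π δ D) (T : Sylow 2 C) :
    ∃ K, BigModule D K ∧ K.comap π ≤ (T : Subgroup C) := by
  haveI : Fact (Nat.Prime 2) := ⟨Nat.prime_two⟩
  obtain ⟨P, hP⟩ := (T.isPGroup'.map π).exists_le_sylow
  obtain ⟨K, B, hKP, -⟩ := exists_big_in S.grp S.prim S.type22 P
  have hk : IsPGroup 2 π.ker := fun x => ⟨1, Subtype.ext (by simpa [pow_two] using S.ker_sq x.1 x.2)⟩
  have hle : (T : Subgroup C) ≤ (P : Subgroup Q).comap π :=
    (Subgroup.le_comap_map π _).trans (Subgroup.comap_mono hP)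
  exact ⟨K, B, (Subgroup.comap_mono hKP).trans (T.is_maximal' (P.isPGroup'.comap_of_ker_isPGroup π hk) hle).le⟩

end CfsgLib.Recog.FiM22Two
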