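import Cfsg.Agent.Lib.Recog.FiTwoMult.Bound
import Cfsg.Agent.Lib.Recog.FiM22Two.Involutions
import Cfsg.Agent.Lib.ThreeTrans.Primitive
import Cfsg.Agent.Lib.Components.Quasisimple

set_option autoImplicit false
set_option maxRecDepth 20000

/-!
Central extensions with kernel of exponent 2 of a group of type M(22): lifts of transpositions are involutions, lifts
of commuting transpositions commute, and every involution lifts to an involution (owner: helper6).
-/

namespace CfsgLib.Recog.FiM22Two

open Cfsg CfsgLib.ThreeTrans CfsgLib.ThreeTrans.CosetIndex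
open CfsgLib.Recog.FiThree.Mult (orth orthWord palOf palOf_flat prod_pow_two orth_range)
open CfsgLib.Recog.SporBound.Fi22Group (a)
open CfsgLib.Recog.SporBound.Fi22U6 (a_sq)
open CfsgLib.Recog.FiTwoMult (wd central' conj_comm conj_eq refW refW_spec orth_letter orth_pair orth_one)

/-- With a central kernel of exponent two, every lift of the first generator of Fi22 is an involution. -/
theorem lift_sq {C : Type*} [Group C] (σ : C →* Spor.Fi22) (hs : Function.Surjective σ)
    (hk : σ.ker ≤ Subgroup.center C) (h2 : ∀ t, σ t = 1 → t * t = 1) {B : C} (hB : σ B = a 0) : B * B = 1 := by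
  set lf := Function.surjInv hs with hlf
  have hl : ∀ g, σ (lf g) = g := Function.surjInv_eq hs
  set z := B * B with hz
  have hz1 : σ z = 1 := by rw [hz, map_mul, hB, a_sq]
  set c : ℕ → C := fun i => lf (wd (refW (orth.getD i ([], 0)))) with hc
  set θ := ((List.range 7).map fun i => c i * B * (c i)⁻¹).prod with hθ
  have hθ1 : σ θ = 1 := by
    have e0 : wd orthWord = ((List.range 7).map fun i => wd (palOf (orth.getD i ([], 0)))).prod := by
      rw [orthWord, orth_range, List.flatMap_map]
      exact palOf_flat a _ _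
    rw [hθ, map_list_prod, List.map_map, ← orth_one, e0]
    congr 1
    refine List.map_congr_left fun i hi => ?_
    rw [Function.comp_apply, map_mul, map_mul, map_inv, hc, hl, hB, refW_spec (orth_letter (List.mem_range.1 hi))]
  have hθθ : θ * θ = z ^ 7 := by
    rw [hθ, prod_pow_two (z := z)]
    · simp
    · intro u hu
      obtain ⟨i, -, rfl⟩ := List.mem_map.1 hu
      calc c i * B * (c i)⁻¹ * (c i * B * (c i)⁻¹) = c i * z * (c i)⁻¹ := by rw [hz]; group
        _ = z := by rw [central' σ hk hz1, mul_inv_cancel_right]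
    · intro u hu v hv
      obtain ⟨i, hi, rfl⟩ := List.mem_map.1 hu
      obtain ⟨j, hj, rfl⟩ := List.mem_map.1 hv
      refine conj_comm σ hs hk hB ?_
      rw [map_mul, map_mul, map_inv, hB, hc, hl, hl, refW_spec (orth_letter (List.mem_range.1 hi)),
        refW_spec (orth_letter (List.mem_range.1 hj))]
      exact orth_pair (List.mem_range.1 hi) (List.mem_range.1 hj)
  rw [h2 θ hθ1, show z ^ 7 = (z * z) * (z * z) * (z * z) * z by simp [pow_succ, mul_assoc], h2 z hz1, one_mul,
    one_mul, one_mul] at hθθ
  exact hθθ.symm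

universe u

variable {Q : Type u} [Group Q] [Finite Q] {D : Set Q}

/-- A generating class with perfect group of trivial centre and type M(22) is primitive. -/
theorem prim_of_class (hD : IsThreeTranspositionClass D) (hQ : Cfsg.IsQuasisimple Q)
    (hD2 : ∃ a ∈ D, ∃ b ∈ D, a ≠ b) : IsPrimitiveUnderConj D := by
  have hF : Cfsg.fittingSubgroup Q ≤ Subgroup.center Q := by
    refine Components.IsQuasisimple.le_center_of_ne_top hQ inferInstance fun h => ?_
    have := CfsgLib.Core.isNilpotent_fittingSubgroup Q
    rw [h] at this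
    exact Components.IsQuasisimple.not_isNilpotent hQ
      ((Group.isNilpotent_congr Subgroup.topEquiv).1 this)
  have hL : Cfsg.IsQuasisimple ↥(⊤ : Subgroup Q) :=
    Components.IsQuasisimple.congr Subgroup.topEquiv.symm hQ
  exact primitive_of_quasisimple hD hD2 hL (by simp) hF (gFitting_eq hD hL (by simp) hF)

variable {C : Type*} [Group C] (π : C →* Q) (hs : Function.Surjective π) (hk : π.ker ≤ Subgroup.center C)
  (h2 : ∀ t, π t = 1 → t * t = 1)
  (hD : IsThreeTranspositionGroup D) (hprim : IsPrimitiveUnderConj D) (h22 : IsOfTypeM22 Q D)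

include hs hk hD hprim h22 in
/-- A lift of an element commuting with a transposition commutes with every lift of the transposition. -/
theorem lift_comm {u v : C} (hu : π u ∈ D) (hv : Commute (π v) (π u)) : Commute v u := by
  obtain ⟨e, he⟩ := FiM22.identify_of_type hD hprim h22
  have hσs : Function.Surjective (e.symm.toMonoidHom.comp π) := e.symm.surjective.comp hs
  have hσk : (e.symm.toMonoidHom.comp π).ker ≤ Subgroup.center C := fun x hx =>
    hk (MonoidHom.mem_ker.2 (e.symm.injective (hx.trans (map_one e.symm).symm)))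
  rw [← he] at hu
  obtain ⟨w, hw, hwu⟩ := hu
  obtain ⟨g, rfl⟩ := isConj_iff.1 hw
  obtain ⟨c, hc⟩ := hσs g
  have hσu : e.symm.toMonoidHom.comp π (c⁻¹ * u * c) = a 0 := by
    rw [map_mul, map_mul, map_inv, hc]
    show g⁻¹ * e.symm (π u) * g = _
    rw [← hwu, MulEquiv.symm_apply_apply]
    group
  have h := conj_comm (e.symm.toMonoidHom.comp π) hσs hσk hσu (e := c) (d := v) (by
    rw [hc]
    show e.symm (π v) * (g * a 0 * g⁻¹) = g * a 0 * g⁻¹ * e.symm (π v)
    rw [← e.symm_apply_apply (g * a 0 * g⁻¹), hwu]
    exact (hv.map e.symm.toMonoidHom).eq)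
  rw [show c * (c⁻¹ * u * c) * c⁻¹ = u by group] at h
  exact h

include hs hk h2 hD hprim h22 in
/-- Every lift of a transposition is an involution. -/
theorem lift_member_sq {u : C} (hu : π u ∈ D) : u * u = 1 := by
  obtain ⟨e, he⟩ := FiM22.identify_of_type hD hprim h22
  have hσs : Function.Surjective (e.symm.toMonoidHom.comp π) := e.symm.surjective.comp hs
  have hσk : (e.symm.toMonoidHom.comp π).ker ≤ Subgroup.center C := fun x hx =>
    hk (MonoidHom.mem_ker.2 (e.symm.injective (hx.trans (map_one e.symm).symm)))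
  rw [← he] at hu
  obtain ⟨w, hw, hwu⟩ := hu
  obtain ⟨g, rfl⟩ := isConj_iff.1 hw
  obtain ⟨c, hc⟩ := hσs g
  have hσu : e.symm.toMonoidHom.comp π (c⁻¹ * u * c) = a 0 := by
    rw [map_mul, map_mul, map_inv, hc]
    show g⁻¹ * e.symm (π u) * g = _
    rw [← hwu, MulEquiv.symm_apply_apply]
    group
  have h := lift_sq _ hσs hσk (fun t ht => h2 t (e.symm.injective (ht.trans (map_one e.symm).symm))) hσu
  calc u * u = c * (c⁻¹ * u * c * (c⁻¹ * u * c)) * c⁻¹ := by group
    _ = 1 := by rw [h, mul_one, mul_inv_cancel]

include hs hk h2 hD hprim h22 in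
/-- Every element whose image is a product of commuting transpositions squares to one. -/
theorem sq_of_prod {l : List Q} (hl : ∀ x ∈ l, x ∈ D) (hc : ∀ x ∈ l, ∀ y ∈ l, Commute x y) {y : C}
    (hy : π y = l.prod) : y * y = 1 := by
  induction l generalizing y with
  | nil => exact h2 y hy
  | cons x l ih =>
    obtain ⟨u, hu⟩ := hs x
    have hux : π u ∈ D := hu ▸ hl x (List.mem_cons_self)
    rw [List.prod_cons] at hy
    have hy' : π (u⁻¹ * y) = l.prod := by rw [map_mul, map_inv, hu, hy, inv_mul_cancel_left]
    have hsq := ih (fun z hz => hl z (List.mem_cons_of_mem _ hz))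
      (fun p hp q hq => hc p (List.mem_cons_of_mem _ hp) q (List.mem_cons_of_mem _ hq)) hy'
    have hcm : Commute (u⁻¹ * y) u := lift_comm π hs hk hD hprim h22 hux (by
      rw [hy', hu]
      exact (Commute.list_prod_right _ _ fun z hz => hc x List.mem_cons_self z (List.mem_cons_of_mem _ hz)).symm)
    calc y * y = u * (u⁻¹ * y * u) * (u⁻¹ * y) := by group
      _ = u * (u * (u⁻¹ * y)) * (u⁻¹ * y) := by rw [hcm.eq]
      _ = (u * u) * ((u⁻¹ * y) * (u⁻¹ * y)) := by group
      _ = 1 := by rw [lift_member_sq π hs hk h2 hD hprim h22 hux, hsq, one_mul]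

include hs hk h2 hD hprim h22 in
/-- Every element with an involution as image is an involution. -/
theorem sq_of_involution {y : C} (hy : orderOf (π y) = 2) : y * y = 1 := by
  obtain ⟨l, hl, -, -, hp⟩ := involution_factor hD hprim h22 hy
  exact sq_of_prod π hs hk h2 hD hprim h22 hl.mem hl.comm hp.symm

end CfsgLib.Recog.FiM22Two
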