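import Cfsg.Agent.Lib.Recog.FiM22Two.DoubleLift
import Cfsg.Agent.Lib.Recog.FiM22Two.BigModule
import Cfsg.Agent.Lib.Recog.FiTwoMult.TwoSevens

set_option autoImplicit false
set_option maxRecDepth 20000

/-!
The module of order 2¹¹ of a double cover of a group of type M(22) and the fusion in it (owner: helper6).
-/

namespace CfsgLib.Recog.FiM22Two

open Cfsg CfsgLib.ThreeTrans CfsgLib.Recog.FiM22
open CfsgLib.Recog.UsixMult.Plane (ea_map ea_subgroupOf)

universe u v

variable {C : Type v} [Group C] [Finite C] {Q : Type u} [Group Q] [Finite Q] {π : C →* Q} {δ : C} {D : Set Q}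

/-- A non-split double cover of a group of type M(22). -/
structure DoubleCover (π : C →* Q) (δ : C) (D : Set Q) : Prop where
  surj : Function.Surjective π
  ker : ∀ x, π x = 1 ↔ x = 1 ∨ x = δ
  ne : δ ≠ 1
  perfect : commutator C = ⊤
  cen : π.ker ≤ Subgroup.center C
  grp : IsThreeTranspositionGroup D
  prim : IsPrimitiveUnderConj D
  type22 : IsOfTypeM22 Q D

/-- The conjugates of an element in a subgroup. -/
def classIn (A : Subgroup C) (x : C) : Set C := {y | y ∈ A ∧ IsConj x y}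

namespace DoubleCover

variable (S : DoubleCover π δ D)
include S

theorem map_delta : π δ = 1 := (S.ker δ).2 (Or.inr rfl)

theorem central (x : C) : x * δ = δ * x := Subgroup.mem_center_iff.1 (S.cen S.map_delta) x

theorem delta_sq : δ * δ = 1 := by
  rcases (S.ker (δ * δ)).1 (by rw [map_mul, S.map_delta, one_mul]) with h | h
  · exact h
  · exact absurd (mul_eq_left.1 h) S.ne

theorem ker_sq (t : C) (ht : π t = 1) : t * t = 1 := by
  rcases (S.ker t).1 ht with rfl | rfl
  exacts [one_mul _, S.delta_sq]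

theorem map_mul_delta (x : C) : π (x * δ) = π x := by rw [map_mul, S.map_delta, mul_one]

theorem mul_delta_delta (x : C) : x * δ * δ = x := by rw [mul_assoc, S.delta_sq, mul_one]

theorem lift_eq {x y : C} (h : π x = π y) : y = x ∨ y = x * δ := by
  rcases (S.ker (x⁻¹ * y)).1 (by rw [map_mul, map_inv, h, inv_mul_cancel]) with e | e
  · exact Or.inl (inv_mul_eq_one.1 e).symm
  · exact Or.inr (by rw [← e, mul_inv_cancel_left])

theorem conj_delta (g : C) : g * δ * g⁻¹ = δ := by rw [S.central, mul_inv_cancel_right]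

theorem member_sq {u : C} (hu : π u ∈ D) : u * u = 1 :=
  lift_member_sq π S.surj S.cen S.ker_sq S.grp S.prim S.type22 hu

theorem comm {u v : C} (hu : π u ∈ D) (h : Commute (π v) (π u)) : Commute v u :=
  FiM22Two.lift_comm π S.surj S.cen S.grp S.prim S.type22 hu h

theorem not_conj {u : C} (hu : π u ∈ D) : ¬ IsConj u (u * δ) := by
  intro h
  obtain ⟨g, hg⟩ := isConj_iff.1 h
  have hcg : Commute g u := S.comm hu (by
    have e := congrArg π hg
    rw [map_mul, map_mul, map_inv, S.map_mul_delta] at e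
    exact mul_inv_eq_iff_eq_mul.1 e)
  rw [hcg.eq, mul_inv_cancel_right] at hg
  exact S.ne (mul_eq_left.1 hg.symm)

theorem card_comap (K : Subgroup Q) : Nat.card (K.comap π) = 2 * Nat.card K := by
  have hk : Nat.card π.ker = 2 := by
    have : (π.ker : Set C) = {1, δ} := by
      ext x
      simp only [SetLike.mem_coe, MonoidHom.mem_ker, S.ker, Set.mem_insert_iff, Set.mem_singleton_iff]
    rw [← SetLike.coe_sort_coe, this, Nat.card_coe_set_eq, Set.ncard_pair S.ne.symm]
  have hle : π.ker ≤ K.comap π := fun x hx => by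
    rw [Subgroup.mem_comap, MonoidHom.mem_ker.1 hx]; exact one_mem K
  set f := π.subgroupComap K with hf
  have hs : Function.Surjective f := π.subgroupComap_surjective_of_surjective K S.surj
  have h := f.ker.index_mul_card
  have hker : f.ker = π.ker.subgroupOf (K.comap π) := by
    ext x
    rw [MonoidHom.mem_ker, Subgroup.mem_subgroupOf, MonoidHom.mem_ker, Subtype.ext_iff]
    rfl
  rw [Subgroup.index_ker, MonoidHom.range_eq_top.2 hs, Subgroup.card_top, hker,
    Nat.card_congr (Subgroup.subgroupOfEquivOfLe hle).toEquiv, hk] at h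
  rw [← h, mul_comm]

variable {K : Subgroup Q}

theorem ea_comap (B : BigModule D K) : IsElementaryAbelian 2 (K.comap π) := by
  have hgen : K.comap π = Subgroup.closure {x : C | π x ∈ members D K ∨ π x = 1} := by
    refine le_antisymm (fun x hx => ?_) ((Subgroup.closure_le _).2 fun x hx => ?_)
    · set H := Subgroup.closure {x : C | π x ∈ members D K ∨ π x = 1}
      have hle : K ≤ H.map π := by
        rw [← B.facts.1, Subgroup.closure_le]
        intro y hy
        obtain ⟨x, rfl⟩ := S.surj y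
        exact ⟨x, Subgroup.subset_closure (Or.inl hy), rfl⟩
      obtain ⟨y, hy, hyx⟩ := hle hx
      have : y⁻¹ * x ∈ H := Subgroup.subset_closure (Or.inr (by rw [map_mul, map_inv, hyx, inv_mul_cancel]))
      simpa using mul_mem hy this
    · rcases hx with h | h
      · exact h.1
      · show π x ∈ K
        rw [h]; exact one_mem K
  rw [hgen]
  refine ea_closure ?_ ?_
  · rintro x hx y (hy | hy)
    · refine S.comm hy.2 ?_
      rcases hx with hx | hx
      · exact B.commute hx.1 hy.1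
      · rw [hx]; exact Commute.one_left _
    · exact Subgroup.mem_center_iff.1 (S.cen hy) x
  · rintro x (hx | hx)
    exacts [S.member_sq hx.2, S.ker_sq x hx]

theorem card_module (B : BigModule D K) : Nat.card (K.comap π) = 2048 := by rw [S.card_comap, B.card]

theorem card_le {F : Subgroup C} (hF : IsElementaryAbelian 2 F) : Nat.card F ≤ 2048 := by
  have h := Subgroup.card_le_of_le (Subgroup.le_comap_map π F)
  rw [S.card_comap] at h
  have := FiM22Two.card_le S.grp S.prim S.type22 (ea_map π hF)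
  omega

theorem eq_module {F : Subgroup C} (hF : IsElementaryAbelian 2 F) (hc : 2048 ≤ Nat.card F) :
    BigModule D (F.map π) ∧ F = (F.map π).comap π := by
  have h := Subgroup.card_le_of_le (Subgroup.le_comap_map π F)
  rw [S.card_comap] at h
  have h' := FiM22Two.card_le S.grp S.prim S.type22 (ea_map π hF)
  have h1 : Nat.card (F.map π) = 1024 := by omega
  exact ⟨⟨S.grp, S.prim, S.type22, ea_map π hF, h1⟩,
    Subgroup.eq_of_le_of_card_ge (Subgroup.le_comap_map π F) (by rw [S.card_comap]; omega)⟩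

theorem unique_in (B : BigModule D K) {F : Subgroup C} (hF : IsElementaryAbelian 2 F) (hc : 2048 ≤ Nat.card F)
    {T : Subgroup C} (hT : IsPGroup 2 T) (hA : K.comap π ≤ T) (hFT : F ≤ T) : F = K.comap π := by
  obtain ⟨P, hP⟩ := (hT.map π).exists_le_sylow
  obtain ⟨B', hF'⟩ := S.eq_module hF hc
  have h1 : K ≤ P := fun x hx => by
    obtain ⟨y, rfl⟩ := S.surj x
    exact hP ⟨y, hA hx, rfl⟩
  have h2 : F.map π ≤ P := (Subgroup.map_mono hFT).trans hP
  rw [hF', B'.eq_closure h2, ← B.eq_closure h1]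

/-- The module controls the fusion inside itself. -/
theorem control (B : BigModule D K) {x : C} (hx : x ∈ K.comap π) {c : C} (hcx : c * x * c⁻¹ ∈ K.comap π) :
    ∃ n : C, (K.comap π).map (MulAut.conj n).toMonoidHom = K.comap π ∧ n * x * n⁻¹ = c * x * c⁻¹ := by
  haveI : Fact (Nat.Prime 2) := ⟨Nat.prime_two⟩
  set y := c * x * c⁻¹ with hy
  set A := K.comap π with hA
  set H := Subgroup.centralizer ({y} : Set C)
  have hAH : A ≤ H := fun a ha => Subgroup.mem_centralizer_singleton_iff.2 (ea_comm (S.ea_comap B) ha hcx).eq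
  set A' := A.map (MulAut.conj c).toMonoidHom
  have hA'e : IsElementaryAbelian 2 A' := ea_map _ (S.ea_comap B)
  have hA'H : A' ≤ H := fun a ha => Subgroup.mem_centralizer_singleton_iff.2
    (ea_comm hA'e ha (⟨x, hx, rfl⟩ : y ∈ A')).eq
  have pg : ∀ F : Subgroup C, IsElementaryAbelian 2 F → IsPGroup 2 (F.subgroupOf H) := fun F hF z =>
    ⟨1, Subtype.ext (Subtype.ext (by simpa using hF.2 _ z.2))⟩
  obtain ⟨P, hP⟩ := (pg A (S.ea_comap B)).exists_le_sylow
  obtain ⟨P', hP'⟩ := (pg A' hA'e).exists_le_sylow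
  obtain ⟨h, hh⟩ := MulAction.exists_smul_eq H P' P
  refine ⟨(h : C) * c, ?_, ?_⟩
  · refine S.unique_in B (F := A.map (MulAut.conj ((h : C) * c)).toMonoidHom) (ea_map _ (S.ea_comap B))
      ((S.card_module B).ge.trans (Subgroup.card_map_of_injective (MulAut.conj _).injective).ge)
      (P.isPGroup'.map H.subtype) (fun a ha => ⟨⟨a, hAH ha⟩, hP ha, rfl⟩) ?_
    rintro _ ⟨a, ha, rfl⟩
    have ha' : c * a * c⁻¹ ∈ A' := ⟨a, ha, rfl⟩
    have hm : h * ⟨c * a * c⁻¹, hA'H ha'⟩ * h⁻¹ ∈ (P : Subgroup H) := by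
      rw [← hh, Sylow.coe_subgroup_smul]
      exact ⟨⟨c * a * c⁻¹, hA'H ha'⟩, hP' ha', rfl⟩
    exact ⟨_, hm, by simp [mul_assoc]⟩
  · have := Subgroup.mem_centralizer_singleton_iff.1 h.2
    calc (h : C) * c * x * ((h : C) * c)⁻¹ = (h : C) * y * (h : C)⁻¹ := by rw [hy]; group
      _ = y := by rw [this, mul_inv_cancel_right]

variable (B : BigModule D K)
include B

theorem classIn_image {u : C} (hu : π u ∈ members D K) {q : Q} (hq : q ∈ members D K) :
    ∃ v ∈ classIn (K.comap π) u, π v = q := by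
  obtain ⟨g, hg⟩ := S.prim.1 _ hu.2 q hq.2
  obtain ⟨c, rfl⟩ := S.surj g
  have h : π (c * u * c⁻¹) = q := by rw [map_mul, map_mul, map_inv, hg]
  exact ⟨c * u * c⁻¹, ⟨by rw [Subgroup.mem_comap, h]; exact hq.1, isConj_iff.2 ⟨c, rfl⟩⟩, h⟩

theorem classIn_members {u : C} (hu : π u ∈ members D K) {v : C} (hv : v ∈ classIn (K.comap π) u) :
    π v ∈ members D K := by
  obtain ⟨c, rfl⟩ := isConj_iff.1 hv.2
  exact ⟨hv.1, by rw [map_mul, map_mul, map_inv]; exact S.grp.2.1 _ _ hu.2⟩

theorem classIn_inj {u : C} (hu : π u ∈ members D K) {v w : C} (hv : v ∈ classIn (K.comap π) u)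
    (hw : w ∈ classIn (K.comap π) u) (h : π v = π w) : v = w := by
  rcases S.lift_eq h with e | e
  · exact e.symm
  · refine absurd ?_ (S.not_conj (S.classIn_members B hu hv).2)
    rw [← e]
    exact hv.2.symm.trans hw.2

theorem ncard_classIn {u : C} (hu : π u ∈ members D K) : (classIn (K.comap π) u).ncard = 22 := by
  rw [← B.facts.2]
  refine (Set.ncard_congr (fun v _ => π v) (fun v hv => S.classIn_members B hu hv)
    (fun v w hv hw e => S.classIn_inj B hu hv hw e) fun q hq => ?_)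
  obtain ⟨v, hv, e⟩ := S.classIn_image B hu hq
  exact ⟨v, hv, e⟩

theorem member_cases {u : C} (hu : π u ∈ members D K) {y : C} (hy : π y ∈ members D K) :
    y ∈ classIn (K.comap π) u ∨ y * δ ∈ classIn (K.comap π) u := by
  obtain ⟨v, hv, e⟩ := S.classIn_image B hu hy
  rcases S.lift_eq e with h | h
  · exact Or.inl (h ▸ hv)
  · exact Or.inr (by rw [h, S.mul_delta_delta]; exact hv)

/-- Seven commuting conjugates with product one, inside the module. -/
theorem seven {u : C} (hu : π u ∈ members D K) :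
    ∃ l : List C, l.length = 7 ∧ (∀ x ∈ l, x ∈ classIn (K.comap π) u) ∧ l.prod = 1 := by
  classical
  haveI : Fact (Nat.Prime 2) := ⟨Nat.prime_two⟩
  obtain ⟨e, he⟩ := FiM22.identify_of_type S.grp S.prim S.type22
  set σ : C →* Spor.Fi22 := e.symm.toMonoidHom.comp π with hσ
  have hσs : Function.Surjective σ := e.symm.surjective.comp S.surj
  have hσ1 : ∀ x, σ x = 1 → π x = 1 := fun x hx => e.symm.injective (hx.trans (map_one e.symm).symm)
  have hσk : σ.ker ≤ Subgroup.center C := fun x hx => S.cen (MonoidHom.mem_ker.2 (hσ1 x hx))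
  obtain ⟨w, hw, hwu⟩ : π u ∈ e '' conjugatesOf (SporBound.Fi22Group.a 0) := he.symm ▸ hu.2
  obtain ⟨g, rfl⟩ := isConj_iff.1 hw
  obtain ⟨c, hc⟩ := hσs g
  have hB : σ (c⁻¹ * u * c) = SporBound.Fi22Group.a 0 := by
    rw [map_mul, map_mul, map_inv, hc]
    show g⁻¹ * e.symm (π u) * g = _
    rw [← hwu, MulEquiv.symm_apply_apply]
    group
  obtain ⟨f, hf, hprod⟩ := FiTwoMult.exists_seven σ hσs hσk (fun x hx => (S.ker x).1 (hσ1 x hx)) S.delta_sq S.ne
    (by show e.symm (π δ) = 1; rw [S.map_delta, map_one]) S.perfect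
    (fun v hv => lift_sq σ hσs hσk (fun t ht => S.ker_sq t (hσ1 t ht)) hv) hB
  set L : List C := (List.range 7).map fun i => f i * (c⁻¹ * u * c) * (f i)⁻¹ with hL
  have hLu : ∀ x ∈ L, IsConj u x := fun x hx => by
    obtain ⟨i, -, rfl⟩ := List.mem_map.1 hx
    exact isConj_iff.2 ⟨f i * c⁻¹, by group⟩
  have hLD : ∀ x ∈ L, π x ∈ D := fun x hx => by
    obtain ⟨k, rfl⟩ := isConj_iff.1 (hLu x hx)
    rw [map_mul, map_mul, map_inv]
    exact S.grp.2.1 _ _ hu.2
  set F := Subgroup.closure (π '' {x | x ∈ L}) with hF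
  have hFe : IsElementaryAbelian 2 F := by
    refine ea_closure ?_ ?_
    · rintro _ ⟨x, hx, rfl⟩ _ ⟨y, hy, rfl⟩
      obtain ⟨i, hi, rfl⟩ := List.mem_map.1 (hx : x ∈ L)
      obtain ⟨j, hj, rfl⟩ := List.mem_map.1 (hy : y ∈ L)
      exact (hf i (List.mem_range.1 hi) j (List.mem_range.1 hj)).map π
    · rintro _ ⟨x, hx, rfl⟩
      rw [← pow_two, ← S.grp.1.1 _ (hLD x hx), pow_orderOf_eq_one]
  obtain ⟨T, hT⟩ := (show IsPGroup 2 F from fun x => ⟨1, Subtype.ext (by simpa using hFe.2 x x.2)⟩).exists_le_sylow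
  obtain ⟨T₀, hT₀⟩ := (show IsPGroup 2 K from fun x => ⟨1, Subtype.ext (by simpa using B.ea.2 x x.2)⟩).exists_le_sylow
  obtain ⟨k, hk⟩ := MulAction.exists_smul_eq Q T T₀
  obtain ⟨k', rfl⟩ := S.surj k
  refine ⟨L.map (MulAut.conj k'), by simp [hL], fun x hx => ?_, ?_⟩
  · obtain ⟨y, hy, rfl⟩ := List.mem_map.1 hx
    refine ⟨?_, (hLu y hy).trans (isConj_iff.2 ⟨k', rfl⟩)⟩
    show π (k' * y * k'⁻¹) ∈ K
    rw [B.eq_closure hT₀]
    refine Subgroup.subset_closure ⟨?_, ?_⟩
    · rw [map_mul, map_mul, map_inv]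
      exact S.grp.2.1 _ _ (hLD y hy)
    · rw [← hk, Sylow.coe_subgroup_smul, map_mul, map_mul, map_inv]
      exact ⟨π y, hT (Subgroup.subset_closure ⟨y, hy, rfl⟩), rfl⟩
  · rw [← map_list_prod, hprod, map_one]

end DoubleCover

end CfsgLib.Recog.FiM22Two
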