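import Cfsg.Prelude.Def_Transfer
import Mathlib

set_option autoImplicit false

/-!
The automorphism group of an elementary abelian group of order 2ⁿ divides the order of GL(n, 2) (owner: helper6).
-/

namespace CfsgLib.Recog.FiM22Two

theorem card_mulAut_dvd {V : Type*} [Group V] [Finite V] (hc : ∀ x y : V, x * y = y * x) (h2 : ∀ x : V, x * x = 1)
    {n : ℕ} (hcard : Nat.card V = 2 ^ n) : Nat.card (MulAut V) ∣ Nat.card (GL (Fin n) (ZMod 2)) := by
  haveI : Fact (Nat.Prime 2) := ⟨Nat.prime_two⟩
  letI : CommGroup V := { (inferInstance : Group V) with mul_comm := hc }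
  letI : Module (ZMod 2) (Additive V) := AddCommGroup.zmodModule (fun x => by
    apply Additive.toMul.injective
    rw [toMul_nsmul, toMul_zero, pow_two]
    exact h2 _)
  haveI : Module.Finite (ZMod 2) (Additive V) := Module.Finite.of_finite
  have hfr : Module.finrank (ZMod 2) (Additive V) = Module.finrank (ZMod 2) (Fin n → ZMod 2) := by
    rw [Module.finrank_pi, Fintype.card_fin]
    have h := Module.natCard_eq_pow_finrank (K := ZMod 2) (V := Additive V)
    rw [Nat.card_zmod, Nat.card_congr (Additive.toMul (α := V)), hcard] at h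
    exact (Nat.pow_right_injective le_rfl h).symm
  let e := LinearEquiv.ofFinrankEq _ _ hfr
  let l : MulAut V → ((Fin n → ZMod 2) →ₗ[ZMod 2] (Fin n → ZMod 2)) := fun φ =>
    AddMonoidHom.toZModLinearMap 2 (AddMonoidHom.mk'
      (fun v => e (Additive.ofMul (φ (Additive.toMul (e.symm v))))) fun v w => by
        rw [map_add e.symm, toMul_add, map_mul, ofMul_mul, map_add])
  have hl : ∀ φ v, l φ v = e (Additive.ofMul (φ (Additive.toMul (e.symm v)))) := fun _ _ => rfl
  have hmul : ∀ φ ψ, (l φ).comp (l ψ) = l (φ * ψ) := fun φ ψ => LinearMap.ext fun v => by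
    rw [LinearMap.comp_apply, hl, hl, hl, LinearEquiv.symm_apply_apply, toMul_ofMul, MulAut.mul_apply]
  have hone : l 1 = LinearMap.id := LinearMap.ext fun v => by
    rw [hl, MulAut.one_apply, ofMul_toMul, LinearEquiv.apply_symm_apply, LinearMap.id_apply]
  let L : MulAut V →* GL (Fin n) (ZMod 2) := MonoidHom.mk' (fun φ =>
    (⟨LinearMap.toMatrix' (l φ), LinearMap.toMatrix' (l φ⁻¹),
      by rw [← LinearMap.toMatrix'_comp, hmul, mul_inv_cancel, hone, LinearMap.toMatrix'_id],
      by rw [← LinearMap.toMatrix'_comp, hmul, inv_mul_cancel, hone, LinearMap.toMatrix'_id]⟩ : GL (Fin n) (ZMod 2)))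
    fun φ ψ => Units.ext (by
      show LinearMap.toMatrix' (l (φ * ψ)) = LinearMap.toMatrix' (l φ) * LinearMap.toMatrix' (l ψ)
      rw [← LinearMap.toMatrix'_comp, hmul])
  refine Subgroup.card_dvd_of_injective L fun φ ψ h => MulEquiv.ext fun u => ?_
  have := LinearMap.congr_fun (LinearMap.toMatrix'.injective (Units.ext_iff.1 h)) (e (Additive.ofMul u))
  rw [hl, hl, LinearEquiv.symm_apply_apply, toMul_ofMul] at this
  exact Additive.ofMul.injective (e.injective this)

/-- The order of GL(11, 2) as a product. -/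
def gl11 : ℕ := (List.range 11).foldl (fun m i => m * (2 ^ 11 - 2 ^ i)) 1

theorem card_gl11 : Nat.card (GL (Fin 11) (ZMod 2)) = gl11 := by
  rw [Matrix.card_GL_field, ZMod.card, Finset.prod_fin_eq_prod_range]
  simp only [gl11, Finset.prod_range_succ, Finset.prod_range_zero]
  norm_num [List.range_succ]

end CfsgLib.Recog.FiM22Two
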