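import Cfsg.Agent.Lib.Recog.FiM22Two.PointForm

set_option autoImplicit false
set_option maxRecDepth 20000

/-!
Invariant alternating forms and invariant additive functions on the natural module of SU(4, 2) (owner: helper6).
-/

namespace CfsgLib.Recog.FiM22Two.PointBlock

open Cfsg CfsgLib.Recog.SporBound.Fi22U6
open scoped Matrix

/-- The matrix of an element. -/
abbrev mat4 (A : ↥(Cfsg.SU 4 F4 2)) : Matrix (Fin 4) (Fin 4) F4 :=
  ((A : Matrix.SpecialLinearGroup (Fin 4) F4) : Matrix (Fin 4) (Fin 4) F4)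

/-- A diagonal element. -/
noncomputable def dg (w : Fin 4 → F4) (h0 : ∀ i, w i ≠ 0) (h1 : ∏ i, w i = 1) : ↥(Cfsg.SU 4 F4 2) :=
  ⟨⟨Matrix.diagonal w, by rw [Matrix.det_diagonal]; exact h1⟩, fun x y => by
    show Cfsg.hermForm 4 F4 2 (Matrix.diagonal w *ᵥ x) (Matrix.diagonal w *ᵥ y) = _
    simp only [Cfsg.hermForm, Matrix.mulVec_diagonal, mul_pow]
    refine Finset.sum_congr rfl fun i _ => ?_
    calc _ = w i ^ 3 * (x i * y i ^ 2) := by ring
      _ = _ := by rw [cube' (h0 i), one_mul]⟩

theorem dg_apply (w : Fin 4 → F4) (h0 : ∀ i, w i ≠ 0) (h1 : ∏ i, w i = 1) (i : Fin 4) (a : F4) :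
    mat4 (dg w h0 h1) *ᵥ Pi.single i a = Pi.single i (w i * a) := by
  show Matrix.diagonal w *ᵥ Pi.single i a = _
  funext k
  rw [Matrix.mulVec_diagonal]
  rcases eq_or_ne k i with rfl | h <;> simp [*]

/-- The exchange of two coordinates. -/
noncomputable def swp (i j : Fin 4) : ↥(Cfsg.SU 4 F4 2) :=
  ⟨⟨fun k l => if Equiv.swap i j k = l then 1 else 0, (by decide +kernel :
      ∀ i j : Fin 4, Matrix.det (fun k l => if Equiv.swap i j k = l then (1 : F4) else 0) = 1) i j⟩, fun x y => by
    show Cfsg.hermForm 4 F4 2 ((fun k l => if Equiv.swap i j k = l then (1 : F4) else 0) *ᵥ x)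
      ((fun k l => if Equiv.swap i j k = l then (1 : F4) else 0) *ᵥ y) = _
    simp only [Cfsg.hermForm, Matrix.mulVec, dotProduct, ite_mul, one_mul, zero_mul, Finset.sum_ite_eq,
      Finset.mem_univ, if_true]
    exact Equiv.sum_comp (Equiv.swap i j) fun k => x k * y k ^ 2⟩

theorem swp_apply (i j : Fin 4) (a : F4) : mat4 (swp i j) *ᵥ Pi.single i a = Pi.single j a := by
  show (fun k l => if Equiv.swap i j k = l then (1 : F4) else 0) *ᵥ Pi.single i a = _
  funext k
  simp only [Matrix.mulVec, dotProduct, ite_mul, one_mul, zero_mul, Finset.sum_ite_eq, Finset.mem_univ, if_true,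
    Pi.single_apply]
  have h : Equiv.swap i j k = i ↔ k = j := by
    rw [← Equiv.eq_symm_apply, Equiv.symm_swap, Equiv.swap_apply_left]
  simp [h]

theorem sum_single (u : M4) : ∑ i, Pi.single i (u i) = u := Finset.univ_sum_single u

theorem bfm_nondeg {u : M4} (h : ∀ v, bfm u v = 0) : u = 0 := by
  funext i
  by_contra hi
  have hb := h (Pi.single i (F4.om * u i))
  rw [bfm, Finset.sum_eq_single i (fun j _ hj => by simp [Pi.single_eq_of_ne hj]) (by simp)] at hb
  rw [Pi.single_eq_same] at hb
  have key : ∀ a : F4, a ≠ 0 → a ^ 2 * (F4.om * a) + (F4.om * a) ^ 2 * a ≠ 0 := by decide +kernel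
  exact key _ hi hb

theorem bfm_omega : bfm (Pi.single 0 1) (Pi.single 0 F4.om) ≠ 0 := by decide +kernel

variable {W : Type*} [AddCommGroup W]

theorem ite_sum (z : W) (hz : z + z = 0) {ι : Type*} (s : Finset ι) (t : ι → F4) (ht : ∀ i, t i = 0 ∨ t i = 1) :
    ∑ i ∈ s, (if t i = 0 then 0 else z) = if ∑ i ∈ s, t i = 0 then 0 else z := by
  classical
  induction s using Finset.induction_on with
  | empty => simp
  | insert a s ha ih =>
    rw [Finset.sum_insert ha, Finset.sum_insert ha, ih]
    have hs : ∀ s : Finset ι, ∑ i ∈ s, t i = 0 ∨ ∑ i ∈ s, t i = 1 := fun s =>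
      Finset.sum_induction _ (fun x => x = 0 ∨ x = 1) (by
        rintro x y (rfl | rfl) (rfl | rfl) <;> simp [self_add]) (Or.inl rfl) fun i _ => ht i
    rcases ht a with e | e <;> rcases hs s with e' | e' <;> simp [e, e', self_add, hz]

/-- An invariant alternating form is a multiple of the standard one. -/
theorem alt_form (F : M4 → M4 → W) (hl : ∀ a b c, F (a + b) c = F a c + F b c)
    (hr : ∀ a b c, F a (b + c) = F a b + F a c) (halt : ∀ a, F a a = 0) (h2 : ∀ w : W, w + w = 0)
    (hinv : ∀ (A : ↥(Cfsg.SU 4 F4 2)) u v, F (mat4 A *ᵥ u) (mat4 A *ᵥ v) = F u v) (u v : M4) :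
    F u v = if bfm u v = 0 then 0 else F (Pi.single 0 1) (Pi.single 0 F4.om) := by
  classical
  set z := F (Pi.single 0 1) (Pi.single 0 F4.om)
  have hF0 : ∀ a, F 0 a = 0 := fun a => by simpa using hl 0 0 a
  have hF0' : ∀ a, F a 0 = 0 := fun a => by simpa using hr a 0 0
  have hsym : ∀ a b, F a b = F b a := fun a b => by
    have h := halt (a + b)
    rw [hl, hr, hr, halt, halt, zero_add, add_zero] at h
    exact eq_of_sub_eq_zero (by rw [sub_eq_add_neg, show -F b a = F b a from neg_eq_of_add_eq_zero_left (h2 _)]; exact h)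
  have cross : ∀ i j, i ≠ j → ∀ a b, F (Pi.single i a) (Pi.single j b) = 0 := by
    intro i j hij a b
    let w1 : Fin 4 → F4 := fun k => if k = i ∨ k = j then F4.om else F4.om'
    let w2 : Fin 4 → F4 := fun k => if k = i then F4.om else if k = j then F4.om'
      else if (k : ℕ) = (if (i : ℕ) ≠ 0 ∧ (j : ℕ) ≠ 0 then 0 else if (i : ℕ) ≠ 1 ∧ (j : ℕ) ≠ 1 then 1 else 2)
        then F4.om else F4.om'
    have hw : ∀ i j : Fin 4, i ≠ j →
        (∏ k, (if k = i ∨ k = j then F4.om else F4.om') = (1 : F4)) ∧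
        (∏ k : Fin 4, (if k = i then F4.om else if k = j then F4.om'
          else if (k : ℕ) = (if (i : ℕ) ≠ 0 ∧ (j : ℕ) ≠ 0 then 0 else if (i : ℕ) ≠ 1 ∧ (j : ℕ) ≠ 1 then 1 else 2)
            then F4.om else F4.om') = (1 : F4)) := by decide +kernel
    have n1 : ∀ k, w1 k ≠ 0 := fun k => by simp only [w1]; split_ifs <;> decide
    have n2 : ∀ k, w2 k ≠ 0 := fun k => by simp only [w2]; split_ifs <;> decide
    have e1 : ∀ x y, F (Pi.single i (F4.om * x)) (Pi.single j (F4.om * y)) = F (Pi.single i x) (Pi.single j y) := by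
      intro x y
      have := hinv (dg w1 n1 (hw i j hij).1) (Pi.single i x) (Pi.single j y)
      rwa [dg_apply, dg_apply, show w1 i = F4.om from if_pos (Or.inl rfl),
        show w1 j = F4.om from if_pos (Or.inr rfl)] at this
    have e2 : ∀ x y, F (Pi.single i (F4.om * x)) (Pi.single j (F4.om' * y)) = F (Pi.single i x) (Pi.single j y) := by
      intro x y
      have := hinv (dg w2 n2 (hw i j hij).2) (Pi.single i x) (Pi.single j y)
      rwa [dg_apply, dg_apply, show w2 i = F4.om from if_pos rfl,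
        show w2 j = F4.om' from (if_neg (Ne.symm hij)).trans (if_pos rfl)] at this
    have key : ∀ y, F (Pi.single i a) (Pi.single j (F4.om * y + y)) = 0 := by
      intro y
      have h1 := e1 a (F4.om * y)
      rw [← mul_assoc, show F4.om * F4.om = F4.om' from rfl, e2] at h1
      rw [Pi.single_add, hr, ← h1, h2]
    have hb : F4.om * (F4.om * b) + F4.om * b = b := by revert b; decide +kernel
    rw [← hb]; exact key _
  have hdiag : ∀ i, F (Pi.single i 1) (Pi.single i F4.om) = z := by
    intro i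
    have := hinv (swp 0 i) (Pi.single 0 1) (Pi.single 0 F4.om)
    rwa [swp_apply, swp_apply] at this
  have hpair : ∀ i a b, F (Pi.single i a) (Pi.single i b) = if a ^ 2 * b + b ^ 2 * a = 0 then 0 else z := by
    intro i a b
    have hs := hsym (Pi.single i F4.om : M4) (Pi.single i 1)
    have hi := hdiag i
    have s1 : (Pi.single i F4.om' : M4) = (Pi.single i 1 : M4) + Pi.single i F4.om := by
      rw [← Pi.single_add]; rfl
    have z0 : (Pi.single i 0 : M4) = 0 := Pi.single_zero i
    cases a <;> cases b <;>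
      simp only [show (F4.zero : F4) = 0 from rfl, show (F4.one : F4) = 1 from rfl, z0, hF0, hF0', s1, hl, hr, halt,
        hs, hi, h2, zero_add, add_zero] <;>
      first | (rw [if_pos (by decide +kernel)]) | (rw [if_neg (by decide +kernel)])
  have hsum : ∀ (s : Finset (Fin 4)) (x : M4) (g : Fin 4 → M4), F (∑ i ∈ s, g i) x = ∑ i ∈ s, F (g i) x := by
    intro s x g
    induction s using Finset.induction_on with
    | empty => simp [hF0]
    | insert a s ha ih => rw [Finset.sum_insert ha, Finset.sum_insert ha, hl, ih]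
  have hsum' : ∀ (s : Finset (Fin 4)) (x : M4) (g : Fin 4 → M4), F x (∑ i ∈ s, g i) = ∑ i ∈ s, F x (g i) := by
    intro s x g
    simp only [hsym x, hsum]
  calc F u v = ∑ i, ∑ j, F (Pi.single i (u i)) (Pi.single j (v j)) := by
        conv_lhs => rw [← sum_single u, hsum]
        refine Finset.sum_congr rfl fun i _ => ?_
        conv_lhs => rw [← sum_single v, hsum']
    _ = ∑ i, (if u i ^ 2 * v i + v i ^ 2 * u i = 0 then 0 else z) := by
        refine Finset.sum_congr rfl fun i _ => ?_
        rw [Finset.sum_eq_single i (fun j _ hj => cross i j (Ne.symm hj) _ _) (by simp), hpair]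
    _ = _ := by
        rw [ite_sum z (h2 z) _ _ fun i => (by decide +kernel : ∀ a b : F4, a ^ 2 * b + b ^ 2 * a = 0 ∨ a ^ 2 * b + b ^ 2 * a = 1) _ _]
        rfl

/-- An invariant additive function is zero. -/
theorem add_fun (f : M4 → W) (hadd : ∀ a b, f (a + b) = f a + f b) (h2 : ∀ w : W, w + w = 0)
    (hinv : ∀ (A : ↥(Cfsg.SU 4 F4 2)) u, f (mat4 A *ᵥ u) = f u) (u : M4) : f u = 0 := by
  have hone : ∀ i a, f (Pi.single i a) = 0 := by
    intro i a
    have e : ∀ x, f (Pi.single i (F4.om * x)) = f (Pi.single i x) := fun x => by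
      let w : Fin 4 → F4 := fun k => if (k : ℕ) = i ∨ (k : ℕ) = (i + 1) % 4 then F4.om else F4.om'
      have hw : ∀ i : Fin 4, ∏ k : Fin 4, (if (k : ℕ) = i ∨ (k : ℕ) = (i + 1) % 4 then F4.om else F4.om') = (1 : F4) := by
        decide +kernel
      have n : ∀ k, w k ≠ 0 := fun k => by simp only [w]; split_ifs <;> decide
      have := hinv (dg w n (hw i)) (Pi.single i x)
      rwa [dg_apply, show w i = F4.om from if_pos (Or.inl rfl)] at this
    have h1 := e a
    have h2' := e (F4.om * a)
    have h3 : f (Pi.single i (F4.om * (F4.om * a))) = f (Pi.single i (F4.om * a)) + f (Pi.single i a) := by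
      rw [← hadd, ← Pi.single_add]
      congr 2
      exact (by decide +kernel : ∀ x : F4, F4.om * (F4.om * x) = F4.om * x + x) a
    rw [h2', h1, h2] at h3
    exact h3
  have h0 : f 0 = 0 := by simpa using hadd 0 0
  rw [← sum_single u]
  exact Finset.sum_induction _ (fun x => f x = 0) (fun a b ha hb => by rw [hadd, ha, hb, add_zero]) h0
    fun i _ => hone i _

end CfsgLib.Recog.FiM22Two.PointBlock
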