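import Cfsg.Agent.Lib.Recog.FiM22Two.PointForm
import Cfsg.Agent.Lib.Recog.FiM22Two.Involutions
import Cfsg.Agent.Lib.Classical.Unitary.MatrixStructure

set_option autoImplicit false
set_option maxRecDepth 20000

/-!
The joint centraliser of a commuting pair in a group of type M(22): its quotient PSU(4, 2) and its centre
(owner: helper6).
-/

namespace CfsgLib.Recog.FiM22Two.PairCent

open Cfsg CfsgLib.ThreeTrans CfsgLib.Recog.FiM22 CfsgLib.Recog.FiM22Two.PointBlock
open CfsgLib.Recog.SporBound.Fi22U6 (F4)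
open scoped Matrix

universe u

/-- The group PSU(4, 2). -/
abbrev P4 : Type := Cfsg.PSU 4 F4 2

theorem card_P4 : Nat.card P4 = 25920 := by
  have h := CfsgLib.Classical.Herm.card_PSU (q := 2) F4.card 4 (by norm_num)
  norm_num [Finset.prod_range_succ, Nat.even_iff] at h
  linarith

theorem simple_P4 : IsSimpleGroup P4 :=
  CfsgLib.Classical.Herm.isSimpleGroup_PSU' (q := 2) F4.card 4 (by norm_num) (by norm_num)

theorem nonabelian_P4 : ¬ ∀ x y : P4, x * y = y * x := fun h => by
  haveI := simple_P4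
  letI : CommGroup P4 := { (inferInstance : Group P4) with mul_comm := h }
  have hp := IsSimpleGroup.prime_card (α := P4)
  rw [card_P4] at hp
  norm_num at hp

theorem eq_one_of_central {z : P4} (h : ∀ y, z * y = y * z) : z = 1 := by
  haveI := simple_P4
  rcases (inferInstance : (Subgroup.center P4).Normal).eq_bot_or_eq_top with hb | ht
  · exact Subgroup.mem_bot.1 (hb ▸ Subgroup.mem_center_iff.2 fun y => (h y).symm)
  · exact absurd (fun x y => (Subgroup.mem_center_iff.1 (ht ▸ Subgroup.mem_top x) y).symm) nonabelian_P4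

theorem eq_one_of_central_six {z : Q6} (h : ∀ y, z * y = y * z) : z = 1 := by
  haveI := psu_simple
  rcases (inferInstance : (Subgroup.center Q6).Normal).eq_bot_or_eq_top with hb | ht
  · exact Subgroup.mem_bot.1 (hb ▸ Subgroup.mem_center_iff.2 fun y => (h y).symm)
  · exact absurd (fun x y => (Subgroup.mem_center_iff.1 (ht ▸ Subgroup.mem_top x) y).symm) psu_nonabelian

variable {G : Type u} [Group G] [Finite G] {D : Set G}

theorem prod_not_mem (hD : IsThreeTranspositionGroup D) (hprim : IsPrimitiveUnderConj D) (h22 : IsOfTypeM22 G D)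
    {d e : G} (hd : d ∈ D) (he : e ∈ nbrs D d) : e * d ∉ D := by
  intro hm
  have hl : Factor.ComList D [e, d] := by
    refine ⟨by simpa using he.2.1, ?_, ?_⟩
    · intro x hx
      simp only [List.mem_cons, List.not_mem_nil, or_false] at hx
      rcases hx with rfl | rfl
      · exact he.1
      · exact hd
    · intro x hx y hy
      simp only [List.mem_cons, List.not_mem_nil, or_false] at hx hy
      rcases hx with rfl | rfl <;> rcases hy with rfl | rfl
      exacts [Commute.refl _, he.2.2.symm, he.2.2, Commute.refl _]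
  obtain ⟨c, h2, h3⟩ := no_class hD hprim h22 hl (Or.inl rfl)
  simp only [List.prod_cons, List.prod_nil, mul_one] at h2 h3
  rcases hD.1.2 _ hm _ (hD.2.1 c _ hm) with h | h
  · exact h2 h
  · exact h3 h

variable {d : G}

theorem card_nbrs (B : FiM22.Base D d) : (nbrs D d).ncard = 693 := by
  choose f hf himg using fun r : Fin 693 => B.T_is_img r.2
  have hb : Function.Bijective (fun r => (⟨f r, hf r⟩ : ↥(nbrs D d))) := by
    refine ⟨fun r s h => Fin.ext (T_inj r.2 s.2 ?_), fun x => ?_⟩
    · rw [← himg r, ← himg s]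
      simp only [Base.img]
      congr 1
      exact Subtype.ext (congrArg (fun z : ↥(nbrs D d) => (z : G)) h)
    · obtain ⟨r, hr, e⟩ := B.img_is_T x.2
      exact ⟨⟨r, hr⟩, Subtype.ext (B.img_inj (hf _) x.2 ((himg ⟨r, hr⟩).trans e.symm))⟩
  rw [← Nat.card_coe_set_eq, ← Nat.card_eq_of_bijective _ hb, Nat.card_fin]

/-- The centraliser of a member over PSU(6, 2), sending a second member to the standard transvection. -/
theorem exists_sigma (B : FiM22.Base D d) {e : G} (he : e ∈ nbrs D d) :
    ∃ σ : ↥(Subgroup.centralizer ({d} : Set G)) →* Q6, Function.Surjective σ ∧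
      (∀ x : ↥(Subgroup.centralizer ({d} : Set G)), σ x = 1 ↔ (x : G) = 1 ∨ (x : G) = d) ∧
      ∀ h : e ∈ Subgroup.centralizer ({d} : Set G), σ ⟨e, h⟩ = Tv := by
  obtain ⟨r, hr, hT, -⟩ := exists_row
  obtain ⟨e₀, he₀, himg⟩ := B.T_is_img hr
  obtain ⟨k, hk, hke⟩ := B.setting.commute_transitive B.mem he.1 he.2.1 he.2.2 he₀.1 he₀.2.1 he₀.2.2
  let kC : ↥(Subgroup.centralizer ({d} : Set G)) := ⟨k, Subgroup.mem_centralizer_singleton_iff.2 hk.eq⟩
  let ι : ↥(Subgroup.centralizer ({d} : Set G)) ≃* ↥(Subgroup.closure (nbrs D d)) :=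
    (MulAut.conj kC).trans (MulEquiv.subgroupCongr B.centralizer_eq.symm)
  refine ⟨B.proj.comp ι.toMonoidHom, B.surj.comp ι.surjective, fun x => ?_, fun h => ?_⟩
  · have hz : ∀ y : ↥(Subgroup.closure (nbrs D d)), B.proj y = 1 ↔ (y : G) = 1 ∨ (y : G) = d := by
      intro y
      constructor
      · intro hy
        have hc := B.kerLe (MonoidHom.mem_ker.2 hy)
        rw [B.quasisimple.2, Subgroup.mem_subgroupOf] at hc
        obtain ⟨i, hi⟩ := hc
        have hi' : d ^ i = (y : G) := hi
        rcases Int.even_or_odd i with ⟨m, rfl⟩ | ⟨m, rfl⟩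
        · rw [zpow_add, ← (Commute.refl d).mul_zpow, mul_self B.set3 B.mem, one_zpow] at hi'
          exact Or.inl hi'.symm
        · rw [two_mul, zpow_add, zpow_add, ← (Commute.refl d).mul_zpow, mul_self B.set3 B.mem, one_zpow, one_mul,
            zpow_one] at hi'
          exact Or.inr hi'.symm
      · rintro (e1 | e1)
        · rw [show y = 1 from Subtype.ext e1, map_one]
        · refine eq_one_of_central_six fun z => ?_
          obtain ⟨w, rfl⟩ := B.surj z
          rw [← map_mul, ← map_mul]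
          congr 1
          refine Subtype.ext ?_
          show (y : G) * (w : G) = (w : G) * (y : G)
          rw [e1]
          exact (RankThree.commute_closure (a := d) (T := nbrs D d) (fun _ hz => hz.2.2) w.2).eq
    rw [MonoidHom.comp_apply, hz]
    have hxd : k * d * k⁻¹ = d := by rw [hk.eq, mul_inv_cancel_right]
    show k * (x : G) * k⁻¹ = 1 ∨ k * (x : G) * k⁻¹ = d ↔ _
    constructor
    · rintro (h1 | h1)
      · exact Or.inl (conj_eq_one_iff.1 h1)
      · exact Or.inr (mul_left_cancel (mul_right_cancel (h1.trans hxd.symm)))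
    · rintro (h1 | h1)
      · exact Or.inl (by rw [h1, mul_one, mul_inv_cancel])
      · exact Or.inr (by rw [h1, hxd])
  · rw [hT, ← himg]
    simp only [Base.img, MonoidHom.comp_apply]
    congr 1
    exact Subtype.ext hke

theorem card_cent (B : FiM22.Base D d) {e : G} (he : e ∈ nbrs D d) :
    Nat.card ↥(Subgroup.centralizer ({d, e} : Set G)) * 693 = 2 * 9196830720 := by
  set C := Subgroup.centralizer ({d} : Set G) with hC
  obtain ⟨σ, hs, hker, -⟩ := exists_sigma B he
  have hcC : Nat.card ↥C = 2 * 9196830720 := by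
    rw [σ.ker.card_eq_card_quotient_mul_card_subgroup,
      Nat.card_congr (QuotientGroup.quotientKerEquivOfSurjective σ hs).toEquiv, CfsgLib.Recog.SporBound.Fi22U6.card_psu, mul_comm]
    congr 1
    let δ : C := ⟨d, Subgroup.mem_centralizer_singleton_iff.2 rfl⟩
    have : ((σ.ker : Subgroup C) : Set C) = {1, δ} := by
      ext x
      rw [SetLike.mem_coe, MonoidHom.mem_ker, hker]
      simp only [Set.mem_insert_iff, Set.mem_singleton_iff, Subtype.ext_iff, δ, OneMemClass.coe_one]
    rw [← SetLike.coe_sort_coe, Nat.card_coe_set_eq, this, Set.ncard_pair]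
    intro e1
    have h1 : (1 : G) = d := congrArg Subtype.val e1
    have := B.grp.1.1 d B.mem
    rw [← h1, orderOf_one] at this
    norm_num at this
  have hmem : ∀ (h : C) (x : ↥(nbrs D d)), (h : G) * x * (h : G)⁻¹ ∈ nbrs D d := fun h x =>
    B.conj_mem_nbrs (by rw [B.centralizer_eq]; exact h.2) x.2
  letI : MulAction C ↥(nbrs D d) :=
    { smul := fun h x => ⟨(h : G) * x * (h : G)⁻¹, hmem h x⟩
      one_smul := fun x => Subtype.ext (by show (1 : G) * x * (1 : G)⁻¹ = x; group)
      mul_smul := fun g h x => Subtype.ext (by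
        show (g : G) * h * x * ((g : G) * h)⁻¹ = (g : G) * ((h : G) * x * (h : G)⁻¹) * (g : G)⁻¹; group) }
  have horb : MulAction.orbit C (⟨e, he⟩ : ↥(nbrs D d)) = Set.univ := Set.eq_univ_of_forall fun x => by
    obtain ⟨g, hg, hge⟩ := B.setting.commute_transitive B.mem he.1 he.2.1 he.2.2 x.2.1 x.2.2.1 x.2.2.2
    exact ⟨⟨g, Subgroup.mem_centralizer_singleton_iff.2 hg.eq⟩, Subtype.ext hge⟩
  have hst : MulAction.stabilizer C (⟨e, he⟩ : ↥(nbrs D d)) = (Subgroup.centralizer ({d, e} : Set G)).subgroupOf C := by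
    ext h
    rw [MulAction.mem_stabilizer_iff, Subgroup.mem_subgroupOf, Subgroup.mem_centralizer_iff]
    simp only [Set.mem_insert_iff, Set.mem_singleton_iff, forall_eq_or_imp, forall_eq]
    exact ⟨fun h1 => ⟨(Subgroup.mem_centralizer_singleton_iff.1 h.2).symm,
      (mul_inv_eq_iff_eq_mul.1 (congrArg Subtype.val h1)).symm⟩,
      fun h1 => Subtype.ext (mul_inv_eq_iff_eq_mul.2 h1.2.symm)⟩
  have hidx : ((Subgroup.centralizer ({d, e} : Set G)).subgroupOf C).index = 693 := by
    rw [← hst, MulAction.index_stabilizer, horb, Set.ncard_univ, Nat.card_coe_set_eq, card_nbrs B]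
  have hle : Subgroup.centralizer ({d, e} : Set G) ≤ C := Subgroup.centralizer_le (by simp)
  rw [← hcC, ← Nat.card_congr (Subgroup.subgroupOfEquivOfLe hle).toEquiv, ← hidx, Subgroup.card_mul_index]

theorem pow_two_pow {K : Type*} [Group K] (N : Subgroup K) (h : Nat.card N = 1024) (x : K) (hx : x ∈ N) :
    x ^ 1024 = 1 := by
  have := pow_card_eq_one' (x := (⟨x, hx⟩ : N))
  rw [h] at this
  exact congrArg Subtype.val this

/-- Coordinates on the kernel: a natural module with its alternating form. -/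
structure Coord {K : Type*} [Group K] (φ : K →* P4) (InV : K → Prop) where
  /-- the coordinates -/
  κ : ↥φ.ker →* Multiplicative M4
  surj : Function.Surjective κ
  ker : ∀ x : ↥φ.ker, κ x = 1 ↔ InV x
  act : ∀ A : ↥(Cfsg.SU 4 F4 2), ∃ y : K, φ y = QuotientGroup.mk' (Subgroup.center ↥(Cfsg.SU 4 F4 2)) A ∧
    ∀ (x : ↥φ.ker) (h : y * (x : K) * y⁻¹ ∈ φ.ker), Multiplicative.toAdd (κ ⟨y * (x : K) * y⁻¹, h⟩) =
      ((A : Matrix.SpecialLinearGroup (Fin 4) F4) : Matrix (Fin 4) (Fin 4) F4) *ᵥ Multiplicative.toAdd (κ x)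
  form : ∀ x y : ↥φ.ker, Commute (x : K) y → bfm (Multiplicative.toAdd (κ x)) (Multiplicative.toAdd (κ y)) = 0

/-- The map of the joint centraliser onto PSU(4, 2). -/
theorem exists_quot (hD : IsThreeTranspositionGroup D) (hprim : IsPrimitiveUnderConj D) (h22 : IsOfTypeM22 G D)
    {d e : G} (hd : d ∈ D) (he : e ∈ nbrs D d) :
    ∃ φ : ↥(Subgroup.centralizer ({d, e} : Set G)) →* P4, Function.Surjective φ ∧ Nat.card φ.ker = 1024 ∧
      (∀ x ∈ φ.ker, ∀ y ∈ φ.ker, ((x * y * x⁻¹ * y⁻¹ : _) : G) ∈ Subgroup.closure ({d, e} : Set G) ∧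
        ((x ^ 2 : _) : G) ∈ Subgroup.closure ({d, e} : Set G)) ∧
      (Subgroup.center ↥(Subgroup.centralizer ({d, e} : Set G))).map (Subgroup.centralizer ({d, e} : Set G)).subtype =
        Subgroup.closure ({d, e} : Set G) ∧
      (∀ x : ↥(Subgroup.centralizer ({d, e} : Set G)), (x : G) ∈ Subgroup.closure ({d, e} : Set G) → x ∈ φ.ker) ∧
      Nonempty (Coord φ fun x : ↥(Subgroup.centralizer ({d, e} : Set G)) =>
        (x : G) ∈ Subgroup.closure ({d, e} : Set G)) := by
  obtain ⟨B⟩ := FiM22.exists_base_at hD hprim h22 hd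
  set C := Subgroup.centralizer ({d} : Set G) with hC
  obtain ⟨σ, hs, hker, hσe⟩ := exists_sigma B he
  set K := Subgroup.centralizer ({d, e} : Set G) with hK
  have hle : K ≤ C := Subgroup.centralizer_le (by simp)
  have heC : e ∈ C := Subgroup.mem_centralizer_singleton_iff.2 he.2.2.eq.symm
  have hmemK : ∀ x : G, x ∈ K ↔ Commute x d ∧ Commute x e := fun x => by
    rw [hK, Subgroup.mem_centralizer_iff]
    simp only [Set.mem_insert_iff, Set.mem_singleton_iff, forall_eq_or_imp, forall_eq]
    exact ⟨fun h => ⟨h.1.symm, h.2.symm⟩, fun h => ⟨h.1.symm, h.2.symm⟩⟩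
  have hV : ∀ x : C, σ x ∈ ({1, Tv} : Set Q6) → (x : G) ∈ Subgroup.closure ({d, e} : Set G) := by
    intro x hx
    have hdV : d ∈ Subgroup.closure ({d, e} : Set G) := Subgroup.subset_closure (by simp)
    have heV : e ∈ Subgroup.closure ({d, e} : Set G) := Subgroup.subset_closure (by simp)
    rcases hx with hx | hx
    · rcases (hker x).1 hx with h | h <;> rw [h]
      · exact one_mem _
      · exact hdV
    · have h1 : σ ((⟨e, heC⟩ : C)⁻¹ * x) = 1 := by
        rw [map_mul, map_inv, hσe heC, show σ x = Tv from hx, inv_mul_cancel]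
      rcases (hker _).1 h1 with h | h <;> simp only [Subgroup.coe_mul, Subgroup.coe_inv] at h
      · rw [← inv_mul_eq_one.1 h]; exact heV
      · rw [inv_mul_eq_iff_eq_mul.1 h]; exact mul_mem heV hdV
  have hiff : ∀ x : C, (x : G) ∈ K ↔ σ x ∈ Subgroup.centralizer ({Tv} : Set Q6) := by
    intro x
    rw [Subgroup.mem_centralizer_singleton_iff, ← hσe heC, ← map_mul, ← map_mul]
    constructor
    · intro hx
      congr 1
      exact Subtype.ext ((hmemK _).1 hx).2.eq
    · intro h
      refine (hmemK _).2 ⟨Subgroup.mem_centralizer_singleton_iff.1 x.2, ?_⟩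
      have h1 : σ ((⟨e, heC⟩ : C)⁻¹ * (x * ⟨e, heC⟩ * x⁻¹)) = 1 := by
        rw [map_mul, map_inv, map_mul σ (x * ⟨e, heC⟩), h, ← map_mul σ (_ * x), mul_assoc, mul_inv_cancel, mul_one,
          inv_mul_cancel]
      rcases (hker _).1 h1 with h2 | h2 <;> simp only [Subgroup.coe_mul, Subgroup.coe_inv] at h2
      · exact mul_inv_eq_iff_eq_mul.1 (inv_mul_eq_one.1 h2).symm
      · exact absurd (inv_mul_eq_iff_eq_mul.1 h2 ▸ hD.2.1 (x : G) e he.1) (prod_not_mem hD hprim h22 hd he)
  let τ : ↥K →* ↥(Subgroup.centralizer ({Tv} : Set Q6)) :=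
    (σ.comp (Subgroup.inclusion hle)).codRestrict _ fun x => (hiff _).1 x.2
  have hτ : Function.Surjective τ := by
    rintro ⟨y, hy⟩
    obtain ⟨x, rfl⟩ := hs y
    exact ⟨⟨x, (hiff x).2 hy⟩, rfl⟩
  let φ : ↥K →* P4 := bar.comp τ
  have hφ : Function.Surjective φ := bar_surjective.comp hτ
  have hcen : ∀ z : K, (∀ y, Commute z y) → φ z = 1 := fun z hz => eq_one_of_central fun w => by
    obtain ⟨y, rfl⟩ := hφ w
    exact ((hz y).map φ).eq
  have hcard : Nat.card φ.ker = 1024 := by
    have h1 := card_cent B he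
    rw [φ.ker.card_eq_card_quotient_mul_card_subgroup,
      Nat.card_congr (QuotientGroup.quotientKerEquivOfSurjective φ hφ).toEquiv, card_P4] at h1
    omega
  have h2 : ∀ x ∈ φ.ker, bar (τ x) = 1 ∧ τ x ^ 1024 = 1 := fun x hx =>
    ⟨hx, by rw [← map_pow, pow_two_pow _ hcard x hx, map_one]⟩
  refine ⟨φ, hφ, hcard, fun x hx y hy => ?_, le_antisymm ?_ ?_, ?_, ?_⟩
  · obtain ⟨hc, hq⟩ := comm_sq (h2 x hx).1 (h2 x hx).2 (h2 y hy).1 (h2 y hy).2
    refine ⟨hV (Subgroup.inclusion hle (x * y * x⁻¹ * y⁻¹)) ?_, hV (Subgroup.inclusion hle (x ^ 2)) ?_⟩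
    · rw [show σ (Subgroup.inclusion hle (x * y * x⁻¹ * y⁻¹)) = ((τ (x * y * x⁻¹ * y⁻¹) : _) : Q6) from rfl,
        map_mul, map_mul, map_mul, map_inv, map_inv]
      exact hc
    · rw [show σ (Subgroup.inclusion hle (x ^ 2)) = ((τ (x ^ 2) : _) : Q6) from rfl, map_pow]
      exact hq
  · rintro _ ⟨z, hz, rfl⟩
    have hz' : ∀ y, Commute z y := fun y => (Subgroup.mem_center_iff.1 hz y).symm
    obtain ⟨hb, hp⟩ := h2 z (hcen z hz')
    refine hV (Subgroup.inclusion hle z) (central_small hb hp fun y => ?_)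
    obtain ⟨w, rfl⟩ := hτ y
    exact (hz' w).map τ
  · rw [Subgroup.closure_le]
    intro v hv
    have hvK : v ∈ K := by
      rw [hmemK]
      rcases hv with rfl | rfl
      · exact ⟨Commute.refl _, he.2.2⟩
      · exact ⟨he.2.2.symm, Commute.refl _⟩
    refine ⟨⟨v, hvK⟩, Subgroup.mem_center_iff.2 fun y => Subtype.ext ?_, rfl⟩
    rcases hv with rfl | rfl
    · exact ((hmemK _).1 y.2).1.eq
    · exact ((hmemK _).1 y.2).2.eq
  · intro x hx
    refine hcen x fun y => Subtype.ext ?_
    have : Subgroup.closure ({d, e} : Set G) ≤ Subgroup.centralizer ({(y : G)} : Set G) :=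
      (Subgroup.closure_le _).2 fun v hv => Subgroup.mem_centralizer_singleton_iff.2 (by
        rcases hv with rfl | rfl
        · exact ((hmemK _).1 y.2).1.eq.symm
        · exact ((hmemK _).1 y.2).2.eq.symm)
    exact Subgroup.mem_centralizer_singleton_iff.1 (this hx)
  · have hex : ∀ x : ↥φ.ker, ∃ g : ↥U, QuotientGroup.mk' (Subgroup.center CfsgLib.Recog.SporBound.Fi22U6.SU6) (g : CfsgLib.Recog.SporBound.Fi22U6.SU6) = ((τ (x : ↥K) : _) : Q6) := fun x =>
      exists_unipotent (h2 x x.2).1 (h2 x x.2).2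
    choose γ hγ using hex
    let κ : ↥φ.ker →* Multiplicative M4 := MonoidHom.mk' (fun x => Multiplicative.ofAdd (cc (γ x))) fun x y => by
      rw [← ofAdd_add, ← cc_mul]
      congr 2
      refine mk_injective ?_
      rw [hγ, Subgroup.coe_mul, map_mul, Subgroup.coe_mul, Subgroup.coe_mul, map_mul, hγ, hγ]
    have hVT : ∀ x : ↥φ.ker, ((x : ↥K) : G) ∈ Subgroup.closure ({d, e} : Set G) →
        ((τ (x : ↥K) : _) : Q6) ∈ ({1, Tv} : Set Q6) := by
      intro x hx
      have hsub : Subgroup.closure ({d, e} : Set G) ≤ ((Subgroup.zpowers Tv).comap σ).map C.subtype := by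
        rw [Subgroup.closure_le]
        rintro v (rfl | rfl)
        · exact ⟨⟨v, Subgroup.mem_centralizer_singleton_iff.2 rfl⟩, by
            rw [SetLike.mem_coe, Subgroup.mem_comap, (hker _).2 (Or.inr rfl)]
            exact one_mem _, rfl⟩
        · exact ⟨⟨v, heC⟩, by
            rw [SetLike.mem_coe, Subgroup.mem_comap, hσe heC]
            exact Subgroup.mem_zpowers _, rfl⟩
      obtain ⟨w, hw, hwx⟩ := hsub hx
      obtain ⟨i, hi⟩ := hw
      have hi' : Tv ^ i = ((τ (x : ↥K) : _) : Q6) :=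
        hi.trans (congrArg σ (Subtype.ext hwx : w = Subgroup.inclusion hle (x : ↥K)))
      rw [← hi']
      rcases Int.even_or_odd i with ⟨m, rfl⟩ | ⟨m, rfl⟩
      · left; rw [zpow_add, ← (Commute.refl Tv).mul_zpow, Tv_sq, one_zpow]
      · right; rw [two_mul, zpow_add, zpow_add, ← (Commute.refl Tv).mul_zpow, Tv_sq, one_zpow, one_mul, zpow_one]
        rfl
    have hone : ∀ x : ↥φ.ker, κ x = 1 ↔ ((x : ↥K) : G) ∈ Subgroup.closure ({d, e} : Set G) := by
      intro x
      constructor
      · intro hx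
        refine hV (Subgroup.inclusion hle (x : ↥K)) ?_
        have h0 : cc (γ x) = 0 := congrArg Multiplicative.toAdd hx
        have hsm := small (g := γ x) (Multiplicative.toAdd.injective (funext fun i => Prod.ext (congrFun h0 i) (by
          show (PointBlock.side (γ x) i).2 = 0
          rw [PointBlock.side, row_eq, h0]; simp)))
        rw [hγ] at hsm
        exact hsm
      · intro hx
        have hT := hVT x hx
        refine congrArg Multiplicative.ofAdd ?_
        rcases hT with h | h
        · rw [show γ x = 1 from mk_injective (by rw [hγ, h, Subgroup.coe_one, map_one])]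
          funext i
          simp [cc, CfsgLib.Recog.SporBound.Fi22U6.mat_one, Matrix.one_apply]
        · rw [show γ x = tU from mk_injective (by rw [hγ, h]; rfl)]
          exact cc_tU
    refine ⟨⟨κ, ?_, hone, fun A => ?_, fun x y h => ?_⟩⟩
    · rw [← MonoidHom.range_eq_top]
      refine Subgroup.eq_top_of_le_card _ ?_
      have hk : Nat.card κ.ker ≤ 4 := by
        have hsub : ∀ x : ↥κ.ker, (((x : ↥φ.ker) : ↥K) : G) ∈ ({1, d, e, e * d} : Set G) := by
          intro x
          rcases hVT x.1 ((hone x).1 x.2) with h | h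
          · rcases (hker _).1 (show σ (Subgroup.inclusion hle ((x : ↥φ.ker) : ↥K)) = 1 from h) with h' | h' <;>
              simp only [Subgroup.coe_inclusion] at h' <;> simp [h']
          · have h1 : σ ((⟨e, heC⟩ : C)⁻¹ * Subgroup.inclusion hle ((x : ↥φ.ker) : ↥K)) = 1 := by
              rw [map_mul, map_inv, hσe heC, show σ (Subgroup.inclusion hle ((x : ↥φ.ker) : ↥K)) = Tv from h,
                inv_mul_cancel]
            rcases (hker _).1 h1 with h' | h' <;>
              simp only [Subgroup.coe_mul, Subgroup.coe_inv, Subgroup.coe_inclusion] at h'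
            · rw [← inv_mul_eq_one.1 h']; simp
            · rw [inv_mul_eq_iff_eq_mul.1 h']; simp
        have hinj : Function.Injective (fun x : ↥κ.ker =>
            (⟨(((x : ↥φ.ker) : ↥K) : G), hsub x⟩ : ({1, d, e, e * d} : Set G))) := fun a b h =>
          Subtype.ext (Subtype.ext (Subtype.ext (congrArg (fun z : ({1, d, e, e * d} : Set G) => (z : G)) h)))
        refine le_trans (Nat.card_le_card_of_injective _ hinj) ?_
        rw [Nat.card_coe_set_eq]
        refine le_trans (Set.ncard_insert_le _ _) (Nat.succ_le_succ (le_trans (Set.ncard_insert_le _ _)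
          (Nat.succ_le_succ (le_trans (Set.ncard_insert_le _ _) (by simp)))))
      have h1 := Subgroup.card_mul_index κ.ker
      rw [Subgroup.index_ker, hcard] at h1
      rw [Nat.card_congr Multiplicative.toAdd, Nat.card_fun, Nat.card_eq_fintype_card (α := F4), F4.card, Nat.card_fin]
      have hM : Nat.card κ.ker * Nat.card κ.range ≤ 4 * Nat.card κ.range := Nat.mul_le_mul_right _ hk
      have h4 : ((2 : ℕ) ^ 2) ^ 4 = 256 := by norm_num
      omega
    · obtain ⟨y, hy⟩ := hτ (toCent ⟨emb A, mem_P (emb_vv A)⟩)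
      refine ⟨y, ?_, fun x hx => ?_⟩
      · show bar (τ y) = _
        rw [hy, bar_emb]
      · obtain ⟨g', hg', hcc⟩ := conj_U A (γ x)
        show cc (γ ⟨_, hx⟩) = _
        rw [show γ ⟨_, hx⟩ = g' from mk_injective (by
          rw [hγ, hg']
          simp only [map_mul, map_inv, hγ, hy, Subgroup.coe_mul, Subgroup.coe_inv]
          rfl)]
        exact hcc
    · refine bfm_eq_zero_of_commute ?_
      rw [hγ, hγ]
      exact (h.map τ).map (Subgroup.subtype _)

end CfsgLib.Recog.FiM22Two.PairCent
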