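import Cfsg.Agent.Lib.Recog.SporBound.Fi22Inv.Main
import Cfsg.Agent.Lib.Recog.SporBound.Fi22Group

set_option autoImplicit false
set_option maxRecDepth 20000
set_option Elab.async false

/-! Kernel checks on pairs of commuting transpositions of Fi22 (owner: helper6; split off by helper18). -/

namespace CfsgLib.Recog.FiM22Two

open Cfsg CfsgLib.ThreeTrans.CosetIndex CfsgLib.Recog.SporBound CfsgLib.Recog.SporBound.Fi22Aut
open CfsgLib.Recog.SporBound.Fi22Group (a act)
open CfsgLib.Recog.SporBound.Fi22U6 (origin)

/-- The six rows. -/
def sixRows : List ℕ := [176, 1090, 1082, 1047, 1361, 2757]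

/-- The rows told apart. -/
def sepRows : List ℕ := [1082, 1062, 1083]

/-- The partner of the first row. -/
def mate : Row := ⟨12, by decide⟩

/-- The product of the six fixes a row. -/
noncomputable def sixFix (c : ℕ) : Bool := Nat.beq (FiHat3510.data.trace c (sixRows.map pal).flatten) c

theorem six_rows : (sixRows.all fun r => !Nat.beq r 0 && comB r 0 && sixRows.all fun s => comB r s) = true ∧
    sixRows.Nodup := by decide +kernel

theorem six_fix0 : ((List.range 3510).take 900).all sixFix = true := by decide +kernel

theorem six_fix1 : (((List.range 3510).drop 900).take 900).all sixFix = true := by decide +kernel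

theorem six_fix2 : (((List.range 3510).drop 1800).take 900).all sixFix = true := by decide +kernel

theorem six_fix3 : ((List.range 3510).drop 2700).all sixFix = true := by decide +kernel

theorem six_split : (List.range 3510).take 900 ++ ((List.range 3510).drop 900).take 900 ++
    ((List.range 3510).drop 1800).take 900 ++ (List.range 3510).drop 2700 = List.range 3510 := by decide +kernel

theorem six_checks : (sixRows.all fun r => !Nat.beq r 0 && comB r 0 && sixRows.all fun s => comB r s) = true ∧
    sixRows.Nodup ∧ ((List.range 3510).all fun c =>
      Nat.beq (FiHat3510.data.trace c (sixRows.map pal).flatten) c) = true := by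
  refine ⟨six_rows.1, six_rows.2, ?_⟩
  show (List.range 3510).all sixFix = true
  rw [← six_split, List.all_append, List.all_append, List.all_append, six_fix0, six_fix1, six_fix2, six_fix3]
  rfl

theorem swap_checks : (comB 2877 0 && !comB 2877 12 && comB 0 12 &&
    sepRows.all fun s => comB s 0 && comB s 12 && !Nat.beq s 0 && !Nat.beq s 12) = true ∧
    ((List.range 3510).all fun y => !(comB y 12 && !comB y 0 &&
      sepRows.all fun s => Bool.or (comB y s && comB 2877 s) (!comB y s && !comB 2877 s))) = true := by
  decide +kernel

end CfsgLib.Recog.FiM22Two
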