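import Cfsg.Agent.Lib.Recog.SporBound.Fi22Inv.Main
import Cfsg.Agent.Lib.Recog.SporBound.Fi22Group
import Cfsg.Agent.Lib.Recog.FiM22Two.PairKernel

set_option autoImplicit false
set_option Elab.async false
set_option maxRecDepth 20000

/-!
Kernel checks on pairs of commuting transpositions of Fi22 (owner: helper6): six commuting transpositions with product
one commuting with a further one, and no element exchanges a pair while centralising the transpositions commuting with both.
-/

namespace CfsgLib.Recog.FiM22Two

open Cfsg CfsgLib.ThreeTrans.CosetIndex CfsgLib.Recog.SporBound CfsgLib.Recog.SporBound.Fi22Aut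
open CfsgLib.Recog.SporBound.Fi22Group (a act)
open CfsgLib.Recog.SporBound.Fi22U6 (origin)

local notation "G" => Cfsg.Spor.Fi22

theorem origin_val : (origin : ℕ) = 0 := rfl

theorem row_iff (r s : Row) : comB r s = true ↔ Commute (T r) (T s) := by
  rw [comB_iff, com_iff]; rfl

theorem sixRows_lt : ∀ r ∈ sixRows, r < 3510 := by decide

/-- Six commuting transpositions with product one, commuting with the first letter. -/
theorem six_perp : ∃ l : List G, l.length = 6 ∧ l.Nodup ∧ (∀ x ∈ l, x ∈ conjugatesOf (a 0)) ∧
    (∀ x ∈ l, ∀ y ∈ l, Commute x y) ∧ (∀ x ∈ l, x ≠ a 0 ∧ Commute x (a 0)) ∧ l.prod = 1 := by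
  obtain ⟨hc, hn, hp⟩ := six_checks
  simp only [List.all_eq_true, Bool.and_eq_true, Bool.not_eq_true'] at hc
  let R : List Row := sixRows.attach.map fun r => ⟨r.1, sixRows_lt r.1 r.2⟩
  have hv : R.map Fin.val = sixRows := by simp [R, List.map_map, Function.comp_def]
  have hmem : ∀ r ∈ R, (r : ℕ) ∈ sixRows := fun r hr => hv ▸ List.mem_map_of_mem hr
  have h0 : ∀ r : Row, (r : ℕ) ∈ sixRows → T r ≠ a 0 ∧ Commute (T r) (a 0) := by
    intro r hr
    obtain ⟨⟨h1, h2⟩, -⟩ := hc _ hr
    refine ⟨fun e => ?_, ?_⟩
    · rw [← T_origin] at e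
      have := congrArg Fin.val (T_inj e)
      rw [origin_val] at this
      rw [this] at h1
      exact Bool.noConfusion h1
    · rw [← T_origin]
      exact (row_iff r origin).1 h2
  refine ⟨R.map T, by simp [R, sixRows], ?_, ?_, ?_, ?_, ?_⟩
  · exact (List.Nodup.of_map _ (hv ▸ hn)).map fun r s => T_inj
  · intro x hx
    obtain ⟨r, -, rfl⟩ := List.mem_map.1 hx
    exact Fi22Inv.T_mem r
  · intro x hx y hy
    obtain ⟨r, hr, rfl⟩ := List.mem_map.1 hx
    obtain ⟨s, hs, rfl⟩ := List.mem_map.1 hy
    exact (row_iff r s).1 ((hc _ (hmem r hr)).2 _ (hmem s hs))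
  · intro x hx
    obtain ⟨r, hr, rfl⟩ := List.mem_map.1 hx
    exact h0 r (hmem r hr)
  · have h1 : ∀ c : Row, act (((sixRows.map pal).flatten).reverse.map a).prod c = c := fun c => Fin.ext (by
      rw [← trace_act]
      exact Nat.eq_of_beq_eq_true (List.all_eq_true.1 hp c (List.mem_range.2 c.2)))
    have h2 : (((sixRows.map pal).flatten).reverse.map a).prod = 1 :=
      Fi22Group.card_and_faithful.2.1 (Equiv.ext fun c => by rw [h1, map_one]; rfl)
    rw [List.reverse_flatten, List.map_flatten, List.prod_flatten, List.map_reverse, List.map_map] at h2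
    have h3 : ((R.map T).reverse).prod = 1 := by
      rw [← h2, ← hv]
      simp only [List.map_reverse, List.map_map]
      refine congrArg (fun l : List G => l.reverse.prod) (List.map_congr_left fun r _ => ?_)
      simp only [Function.comp_apply, pal_reverse, pal_eq]
    have h4 : (R.map T).map (fun x => x⁻¹) = R.map T := by
      rw [List.map_map]
      exact List.map_congr_left fun r _ => inv_eq_of_mul_eq_one_right (T_sq r)
    rwa [List.prod_reverse_noncomm, inv_eq_one, h4] at h3

/-- No element exchanges the pair and centralises the transpositions commuting with both. -/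
theorem no_swap (q : G) (h1 : q * T origin * q⁻¹ = T mate) (h2 : q * T mate * q⁻¹ = T origin)
    (h3 : ∀ r : Row, T r ≠ T origin → T r ≠ T mate → Commute (T r) (T origin) → Commute (T r) (T mate) →
      q * T r * q⁻¹ = T r) : False := by
  obtain ⟨hS, hy⟩ := swap_checks
  simp only [Bool.and_eq_true, Bool.not_eq_true', List.all_eq_true] at hS
  obtain ⟨⟨⟨y0, y12⟩, -⟩, hS⟩ := hS
  let y : Row := ⟨2877, by decide⟩
  let y' : Row := act q y
  have e : T y' = q * T y * q⁻¹ := T_equiv q y
  have k1 : comB y' 12 = true := (row_iff y' mate).2 (by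
    rw [e, ← h1, commute_conj_iff']; exact (row_iff y origin).1 y0)
  have k0 : comB y' 0 = false := Bool.eq_false_iff.2 fun h => by
    have h' := (row_iff y' origin).1 h
    rw [e, ← h2, commute_conj_iff'] at h'
    have h'' : comB 2877 12 = true := (row_iff y mate).2 h'
    rw [h''] at y12
    exact Bool.noConfusion y12
  have ks : ∀ s ∈ sepRows, comB y' s = comB 2877 s := by
    intro s hs
    obtain ⟨⟨⟨s0, s12⟩, n0⟩, n12⟩ := hS s hs
    let r : Row := ⟨s, (by decide : ∀ s ∈ sepRows, s < 3510) s hs⟩
    have hr := h3 r (fun e => by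
        have := congrArg Fin.val (T_inj e); rw [origin_val] at this; change s = 0 at this
        rw [this] at n0; exact Bool.noConfusion n0)
      (fun e => by
        have := congrArg Fin.val (T_inj e); change s = 12 at this
        rw [this] at n12; exact Bool.noConfusion n12)
      ((row_iff r origin).1 s0) ((row_iff r mate).1 s12)
    refine Bool.eq_iff_iff.2 ((row_iff y' r).trans (Iff.trans ?_ (row_iff y r).symm))
    conv_lhs => rw [e, ← hr, commute_conj_iff']
  have := List.all_eq_true.1 hy y' (List.mem_range.2 y'.2)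
  rw [k1, k0, List.all_eq_true.2 fun s hs => by rw [ks s hs]; cases comB 2877 s <;> rfl] at this
  exact Bool.noConfusion this
where
  commute_conj_iff' {g x z : G} : Commute (g * x * g⁻¹) (g * z * g⁻¹) ↔ Commute x z :=
    ⟨fun h => by simpa [mul_assoc] using h.map (MulAut.conj g⁻¹).toMonoidHom, fun h => h.map (MulAut.conj g).toMonoidHom⟩

end CfsgLib.Recog.FiM22Two
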