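import Cfsg.Agent.Lib.Recog.FiM22Two.PairOuter
import Cfsg.Agent.Lib.Recog.FiM22Two.InvForm
import Cfsg.Agent.Lib.PGroups.Extraspecial
import Cfsg.Agent.Lib.Components.CharTwoLocal
import Cfsg.Agent.Lib.ThreeTrans.LargeExtra
import Mathlib.Algebra.Group.TransferInstance

set_option autoImplicit false
set_option maxRecDepth 20000

/-!
The generalized Fitting subgroup of the centraliser of a product of two commuting members of a group of type M(22)
(owner: helper6).
-/

namespace CfsgLib.Recog.FiM22Two.PairFitting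

open Cfsg CfsgLib.ThreeTrans CfsgLib.Recog.FiM22Two.PairCent CfsgLib.Recog.FiM22Two.PointBlock
open CfsgLib.Recog.FiM22 (nbrs)
open CfsgLib.Recog.SporBound.Fi22U6 (F4)
open scoped Matrix commutatorElement

universe u

section Abstract

variable {K : Type u} [Group K] {φ : K →* P4} (Z : Subgroup K) (co : Coord φ fun x => x ∈ Z)
  (hZ : Z = Subgroup.center K) (hsq : ∀ x ∈ Z, x * x = 1) (hcs : ∀ x ∈ φ.ker, ∀ y ∈ φ.ker, ⁅x, y⁆ ∈ Z ∧ x * x ∈ Z)

/-- A representative of given coordinates. -/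
noncomputable def rep (u : M4) : ↥φ.ker := Function.surjInv co.surj (Multiplicative.ofAdd u)

theorem κ_rep (u : M4) : co.κ (rep Z co u) = Multiplicative.ofAdd u := Function.surjInv_eq co.surj _

include hZ in
theorem same_coord {x x' : ↥φ.ker} (h : co.κ x = co.κ x') :
    ∃ c : K, (∀ k, c * k = k * c) ∧ c ∈ Z ∧ (x : K) = (x' : K) * c := by
  have hc : ((x'⁻¹ * x : ↥φ.ker) : K) ∈ Z := (co.ker _).1 (by rw [map_mul, map_inv, h, inv_mul_cancel])
  refine ⟨_, fun k => ?_, hc, ?_⟩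
  · exact (Subgroup.mem_center_iff.1 (hZ ▸ hc) k).symm
  · rw [Subgroup.coe_mul, Subgroup.coe_inv, mul_inv_cancel_left]

include hZ in
theorem comm_congr {x x' y y' : ↥φ.ker} (hx : co.κ x = co.κ x') (hy : co.κ y = co.κ y') :
    ⁅(x : K), (y : K)⁆ = ⁅(x' : K), (y' : K)⁆ := by
  obtain ⟨a, ha, -, ea⟩ := same_coord Z co hZ hx
  obtain ⟨b, hb, -, eb⟩ := same_coord Z co hZ hy
  rw [ea, eb, commutatorElement_def, commutatorElement_def, mul_inv_rev, mul_inv_rev]
  calc (x' : K) * a * ((y' : K) * b) * (a⁻¹ * (x' : K)⁻¹) * (b⁻¹ * (y' : K)⁻¹)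
      = x' * (a * ((y' : K) * b)) * (a⁻¹ * (x' : K)⁻¹) * (b⁻¹ * (y' : K)⁻¹) := by group
    _ = x' * y' * (b * (x' : K)⁻¹) * (b⁻¹ * (y' : K)⁻¹) := by rw [ha]; group
    _ = _ := by rw [hb]; group

include hZ hcs in
theorem comm_mul_left (x x' y : ↥φ.ker) :
    ⁅(x : K) * x', (y : K)⁆ = ⁅(x : K), (y : K)⁆ * ⁅(x' : K), (y : K)⁆ := by
  have h := Subgroup.mem_center_iff.1 (hZ ▸ (hcs x' x'.2 y y.2).1)
  calc ⁅(x : K) * x', (y : K)⁆ = x * ⁅(x' : K), (y : K)⁆ * ((y : K) * (x : K)⁻¹ * (y : K)⁻¹) := by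
        simp only [commutatorElement_def]; group
    _ = ⁅(x' : K), (y : K)⁆ * ((x : K) * ((y : K) * (x : K)⁻¹ * (y : K)⁻¹)) := by rw [h (x : K), mul_assoc]
    _ = ⁅(x' : K), (y : K)⁆ * ⁅(x : K), (y : K)⁆ := by simp only [commutatorElement_def]; group
    _ = _ := (h _).symm

include co hZ hsq hcs in
/-- All commutators and squares of the kernel lie in one subgroup of order two. -/
theorem exists_z : ∃ z : K, z ∈ Z ∧ z ≠ 1 ∧ (∃ x ∈ φ.ker, ∃ y ∈ φ.ker, ⁅x, y⁆ = z) ∧
    (∀ x ∈ φ.ker, ∀ y ∈ φ.ker, (⁅x, y⁆ = 1 ∨ ⁅x, y⁆ = z) ∧ (x * x = 1 ∨ x * x = z)) := by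
  classical
  letI : CommGroup ↥(Subgroup.center K) :=
    { (inferInstance : Group ↥(Subgroup.center K)) with
      mul_comm := fun a b => Subtype.ext (Subgroup.mem_center_iff.1 b.2 a) }
  have hcZ : ∀ {w : K}, w ∈ Z → w ∈ Subgroup.center K := fun h => hZ ▸ h
  have hW : ∀ w : Additive ↥(Subgroup.center K), w + w = 0 := fun w => by
    apply Additive.toMul.injective
    exact Subtype.ext (hsq _ (hZ ▸ (Additive.toMul w).2))
  let F : M4 → M4 → Additive ↥(Subgroup.center K) := fun u v => Additive.ofMul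
    ⟨⁅((rep Z co u : ↥φ.ker) : K), ((rep Z co v : ↥φ.ker) : K)⁆, hZ ▸ (hcs _ (rep Z co u).2 _ (rep Z co v).2).1⟩
  have hF : ∀ (x y : ↥φ.ker) (h : ⁅(x : K), (y : K)⁆ ∈ Subgroup.center K),
      F (Multiplicative.toAdd (co.κ x)) (Multiplicative.toAdd (co.κ y)) = Additive.ofMul ⟨⁅(x : K), (y : K)⁆, h⟩ :=
    fun x y h => congrArg Additive.ofMul (Subtype.ext
      (comm_congr Z co hZ (by rw [κ_rep]; rfl) (by rw [κ_rep]; rfl)))
  have hl : ∀ a b c, F (a + b) c = F a c + F b c := fun a b c => by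
    have e : co.κ (rep Z co (a + b)) = co.κ (rep Z co a * rep Z co b) := by rw [map_mul, κ_rep, κ_rep, κ_rep]; rfl
    apply Additive.toMul.injective
    refine Subtype.ext ?_
    show ⁅((rep Z co (a + b) : ↥φ.ker) : K), ((rep Z co c : ↥φ.ker) : K)⁆ = _
    rw [comm_congr Z co hZ e rfl, Subgroup.coe_mul, comm_mul_left Z hZ hcs]
    rfl
  have halt : ∀ a, F a a = 0 := fun a => Additive.toMul.injective (Subtype.ext (by
    show ⁅((rep Z co a : ↥φ.ker) : K), ((rep Z co a : ↥φ.ker) : K)⁆ = 1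
    exact commutatorElement_self _))
  have hsymm : ∀ a b, F a b = F b a := fun a b => by
    have h : F b a = -F a b := Additive.toMul.injective (Subtype.ext (commutatorElement_inv _ _).symm)
    rw [h]; exact eq_neg_of_add_eq_zero_left (hW _)
  have hr : ∀ a b c, F a (b + c) = F a b + F a c := fun a b c => by
    rw [hsymm a (b + c), hl, hsymm b a, hsymm c a]
  have hinv : ∀ (A : ↥(Cfsg.SU 4 F4 2)) u v, F (mat4 A *ᵥ u) (mat4 A *ᵥ v) = F u v := by
    intro A u v
    obtain ⟨y, -, hy⟩ := co.act A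
    have hm : ∀ w, y * ((rep Z co w : ↥φ.ker) : K) * y⁻¹ ∈ φ.ker := fun w =>
      (inferInstance : φ.ker.Normal).conj_mem _ (rep Z co w).2 y
    have hu := hy (rep Z co u) (hm u)
    have hv := hy (rep Z co v) (hm v)
    rw [κ_rep, toAdd_ofAdd] at hu hv
    rw [← hu, ← hv, hF _ _ (hcZ (hcs _ (hm u) _ (hm v)).1)]
    refine congrArg Additive.ofMul (Subtype.ext ?_)
    show ⁅y * _ * y⁻¹, y * _ * y⁻¹⁆ = ⁅((rep Z co u : ↥φ.ker) : K), ((rep Z co v : ↥φ.ker) : K)⁆
    have hc := Subgroup.mem_center_iff.1 (hcZ (hcs _ (rep Z co u).2 _ (rep Z co v).2).1) y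
    calc _ = y * ⁅((rep Z co u : ↥φ.ker) : K), ((rep Z co v : ↥φ.ker) : K)⁆ * y⁻¹ := by
          simp only [commutatorElement_def]; group
      _ = _ := by rw [hc, mul_inv_cancel_right]
  set x₀ := rep Z co (Pi.single 0 1)
  set y₀ := rep Z co (Pi.single 0 F4.om)
  set z := ⁅(x₀ : K), (y₀ : K)⁆ with hz
  have hzZ : z ∈ Z := (hcs _ x₀.2 _ y₀.2).1
  have hz1 : z ≠ 1 := fun e => bfm_omega (by
    have h := co.form x₀ y₀ (commutatorElement_eq_one_iff_mul_comm.1 e)
    rwa [κ_rep, κ_rep] at h)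
  have hcomm : ∀ x ∈ φ.ker, ∀ y ∈ φ.ker, ⁅x, y⁆ = 1 ∨ ⁅x, y⁆ = z := by
    intro x hx y hy
    have h := alt_form F hl hr halt hW hinv (Multiplicative.toAdd (co.κ ⟨x, hx⟩)) (Multiplicative.toAdd (co.κ ⟨y, hy⟩))
    rw [hF ⟨x, hx⟩ ⟨y, hy⟩ (hZ ▸ (hcs x hx y hy).1)] at h
    split_ifs at h
    · exact Or.inl (congrArg (fun w : Additive ↥(Subgroup.center K) => ((Additive.toMul w : ↥(Subgroup.center K)) : K)) h)
    · exact Or.inr (congrArg (fun w : Additive ↥(Subgroup.center K) => ((Additive.toMul w : ↥(Subgroup.center K)) : K)) h)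
  refine ⟨z, hzZ, hz1, ⟨_, x₀.2, _, y₀.2, rfl⟩, fun x hx y hy => ⟨hcomm x hx y hy, ?_⟩⟩
  let zc : ↥(Subgroup.center K) := ⟨z, hZ ▸ hzZ⟩
  have hW2 : ∀ w : Additive (↥(Subgroup.center K) ⧸ Subgroup.zpowers zc), w + w = 0 := fun w => by
    obtain ⟨k, hk⟩ := QuotientGroup.mk_surjective (Additive.toMul w)
    apply Additive.toMul.injective
    show Additive.toMul w * Additive.toMul w = 1
    rw [← hk, ← QuotientGroup.mk_mul, show k * k = 1 from Subtype.ext (hsq _ (hZ ▸ k.2)), QuotientGroup.mk_one]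
  let q : M4 → Additive (↥(Subgroup.center K) ⧸ Subgroup.zpowers zc) := fun u => Additive.ofMul (QuotientGroup.mk
    ⟨((rep Z co u : ↥φ.ker) : K) * (rep Z co u : ↥φ.ker), hZ ▸ (hcs _ (rep Z co u).2 _ (rep Z co u).2).2⟩)
  have hq : ∀ (x : ↥φ.ker) (h : (x : K) * x ∈ Subgroup.center K),
      q (Multiplicative.toAdd (co.κ x)) = Additive.ofMul (QuotientGroup.mk ⟨(x : K) * x, h⟩) := by
    intro x h
    obtain ⟨a, ha, haZ, ea⟩ := same_coord Z co hZ
      (show co.κ (rep Z co (Multiplicative.toAdd (co.κ x))) = co.κ x by rw [κ_rep]; rfl)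
    refine congrArg Additive.ofMul (congrArg QuotientGroup.mk (Subtype.ext ?_))
    show ((rep Z co _ : ↥φ.ker) : K) * _ = _
    rw [ea, mul_assoc, ← mul_assoc a, ha (x : K), mul_assoc (x : K) a a, hsq a haZ, mul_one]
  have hqadd : ∀ a b, q (a + b) = q a + q b := by
    intro a b
    set x := rep Z co a
    set y := rep Z co b
    have e : Multiplicative.toAdd (co.κ (x * y)) = a + b := by rw [map_mul, κ_rep, κ_rep]; rfl
    rw [← e, hq (x * y) (hZ ▸ (hcs _ (x * y).2 _ (x * y).2).2)]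
    apply Additive.toMul.injective
    show (QuotientGroup.mk _ : ↥(Subgroup.center K) ⧸ Subgroup.zpowers zc) = QuotientGroup.mk _ * QuotientGroup.mk _
    rw [← QuotientGroup.mk_mul, QuotientGroup.eq]
    have hc := Subgroup.mem_center_iff.1 (hZ ▸ (hcs _ y.2 _ x.2).1)
    have key : ((x * y : ↥φ.ker) : K) * (x * y : ↥φ.ker) =
        (x : K) * x * ((y : K) * y) * ⁅(y : K), (x : K)⁆ := by
      rw [Subgroup.coe_mul]
      calc (x : K) * y * (x * y) = x * ⁅(y : K), (x : K)⁆ * (x * (y * y)) := by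
            simp only [commutatorElement_def]; group
        _ = (x : K) * x * (y * y) * ⁅(y : K), (x : K)⁆ := by
            rw [mul_assoc (x : K) _ _, ← hc ((x : K) * ((y : K) * y))]; group
    rcases hcomm _ y.2 _ x.2 with h | h
    · rw [h, mul_one] at key
      refine (congrArg (· ∈ Subgroup.zpowers zc) (inv_mul_eq_one.2 (Subtype.ext key))).mpr (one_mem _)
    · rw [h] at key
      refine Subgroup.mem_zpowers_iff.2 ⟨-1, ?_⟩
      rw [zpow_neg_one]
      refine Subtype.ext ?_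
      show z⁻¹ = (((x * y : ↥φ.ker) : K) * (x * y : ↥φ.ker))⁻¹ * ((x : K) * x * ((y : K) * y))
      rw [key, mul_inv_rev, inv_mul_cancel_right]
  have hqinv : ∀ (A : ↥(Cfsg.SU 4 F4 2)) u, q (mat4 A *ᵥ u) = q u := by
    intro A u
    obtain ⟨w, -, hw⟩ := co.act A
    have hm := (inferInstance : φ.ker.Normal).conj_mem _ (rep Z co u).2 w
    have hu := hw (rep Z co u) hm
    rw [κ_rep, toAdd_ofAdd] at hu
    rw [← hu, hq _ (hcZ (hcs _ hm _ hm).2)]
    refine congrArg Additive.ofMul (congrArg QuotientGroup.mk (Subtype.ext ?_))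
    show w * _ * w⁻¹ * (w * _ * w⁻¹) = ((rep Z co u : ↥φ.ker) : K) * (rep Z co u : ↥φ.ker)
    have hc := Subgroup.mem_center_iff.1 (hcZ (hcs _ (rep Z co u).2 _ (rep Z co u).2).2) w
    calc _ = w * (((rep Z co u : ↥φ.ker) : K) * (rep Z co u : ↥φ.ker)) * w⁻¹ := by group
      _ = _ := by rw [hc, mul_inv_cancel_right]
  have h0 := add_fun q hqadd hW2 hqinv (Multiplicative.toAdd (co.κ ⟨x, hx⟩))
  rw [hq _ (hZ ▸ (hcs x hx x hx).2)] at h0
  have h1 := (QuotientGroup.eq_one_iff _).1 (congrArg Additive.toMul h0)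
  obtain ⟨i, hi⟩ := Subgroup.mem_zpowers_iff.1 h1
  have hi' : z ^ i = x * x := by
    have := congrArg Subtype.val hi
    simpa [zc] using this
  rcases Int.even_or_odd i with ⟨m, rfl⟩ | ⟨m, rfl⟩
  · left; rw [← hi', zpow_add, ← (Commute.refl z).mul_zpow, hsq z hzZ, one_zpow]
  · right; rw [← hi', two_mul, zpow_add, zpow_add, ← (Commute.refl z).mul_zpow, hsq z hzZ, one_zpow, one_mul, zpow_one]

include co in
/-- Only central elements commute with the whole kernel. -/
theorem mem_of_comm {x : ↥φ.ker} (h : ∀ y : ↥φ.ker, Commute (x : K) y) : (x : K) ∈ Z := by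
  refine (co.ker x).1 (Multiplicative.toAdd.injective (bfm_nondeg fun v => ?_))
  have := co.form x (rep Z co v) (h _)
  rwa [κ_rep] at this

include co hsq hcs in
/-- An element centralising the kernel lies in it. -/
theorem centralizer_le_ker (hφ : Function.Surjective φ) {c : K} (hc : ∀ x ∈ φ.ker, Commute c x) : c ∈ φ.ker := by
  haveI := simple_P4
  set X := Subgroup.centralizer (φ.ker : Set K)
  haveI : (X.map φ).Normal := (inferInstance : X.Normal).map φ hφ
  rcases (inferInstance : (X.map φ).Normal).eq_bot_or_eq_top with hb | ht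
  · have hcX : c ∈ X := Subgroup.mem_centralizer_iff.2 fun x hx => (hc x hx).eq.symm
    exact MonoidHom.mem_ker.2 (Subgroup.mem_bot.1 (hb ▸ Subgroup.mem_map_of_mem φ hcX))
  exfalso
  obtain ⟨y, hy, hact⟩ := co.act dia
  obtain ⟨x, hx, hxy⟩ : φ y ∈ X.map φ := ht ▸ Subgroup.mem_top _
  have ha : x⁻¹ * y ∈ φ.ker := by rw [MonoidHom.mem_ker, map_mul, map_inv, hxy, inv_mul_cancel]
  set b := rep Z co (Pi.single 0 1)
  have hm : y * (b : K) * y⁻¹ ∈ φ.ker := (inferInstance : φ.ker.Normal).conj_mem _ b.2 y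
  let a : ↥φ.ker := ⟨x⁻¹ * y, ha⟩
  have e : (⟨y * (b : K) * y⁻¹, hm⟩ : ↥φ.ker) = a * b * a⁻¹ := Subtype.ext (by
    show y * (b : K) * y⁻¹ = x⁻¹ * y * b * (x⁻¹ * y)⁻¹
    have hcx : x⁻¹ * (y * (b : K) * y⁻¹) = y * (b : K) * y⁻¹ * x⁻¹ :=
      (Subgroup.mem_centralizer_iff.1 (inv_mem hx) _ hm).symm
    calc y * (b : K) * y⁻¹ = y * (b : K) * y⁻¹ * x⁻¹ * x := by group
      _ = x⁻¹ * (y * (b : K) * y⁻¹) * x := by rw [← hcx]
      _ = _ := by group)
  have h := hact b hm
  rw [e, map_mul co.κ, map_mul co.κ, map_inv co.κ, mul_comm (co.κ a), mul_inv_cancel_right, κ_rep, toAdd_ofAdd] at h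
  revert h
  show (Pi.single 0 1 : M4) = Matrix.diagonal ![F4.om, F4.om, F4.om', F4.om'] *ᵥ Pi.single 0 1 → False
  decide +kernel

end Abstract

/-- An index two subgroup through one element and avoiding another. -/
theorem exists_half {E : Type u} [Group E] [Finite E] {z δ : E} (hz : z * z = 1) (hδz : δ ≠ z)
    (hδ1 : δ ≠ 1) (hzc : ∀ x, z * x = x * z) (hcomm : ∀ x y : E, ⁅x, y⁆ = 1 ∨ ⁅x, y⁆ = z)
    (hpow : ∀ x : E, x * x = 1 ∨ x * x = z) :
    ∃ M : Subgroup E, z ∈ M ∧ δ ∉ M ∧ ∀ x, x ∈ M ∨ δ * x ∈ M := by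
  have h0 : δ ∉ Subgroup.zpowers z := by
    rintro ⟨i, hi⟩
    change z ^ i = δ at hi
    rcases Int.even_or_odd i with ⟨m, rfl⟩ | ⟨m, rfl⟩
    · rw [zpow_add, ← (Commute.refl z).mul_zpow, hz, one_zpow] at hi; exact hδ1 hi.symm
    · rw [two_mul, zpow_add, zpow_add, ← (Commute.refl z).mul_zpow, hz, one_zpow, one_mul, zpow_one] at hi
      exact hδz hi.symm
  obtain ⟨M, hM⟩ := (Set.toFinite {M : Subgroup E | z ∈ M ∧ δ ∉ M}).exists_maximal
    ⟨Subgroup.zpowers z, Subgroup.mem_zpowers z, h0⟩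
  obtain ⟨hzM, hδM⟩ := hM.prop
  refine ⟨M, hzM, hδM, fun x => ?_⟩
  by_cases hx : x ∈ M
  · exact Or.inl hx
  haveI : M.Normal := ⟨fun m hm g => by
    rw [show g * m * g⁻¹ = ⁅g, m⁆ * m by rw [commutatorElement_def, inv_mul_cancel_right]]
    rcases hcomm g m with h | h <;> rw [h]
    · rwa [one_mul]
    · exact mul_mem hzM hm⟩
  have hin : δ ∈ M ⊔ Subgroup.zpowers x := by
    by_contra hn
    exact hx (hM.le_of_ge (y := M ⊔ Subgroup.zpowers x) ⟨Subgroup.mem_sup_left hzM, hn⟩ le_sup_left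
      (Subgroup.mem_sup_right (Subgroup.mem_zpowers x)))
  obtain ⟨m, hm, w, ⟨i, hi⟩, e⟩ := Subgroup.mem_sup_of_normal_left.1 hin
  change x ^ i = w at hi
  have hsqM : x * x ∈ M := by
    rcases hpow x with h | h <;> rw [h]
    · exact one_mem _
    · exact hzM
  rcases Int.even_or_odd i with ⟨k, rfl⟩ | ⟨k, rfl⟩
  · refine absurd ?_ hδM
    rw [← e, ← hi, zpow_add, ← (Commute.refl x).mul_zpow]
    exact mul_mem hm (zpow_mem hsqM _)
  · right
    have hw : w = (x * x) ^ k * x := by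
      rw [← hi, zpow_add, two_mul, zpow_add, ← (Commute.refl x).mul_zpow, zpow_one]
    rw [← e, hw, show m * ((x * x) ^ k * x) * x = m * (x * x) ^ k * (x * x) by group]
    exact mul_mem (mul_mem hm (zpow_mem hsqM _)) hsqM

/-- A group of order `2 ^ 10` of this kind is two times an extraspecial group. -/
theorem split {E : Type u} [Group E] [Finite E] (hcard : Nat.card E = 2 ^ 10) {z δ : E} (hz : z * z = 1) (hz1 : z ≠ 1)
    (hδ : δ * δ = 1) (hδ1 : δ ≠ 1) (hδz : δ ≠ z) (hzc : ∀ x, z * x = x * z) (hδc : ∀ x, δ * x = x * δ)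
    (hzcom : ∃ x y : E, ⁅x, y⁆ = z) (hcomm : ∀ x y : E, ⁅x, y⁆ = 1 ∨ ⁅x, y⁆ = z)
    (hpow : ∀ x : E, x * x = 1 ∨ x * x = z)
    (hcen : ∀ x : E, (∀ y, x * y = y * x) → x = 1 ∨ x = z ∨ x = δ ∨ x = δ * z) :
    ∃ M : Subgroup E, Cfsg.IsExtraspecial 2 ↥M ∧ Nat.card ↥M = 2 ^ 9 ∧
      Nonempty (E ≃* Multiplicative (ZMod 2) × ↥M) := by
  have h2 : ∀ a : Multiplicative (ZMod 2), a = 1 ∨ a = Multiplicative.ofAdd 1 := by decide +kernel
  have h11 : (Multiplicative.ofAdd (1 : ZMod 2)) * Multiplicative.ofAdd 1 = 1 := by decide +kernel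
  have hne1 : (Multiplicative.ofAdd (1 : ZMod 2)) ≠ 1 := by decide +kernel
  haveI : Fact (Nat.Prime 2) := ⟨Nat.prime_two⟩
  obtain ⟨M, hzM, hδM, hdich⟩ := exists_half hz hδz hδ1 hzc hcomm hpow
  let ι : Multiplicative (ZMod 2) →* E := MonoidHom.mk' (fun a => if a = 1 then 1 else δ) (by
    intro a b
    rcases h2 a with rfl | rfl <;> rcases h2 b with rfl | rfl <;> simp [hδ, h11, hne1])
  let f : Multiplicative (ZMod 2) × ↥M →* E := ι.noncommCoprod M.subtype fun a m => by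
    by_cases h : a = 1
    · rw [h, map_one]; exact Commute.one_left _
    · show Commute (if a = 1 then 1 else δ) _
      rw [if_neg h]; exact hδc _
  have hf : Function.Bijective f := by
    refine ⟨(injective_iff_map_eq_one f).2 fun ⟨a, m⟩ h => ?_, fun x => ?_⟩
    · change ι a * (m : E) = 1 at h
      by_cases ha : a = 1
      · rw [ha, map_one, one_mul] at h
        exact Prod.ext ha (Subtype.ext h)
      · have e : ι a = δ := if_neg ha
        rw [e] at h
        refine absurd ?_ hδM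
        rw [eq_inv_of_mul_eq_one_left h]
        exact inv_mem m.2
    · rcases hdich x with h | h
      · exact ⟨(1, ⟨x, h⟩), by show ι 1 * x = x; rw [map_one, one_mul]⟩
      · refine ⟨(Multiplicative.ofAdd (1 : ZMod 2), ⟨δ * x, h⟩), ?_⟩
        have h1 : ι (Multiplicative.ofAdd (1 : ZMod 2)) = δ := if_neg (t := (1 : E)) hne1
        show ι (Multiplicative.ofAdd (1 : ZMod 2)) * (δ * x) = x
        rw [h1, ← mul_assoc, hδ, one_mul]
  let e := MulEquiv.ofBijective f hf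
  have hM : Nat.card ↥M = 2 ^ 9 := by
    have h := Nat.card_congr e.toEquiv
    rw [hcard, Nat.card_prod, Nat.card_congr Multiplicative.toAdd, Nat.card_zmod] at h
    omega
  have hcenM : ∀ m : ↥M, m ∈ Subgroup.center ↥M ↔ (m : E) = 1 ∨ (m : E) = z := by
    intro m
    constructor
    · intro hm
      have hall : ∀ y : E, (m : E) * y = y * m := fun y => by
        rcases hdich y with h | h
        · exact congrArg Subtype.val (Subgroup.mem_center_iff.1 hm ⟨y, h⟩).symm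
        · have h1 : (m : E) * (δ * y) = δ * y * m :=
            congrArg Subtype.val (Subgroup.mem_center_iff.1 hm ⟨_, h⟩).symm
          rw [← mul_assoc, ← hδc (m : E), mul_assoc, mul_assoc δ y] at h1
          exact mul_left_cancel h1
      rcases hcen m hall with h | h | h | h
      · exact Or.inl h
      · exact Or.inr h
      · exact absurd (h ▸ m.2) hδM
      · refine absurd ?_ hδM
        have := mul_mem m.2 hzM
        rwa [h, mul_assoc, hz, mul_one] at this
    · intro h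
      refine Subgroup.mem_center_iff.2 fun y => Subtype.ext ?_
      rcases h with h | h <;> simp only [Subgroup.coe_mul, h, mul_one, one_mul]
      exact (hzc _).symm
  refine ⟨M, ?_, hM, ⟨e.symm⟩⟩
  refine CfsgLib.PGroups.isExtraspecial_of (IsPGroup.of_card hM) ?_ ?_ ?_ ?_
  · intro hab
    obtain ⟨x, y, hxy⟩ := hzcom
    refine hz1 (hxy ▸ commutatorElement_eq_one_iff_mul_comm.2 ?_)
    obtain ⟨p, rfl⟩ := e.surjective x
    obtain ⟨q, rfl⟩ := e.surjective y
    rw [← map_mul, ← map_mul]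
    exact congrArg e (Prod.ext (mul_comm _ _) (hab.is_comm.comm _ _))
  · have hs : ((Subgroup.center ↥M : Subgroup ↥M) : Set ↥M) = {1, ⟨z, hzM⟩} := by
      ext m
      rw [SetLike.mem_coe, hcenM]
      simp only [Set.mem_insert_iff, Set.mem_singleton_iff, Subtype.ext_iff, OneMemClass.coe_one]
    rw [← SetLike.coe_sort_coe, Nat.card_coe_set_eq, hs, Set.ncard_pair]
    exact fun h => hz1 (congrArg Subtype.val h).symm
  · rw [commutator_eq_closure, Subgroup.closure_le]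
    rintro _ ⟨a, b, rfl⟩
    rw [SetLike.mem_coe, hcenM]
    rcases hcomm a b with h | h
    · exact Or.inl h
    · exact Or.inr h
  · intro m
    rw [hcenM, pow_two, Subgroup.coe_mul]
    exact hpow m

variable {G : Type u} [Group G] [Finite G] {D : Set G}

/-- The generalized Fitting subgroup, its structure and its quotient. -/
theorem exists_fitting (hD : IsThreeTranspositionGroup D) (hprim : IsPrimitiveUnderConj D) (h22 : IsOfTypeM22 G D)
    {d e : G} (hd : d ∈ D) (he : e ∈ nbrs D d) :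
    ∃ Θ : ↥(Subgroup.centralizer ({d * e} : Set G)) →* MulAut P4, Function.Surjective Θ ∧
      Cfsg.generalizedFittingSubgroup ↥(Subgroup.centralizer ({d * e} : Set G)) = Θ.ker ∧
      ∃ (E : Type) (_ : Group E) (_ : Finite E), Cfsg.IsExtraspecial 2 E ∧ Nat.card E = 2 ^ 9 ∧
        Nonempty (↥Θ.ker ≃* Multiplicative (ZMod 2) × E) := by
  classical
  haveI : Fact (Nat.Prime 2) := ⟨Nat.prime_two⟩
  haveI := simple_P4
  set K := Subgroup.centralizer ({d, e} : Set G) with hK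
  set C := Subgroup.centralizer ({d * e} : Set G) with hCdef
  set V := Subgroup.closure ({d, e} : Set G) with hV
  obtain ⟨φ, Θ, hφ, hΘ, hcard, hcs, hcen, hVE, hKC, hidx, hker, ⟨co⟩⟩ :=
    PairOuter.exists_local hD hprim h22 hd he
  have hd2 : d * d = 1 := mul_self hD.1 hd
  have he2 : e * e = 1 := mul_self hD.1 he.1
  have hVel : ∀ v ∈ V, ∃ a b : G, (a = 1 ∨ a = d) ∧ (b = 1 ∨ b = e) ∧ v = a * b := by
    intro v hv
    induction hv using Subgroup.closure_induction with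
    | mem v hv =>
      rcases hv with rfl | rfl
      · exact ⟨v, 1, Or.inr rfl, Or.inl rfl, (mul_one v).symm⟩
      · exact ⟨1, v, Or.inl rfl, Or.inr rfl, (one_mul v).symm⟩
    | one => exact ⟨1, 1, Or.inl rfl, Or.inl rfl, (one_mul 1).symm⟩
    | mul x y _ _ hx hy =>
      obtain ⟨a, b, ha, hb, rfl⟩ := hx
      obtain ⟨a', b', ha', hb', rfl⟩ := hy
      have hc : b * a' = a' * b := by
        rcases hb with rfl | rfl <;> rcases ha' with rfl | rfl <;> simp [he.2.2.eq]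
      refine ⟨a * a', b * b', ?_, ?_, ?_⟩
      · rcases ha with rfl | rfl <;> rcases ha' with rfl | rfl <;> simp [hd2]
      · rcases hb with rfl | rfl <;> rcases hb' with rfl | rfl <;> simp [he2]
      · rw [mul_assoc, ← mul_assoc b, hc, mul_assoc a', ← mul_assoc]
    | inv x _ hx =>
      obtain ⟨a, b, ha, hb, rfl⟩ := hx
      refine ⟨a, b, ha, hb, inv_eq_of_mul_eq_one_right ?_⟩
      rcases ha with rfl | rfl <;> rcases hb with rfl | rfl
      · simp
      · simpa using he2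
      · simpa using hd2
      · rw [mul_assoc, ← mul_assoc b, ← he.2.2.eq, mul_assoc, he2, mul_one, hd2]
  let Z : Subgroup ↥K := V.subgroupOf K
  have hZ : Z = Subgroup.center ↥K := by
    ext x
    constructor
    · intro hx
      have h : (x : G) ∈ (Subgroup.center ↥K).map K.subtype := hcen ▸ (Subgroup.mem_subgroupOf.1 hx)
      obtain ⟨w, hw, hwx⟩ := h
      rw [← (Subtype.ext hwx : w = x)]; exact hw
    · intro hx
      rw [Subgroup.mem_subgroupOf]
      show (x : G) ∈ Subgroup.closure ({d, e} : Set G)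
      rw [← hcen]
      exact Subgroup.mem_map_of_mem K.subtype hx
  have hsq : ∀ x ∈ Z, x * x = 1 := fun x hx => Subtype.ext (by
    obtain ⟨a, b, ha, hb, hab⟩ := hVel _ (Subgroup.mem_subgroupOf.1 hx)
    show (x : G) * x = 1
    rw [hab]
    rcases ha with rfl | rfl <;> rcases hb with rfl | rfl
    · simp
    · simpa using he2
    · simpa using hd2
    · rw [mul_assoc, ← mul_assoc b, ← he.2.2.eq, mul_assoc, he2, mul_one, hd2])
  have hcs' : ∀ x ∈ φ.ker, ∀ y ∈ φ.ker, ⁅x, y⁆ ∈ Z ∧ x * x ∈ Z := fun x hx y hy =>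
    ⟨Subgroup.mem_subgroupOf.2 (by rw [commutatorElement_def]; exact (hcs x hx y hy).1),
      Subgroup.mem_subgroupOf.2 (by have := (hcs x hx y hy).2; rwa [pow_two] at this)⟩
  let co' : Coord φ fun x => x ∈ Z :=
    ⟨co.κ, co.surj, fun x => (co.ker x).trans Subgroup.mem_subgroupOf.symm, co.act, co.form⟩
  obtain ⟨z, hzZ, hz1, ⟨x₀, hx₀, y₀, hy₀, hxy⟩, hall⟩ := exists_z Z co' hZ hsq hcs'
  obtain ⟨B⟩ := FiM22.exists_base_at hD hprim h22 hd
  obtain ⟨g, hga, hge⟩ := B.exists_swap he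
  have hgC : g ∈ C := by
    rw [hCdef, Subgroup.mem_centralizer_singleton_iff]
    calc g * (d * e) = (g * d * g⁻¹) * (g * e * g⁻¹) * g := by group
      _ = d * e * g := by rw [hga, hge, he.2.2.eq]
  have hinvE : ∀ x : ↥K, x ∈ φ.ker → ∃ x' ∈ φ.ker, (x' : G) = g * (x : G) * g⁻¹ := by
    intro x hx
    have h := (inferInstance : Θ.ker.Normal).conj_mem ⟨x, hKC x.2⟩
      (by rw [hker, Subgroup.mem_subgroupOf]; exact ⟨x, hx, rfl⟩) ⟨g, hgC⟩
    rw [hker, Subgroup.mem_subgroupOf] at h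
    obtain ⟨x', hx', e'⟩ := h
    exact ⟨x', hx', e'⟩
  have hzde : (z : G) = d * e := by
    obtain ⟨a, ha, ea⟩ := hinvE x₀ hx₀
    obtain ⟨b, hb, eb⟩ := hinvE y₀ hy₀
    have hgz : ((⁅a, b⁆ : ↥K) : G) = g * (z : G) * g⁻¹ := by
      rw [← hxy]; simp only [commutatorElement_def, Subgroup.coe_mul, Subgroup.coe_inv, ea, eb]; group
    have hz1' : (z : G) ≠ 1 := fun h => hz1 (Subtype.ext h)
    have hor : g * (z : G) * g⁻¹ = 1 ∨ g * (z : G) * g⁻¹ = (z : G) := by
      rcases (hall a ha b hb).1 with h | h <;> rw [h] at hgz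
      · exact Or.inl hgz.symm
      · exact Or.inr hgz.symm
    have hfix : g * (z : G) * g⁻¹ = (z : G) := hor.resolve_left fun h => hz1' (conj_eq_one_iff.1 h)
    obtain ⟨p, q, hp, hq, hpq⟩ := hVel _ (Subgroup.mem_subgroupOf.1 hzZ)
    rcases hp with rfl | rfl <;> rcases hq with rfl | rfl
    · exact absurd (by rw [hpq, mul_one]) hz1'
    · rw [hpq, one_mul, hge] at hfix; exact absurd hfix.symm he.2.1
    · rw [hpq, mul_one, hga] at hfix; exact absurd hfix he.2.1
    · exact hpq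
  have hdK : d ∈ K := PairOuter.mem_pair.2 ⟨Commute.refl _, he.2.2⟩
  have hdE : (⟨d, hdK⟩ : ↥K) ∈ φ.ker := by
    obtain ⟨x, hx, hxd⟩ := hVE (Subgroup.subset_closure (Set.mem_insert d _))
    rwa [← (Subtype.ext hxd : x = ⟨d, hdK⟩)]
  have hzE : z ∈ φ.ker := hxy ▸ (Subgroup.commutator_le_self φ.ker (Subgroup.commutator_mem_commutator hx₀ hy₀))
  let δ : ↥φ.ker := ⟨⟨d, hdK⟩, hdE⟩
  let ζ : ↥φ.ker := ⟨z, hzE⟩
  have hδval : ((δ : ↥K) : G) = d := rfl
  have hd1 : d ≠ 1 := fun h => by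
    have := hD.1.1 d hd
    rw [h, orderOf_one] at this
    norm_num at this
  have hcenK : ∀ {v : ↥K}, v ∈ Z → ∀ k, v * k = k * v := fun hv k => (Subgroup.mem_center_iff.1 (hZ ▸ hv) k).symm
  have hdZ : (⟨d, hdK⟩ : ↥K) ∈ Z := Subgroup.mem_subgroupOf.2 (Subgroup.subset_closure (Set.mem_insert d _))
  obtain ⟨M, hMx, hMc, ⟨eM⟩⟩ := split (E := ↥φ.ker) (z := ζ) (δ := δ) (hcard.trans (by norm_num))
    (Subtype.ext (hsq z hzZ)) (fun h => hz1 (congrArg Subtype.val h)) (Subtype.ext (hsq _ hdZ))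
    (fun h => hd1 (congrArg (fun x : ↥φ.ker => ((x : ↥K) : G)) h))
    (fun h => by
      have h' : d = d * e := (congrArg (fun x : ↥φ.ker => ((x : ↥K) : G)) h).trans hzde
      have he1 : e = 1 := mul_left_cancel (h'.symm.trans (mul_one d).symm)
      have := hD.1.1 e he.1
      rw [he1, orderOf_one] at this
      norm_num at this)
    (fun x => Subtype.ext (hcenK hzZ _)) (fun x => Subtype.ext (hcenK hdZ _))
    ⟨⟨x₀, hx₀⟩, ⟨y₀, hy₀⟩, Subtype.ext hxy⟩
    (fun x y => (hall x x.2 y y.2).1.imp (fun h => Subtype.ext h) fun h => Subtype.ext h)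
    (fun x => (hall x x.2 x x.2).2.imp (fun h => Subtype.ext h) fun h => Subtype.ext h)
    (fun x hx => by
      have hxZ : (x : ↥K) ∈ Z := mem_of_comm Z co' (x := x) fun y => congrArg Subtype.val (hx y)
      obtain ⟨p, q, hp, hq, hpq⟩ := hVel _ (Subgroup.mem_subgroupOf.1 hxZ)
      have key : ∀ w : ↥φ.ker, ((w : ↥K) : G) = p * q → x = w := fun w hw =>
        Subtype.ext (Subtype.ext (hpq.trans hw.symm))
      rcases hp with rfl | rfl <;> rcases hq with rfl | rfl
      · exact Or.inl (key 1 (by simp))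
      · refine Or.inr (Or.inr (Or.inr (key (δ * ζ) ?_)))
        show d * (z : G) = 1 * q
        rw [hzde, ← mul_assoc, hd2]
      · exact Or.inr (Or.inr (Or.inl (key δ (by rw [mul_one]))))
      · exact Or.inr (Or.inl (key ζ (by show (z : G) = _; rw [hzde]))))
  have hE' : Θ.ker = (φ.ker.map K.subtype).subgroupOf C := hker
  have heq : Nonempty (↥Θ.ker ≃* ↥φ.ker) :=
    ⟨(MulEquiv.subgroupCongr hE').trans ((Subgroup.subgroupOfEquivOfLe ((Subgroup.map_subtype_le _).trans hKC)).trans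
      (φ.ker.equivMapOfInjective K.subtype Subtype.val_injective).symm)⟩
  obtain ⟨eK⟩ := heq
  haveI : Fintype ↥M := Fintype.ofFinite _
  obtain ⟨T, hTg, hTf, ⟨eT'⟩⟩ := Finite.exists_type_univ_nonempty_mulEquiv.{u, 0} ↥M
  let eT := eT'.symm
  haveI := hTf
  refine ⟨Θ, hΘ, ?_, T, hTg, inferInstance, CfsgLib.ThreeTrans.isExtraspecial_congr hMx eT.symm,
    (Nat.card_congr eT.toEquiv).trans hMc,
    ⟨eK.trans (eM.trans ((MulEquiv.refl _).prodCongr eT.symm))⟩⟩
  have hEp : IsPGroup 2 ↥Θ.ker := IsPGroup.of_card (n := 10) ((Nat.card_congr eK.toEquiv).trans hcard)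
  have hle : Θ.ker ≤ Cfsg.pCore 2 ↥C := CfsgLib.Core.le_pCore hEp
  have hge : Cfsg.pCore 2 ↥C ≤ Θ.ker := by
    set N := (Cfsg.pCore 2 ↥C).map Θ with hN
    haveI : N.Normal := (inferInstance : (Cfsg.pCore 2 ↥C).Normal).map Θ hΘ
    have hNp : IsPGroup 2 ↥N := (CfsgLib.Core.isPGroup_pCore 2 ↥C).map Θ
    intro c hc
    rw [MonoidHom.mem_ker]
    haveI : (N.comap (MulAut.conj : P4 →* MulAut P4)).Normal := (inferInstance : N.Normal).comap _
    rcases (inferInstance : (N.comap (MulAut.conj : P4 →* MulAut P4)).Normal).eq_bot_or_eq_top with hb | ht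
    · refine MulEquiv.ext fun x => ?_
      set β := Θ c
      have hβ : β ∈ N := ⟨c, hc, rfl⟩
      have hmem : β x * x⁻¹ ∈ N.comap (MulAut.conj : P4 →* MulAut P4) := by
        rw [Subgroup.mem_comap, map_mul, map_inv,
          show MulAut.conj (β x) = β * MulAut.conj x * β⁻¹ from MulEquiv.ext fun y => by
            simp [MulAut.mul_apply, map_mul, map_inv], mul_assoc β, mul_assoc]
        exact mul_mem hβ (by simpa [mul_assoc] using ‹N.Normal›.conj_mem _ (inv_mem hβ) (MulAut.conj x))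
      rw [hb, Subgroup.mem_bot] at hmem
      exact mul_inv_eq_one.1 hmem
    · exfalso
      obtain ⟨n, hn⟩ := IsPGroup.iff_card.1 hNp
      have hinj : Function.Injective (MulAut.conj : P4 →* MulAut P4) :=
        (injective_iff_map_eq_one _).2 fun a ha => eq_one_of_central fun y => by
          have := DFunLike.congr_fun ha y
          rwa [MulAut.conj_apply, MulAut.one_apply, mul_inv_eq_iff_eq_mul] at this
      have h1 : Nat.card P4 ∣ Nat.card N := Subgroup.card_dvd_of_injective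
        ((MulAut.conj : P4 →* MulAut P4).codRestrict N fun x => Subgroup.mem_comap.1 (ht ▸ Subgroup.mem_top x))
        fun a b h => hinj (congrArg Subtype.val h)
      rw [card_P4, hn] at h1
      have h5 : (5 : ℕ) ∣ 2 ^ n := dvd_trans (by norm_num) h1
      exact absurd ((Nat.prime_five).dvd_of_dvd_pow h5) (by norm_num)
  have hcore : Cfsg.pCore 2 ↥C = Θ.ker := le_antisymm hge hle
  rw [CfsgLib.Components.gFitting_eq_pCore_of_charP (p := 2) ?_, hcore]
  rw [hcore]
  intro c hc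
  rw [hker, Subgroup.mem_subgroupOf]
  have hcd : ∀ x : ↥K, x ∈ φ.ker → (x : G) * c = c * (x : G) := fun x hx =>
    congrArg Subtype.val (Subgroup.mem_centralizer_iff.1 hc ⟨x, hKC x.2⟩
      (by rw [SetLike.mem_coe, hker, Subgroup.mem_subgroupOf]; exact ⟨x, hx, rfl⟩))
  have h1 : d * (c : G) = c * d := hcd _ hdE
  have hfixd : (c : G) * d * (c : G)⁻¹ = d := by rw [← h1, mul_inv_cancel_right]
  rcases PairOuter.cent_prod hD h22 hd he c.2 with ⟨u1, u2⟩ | ⟨u1, u2⟩
  · let cK : ↥K := ⟨c, PairOuter.mem_pair.2 ⟨mul_inv_eq_iff_eq_mul.1 u1, mul_inv_eq_iff_eq_mul.1 u2⟩⟩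
    exact ⟨cK, centralizer_le_ker Z co' hsq hcs' hφ fun x hx => Subtype.ext (hcd x hx).symm, rfl⟩
  · exact absurd (hfixd.symm.trans u1).symm he.2.1

end CfsgLib.Recog.FiM22Two.PairFitting
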