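import Cfsg.Agent.Lib.Recog.FiM22Two.PairSignData
import Cfsg.Agent.Lib.Recog.FiM22Two.PairChecks
import Mathlib.GroupTheory.Perm.Sign

set_option autoImplicit false
set_option maxRecDepth 20000

/-!
An element exchanging a commuting pair of transpositions of Fi22 permutes the 45 patterns of the transpositions
commuting with both oddly (owner: helper6).
-/

namespace CfsgLib.Recog.FiM22Two.PairSign

open Cfsg CfsgLib.ThreeTrans.CosetIndex CfsgLib.Recog.SporBound CfsgLib.Recog.SporBound.Fi22Aut
open CfsgLib.Recog.SporBound.Fi22Group (a act)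
open CfsgLib.Recog.SporBound.Fi22U6 (origin)

local notation "G" => Cfsg.Spor.Fi22

/-- The mask of a list. -/
def maskL : List ℕ → ℕ
  | [] => 0
  | r :: L => Nat.lor (maskL L) (Nat.shiftLeft 1 r)

/-- The pattern of a row on the listed rows. -/
noncomputable def patB (w : ℕ) : List ℕ → ℕ
  | [] => 0
  | s :: L => Nat.add (cond (comB w s) 1 0) (Nat.mul 2 (patB w L))

/-- The row moved by the exchanging element. -/
noncomputable def img (r : ℕ) : ℕ := FiHat3510.data.trace (FiHat3510.data.trace r (pal 13)) (pal 1)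

theorem rows_ok : ((List.range 3510).all fun r =>
    Bool.not (xor ((maskL wRows).testBit r) (!Nat.beq r 0 && !Nat.beq r 12 && comB r 0 && comB r 12))) = true := by
  decide +kernel

theorem pat_ok : ((List.range 180).all fun k =>
    Nat.beq (patB (wRows.getD k 0) wRows) (pats.getD (k / 4) 0)) = true ∧ pats.Nodup ∧ pats.length = 45 := by
  decide +kernel

theorem img_ok : (Nat.beq (img 0) 12 && Nat.beq (img 12) 0 &&
    (List.range 45).all fun i => ((wRows.drop (4 * piL.getD i 0)).take 4).contains (img (wRows.getD (4 * i) 0))) = true ∧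
    wRows.length = 180 ∧ wRows.all (fun r => Nat.blt r 3510) = true := by
  decide +kernel

/-- The permutation of the patterns. -/
def piP : Equiv.Perm (Fin 45) :=
  (swL.map fun p => Equiv.swap (Fin.ofNat 45 p.1) (Fin.ofNat 45 p.2)).prod

theorem piP_sign : Equiv.Perm.sign piP = -1 := by
  rw [piP, Equiv.Perm.sign_prod_list_swap]
  · rw [List.length_map]; decide +kernel
  · intro g hg
    obtain ⟨p, hp, rfl⟩ := List.mem_map.1 hg
    refine ⟨_, _, ?_, rfl⟩
    exact (show ∀ p ∈ swL, Fin.ofNat 45 p.1 ≠ Fin.ofNat 45 p.2 by decide +kernel) p hp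

theorem piP_val : ∀ i : Fin 45, (piP i : ℕ) = piL.getD i 0 := by decide +kernel

theorem maskL_spec : ∀ (L : List ℕ) (p : ℕ), (maskL L).testBit p = true ↔ p ∈ L
  | [], p => by simp [maskL]
  | r :: L, p => by
    show (maskL L ||| 1 <<< r).testBit p = true ↔ _
    rw [Nat.testBit_or, Nat.one_shiftLeft, Nat.testBit_two_pow, Bool.or_eq_true, decide_eq_true_eq, maskL_spec L p,
      List.mem_cons]
    exact ⟨fun h => h.symm.imp_left Eq.symm, fun h => h.symm.imp_right Eq.symm⟩

theorem patB_inj (w w' : ℕ) : ∀ L : List ℕ, patB w L = patB w' L ↔ ∀ s ∈ L, comB w s = comB w' s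
  | [] => by simp [patB]
  | s :: L => by
    show cond (comB w s) 1 0 + 2 * patB w L = cond (comB w' s) 1 0 + 2 * patB w' L ↔ _
    rw [List.forall_mem_cons, ← patB_inj w w' L]
    constructor
    · intro h
      cases h1 : comB w s <;> cases h2 : comB w' s <;> simp only [h1, h2, cond_true, cond_false] at h <;>
        first | exact ⟨rfl, by omega⟩ | omega
    · rintro ⟨h1, h2⟩; rw [h1, h2]

attribute [irreducible] patB

/-- The rows commuting with both. -/
def InW (r : Row) : Prop := T r ≠ T origin ∧ T r ≠ T mate ∧ Commute (T r) (T origin) ∧ Commute (T r) (T mate)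

theorem mem_wRows (r : Row) : (r : ℕ) ∈ wRows ↔ InW r := by
  have h := List.all_eq_true.1 rows_ok r (List.mem_range.2 r.2)
  rw [Bool.not_eq_true', bne_eq_false_iff_eq] at h
  rw [← maskL_spec, h]
  simp only [Bool.and_eq_true, Bool.not_eq_true', InW]
  have e0 : ((r : ℕ).beq 0 = false) ↔ T r ≠ T origin := by
    rw [Bool.eq_false_iff, ne_eq, Nat.beq_eq, ← origin_val, ← Fin.ext_iff]
    exact not_congr ⟨fun e => e ▸ rfl, fun e => T_inj e⟩
  have e12 : ((r : ℕ).beq 12 = false) ↔ T r ≠ T mate := by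
    rw [Bool.eq_false_iff, ne_eq, Nat.beq_eq, show (12 : ℕ) = (mate : ℕ) from rfl, ← Fin.ext_iff]
    exact not_congr ⟨fun e => e ▸ rfl, fun e => T_inj e⟩
  rw [e0, e12, show comB r 0 = comB r origin from rfl, show comB r 12 = comB r mate from rfl, row_iff, row_iff,
    and_assoc, and_assoc]

/-- The same pattern. -/
def SamePat (x y : G) : Prop := ∀ s : Row, InW s → (Commute x (T s) ↔ Commute y (T s))

theorem samePat_iff (r r' : Row) : SamePat (T r) (T r') ↔ patB r wRows = patB r' wRows := by
  rw [patB_inj]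
  constructor
  · intro h s hs
    let s' : Row := ⟨s, show s < 3510 by simpa using List.all_eq_true.1 img_ok.2.2 s hs⟩
    exact Bool.eq_iff_iff.2 ((row_iff r s').trans ((h s' ((mem_wRows s').1 hs)).trans (row_iff r' s').symm))
  · intro h s hs
    rw [← row_iff, ← row_iff, h s ((mem_wRows s).2 hs)]

/-- The row of a listed position. -/
noncomputable def rowAt (k : Fin 180) : Row :=
  ⟨wRows.getD k 0, show wRows.getD k 0 < 3510 by
    have hk : (k : ℕ) < wRows.length := by rw [img_ok.2.1]; exact k.2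
    rw [List.getD_eq_getElem _ _ hk]
    simpa using List.all_eq_true.1 img_ok.2.2 _ (List.getElem_mem hk)⟩

theorem rowAt_mem (k : Fin 180) : InW (rowAt k) := (mem_wRows _).1 (by
  have hk : (k : ℕ) < wRows.length := by rw [img_ok.2.1]; exact k.2
  show wRows.getD k 0 ∈ wRows
  rw [List.getD_eq_getElem _ _ hk]
  exact List.getElem_mem hk)

theorem patB_at (k : Fin 180) : patB (rowAt k) wRows = pats.getD ((k : ℕ) / 4) 0 :=
  Nat.eq_of_beq_eq_true (List.all_eq_true.1 pat_ok.1 k (List.mem_range.2 k.2))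

/-- A representative of a class. -/
noncomputable def rep (i : Fin 45) : Row := rowAt ⟨4 * i, by omega⟩

theorem patB_rep (i : Fin 45) : patB (rep i) wRows = pats.getD i 0 := by
  rw [rep, patB_at]; congr 1; show 4 * (i : ℕ) / 4 = i; omega

/-- The exchanging element. -/
noncomputable def qsw : G := T ⟨1, by decide⟩ * T ⟨13, by decide⟩

theorem img_eq (r : Row) : img r = ((act qsw r : Row) : ℕ) := by
  unfold img qsw
  rw [trace_pal ⟨13, by decide⟩ r, trace_pal ⟨1, by decide⟩ _, map_mul, Equiv.Perm.mul_apply]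

/-- The certificate. -/
theorem cert : Equiv.Perm.sign piP = -1 ∧ qsw * T origin * qsw⁻¹ = T mate ∧ qsw * T mate * qsw⁻¹ = T origin ∧
    (∀ i, InW (rep i)) ∧ (∀ w, InW w → ∃ i, SamePat (T w) (T (rep i))) ∧
    (∀ i j, SamePat (T (rep i)) (T (rep j)) → i = j) ∧
    (∀ i, SamePat (qsw * T (rep i) * qsw⁻¹) (T (rep (piP i)))) := by
  obtain ⟨hi, hlen, hlt⟩ := img_ok
  simp only [Bool.and_eq_true, List.all_eq_true, List.mem_range, List.contains_iff_mem, Nat.beq_eq] at hi
  obtain ⟨⟨h0, h12⟩, hcls⟩ := hi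
  refine ⟨piP_sign, ?_, ?_, fun i => rowAt_mem _, ?_, ?_, ?_⟩
  · exact (T_equiv qsw origin).symm.trans (congrArg T (Fin.ext ((img_eq origin).symm.trans h0)))
  · exact (T_equiv qsw mate).symm.trans (congrArg T (Fin.ext ((img_eq mate).symm.trans h12)))
  · intro w hw
    obtain ⟨k, hk, e⟩ := List.getElem_of_mem ((mem_wRows w).2 hw)
    have hk' : k < 180 := hlen ▸ hk
    have ew : rowAt ⟨k, hk'⟩ = w := Fin.ext (by show wRows.getD k 0 = _; rw [List.getD_eq_getElem _ _ hk]; exact e)
    refine ⟨⟨k / 4, by omega⟩, (samePat_iff _ _).2 ?_⟩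
    rw [patB_rep, ← ew, patB_at]
  · intro i j h
    rw [samePat_iff, patB_rep, patB_rep] at h
    have hlp := pat_ok.2.2
    refine Fin.ext ((List.Nodup.getElem_inj_iff pat_ok.2.1 (hi := by omega) (hj := by omega)).1 ?_)
    rwa [← List.getD_eq_getElem _ 0, ← List.getD_eq_getElem _ 0]
  · intro i
    rw [← T_equiv, samePat_iff, patB_rep]
    have hm := hcls i i.2
    rw [show wRows.getD (4 * (i : ℕ)) 0 = ((rep i : Row) : ℕ) from rfl, img_eq, ← piP_val] at hm
    obtain ⟨k, hk, e⟩ := List.getElem_of_mem hm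
    rw [List.getElem_take, List.getElem_drop] at e
    have hk4 : k < 4 := lt_of_lt_of_le hk (List.length_take_le _ _)
    have hb : 4 * (piP i : ℕ) + k < 180 := by omega
    have ew : rowAt ⟨4 * (piP i : ℕ) + k, hb⟩ = act qsw (rep i) := Fin.ext (by
      show wRows.getD _ 0 = _; rw [List.getD_eq_getElem _ _ (by omega)]; exact e)
    refine (congrArg (fun r : Row => patB r wRows) ew.symm).trans ((patB_at _).trans (congrArg (fun k => pats.getD k 0) ?_))
    show (4 * (piP i : ℕ) + k) / 4 = _
    omega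

end CfsgLib.Recog.FiM22Two.PairSign
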