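import Cfsg.Agent.Lib.Recog.FiM22Two.PairCent
import Cfsg.Agent.Lib.Recog.FiM22Two.PairSign
import Cfsg.Agent.Lib.Recog.FiM22.Factor.Lists
import Cfsg.Agent.Lib.Recog.FiM22.Factor.Top
import Cfsg.Agent.Lib.Known.AutPSU.Out

set_option autoImplicit false
set_option maxRecDepth 20000

/-!
The centraliser of a product of two commuting members of a group of type M(22) induces the full automorphism group of
PSU(4, 2) on its section (owner: helper6).
-/

namespace CfsgLib.Recog.FiM22Two.PairOuter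

open Cfsg CfsgLib.ThreeTrans CfsgLib.Recog.FiM22Two.PairCent CfsgLib.Recog.SporBound
open CfsgLib.Recog.FiM22.Factor (ComList same_or_disjoint m22_noRel)
open CfsgLib.Recog.FiM22 (nbrs)
open CfsgLib.Recog.SporBound.Fi22Aut (T T_act T_inj Row)
open CfsgLib.Recog.SporBound.Fi22U6 (origin F4)

universe u

/-- An action on a group descends to a quotient. -/
theorem exists_descend {C K P : Type*} [Group C] [Group K] [Group P] (act : C →* MulAut K) (φ : K →* P)
    (hφ : Function.Surjective φ) (hk : ∀ c x, φ x = 1 → φ (act c x) = 1) :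
    ∃ Θ : C →* MulAut P, ∀ c x, Θ c (φ x) = φ (act c x) := by
  let m : C → (P →* P) := fun c =>
    MonoidHom.liftOfSurjective φ hφ ⟨φ.comp (act c).toMonoidHom, fun x hx => hk c x hx⟩
  have hm : ∀ c x, m c (φ x) = φ (act c x) := fun c x =>
    MonoidHom.liftOfRightInverse_comp_apply _ _ (Function.rightInverse_surjInv hφ) _ x
  have hmul : ∀ c c' z, m (c * c') z = m c (m c' z) := fun c c' z => by
    obtain ⟨x, rfl⟩ := hφ z
    rw [hm, hm, hm, map_mul, MulAut.mul_apply]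
  have hone : ∀ z, m 1 z = z := fun z => by
    obtain ⟨x, rfl⟩ := hφ z
    rw [hm, map_one, MulAut.one_apply]
  let Θ : C → MulAut P := fun c => (m c).toMulEquiv (m c⁻¹)
    (MonoidHom.ext fun z => by show m c⁻¹ (m c z) = z; rw [← hmul, inv_mul_cancel, hone])
    (MonoidHom.ext fun z => by show m c (m c⁻¹ z) = z; rw [← hmul, mul_inv_cancel, hone])
  exact ⟨MonoidHom.mk' Θ fun c c' => MulEquiv.ext fun z => hmul c c' z, hm⟩

/-- The automorphism group of PSU(4, 2) has order at most 51840. -/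
theorem card_aut_le : Nat.card (MulAut P4) ≤ 51840 := by
  haveI : Fact (Nat.Prime 2) := ⟨Nat.prime_two⟩
  obtain ⟨ψ, hψ, -, hk⟩ := CfsgLib.Known.AutPSU.exists_out (n := 4) (F := F4) (q := 2) (p := 2) (f := 1) F4.card
    (by norm_num) (by norm_num) le_rfl rfl
  have hout : Nat.card (Cfsg.Out P4) = 2 := by
    rw [ψ.ker.card_eq_card_quotient_mul_card_subgroup,
      Nat.card_congr (QuotientGroup.quotientKerEquivOfSurjective ψ hψ).toEquiv, hk,
      Nat.card_congr Multiplicative.toAdd, Nat.card_zmod]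
    decide
  rw [(Cfsg.Inn P4).card_eq_card_quotient_mul_card_subgroup,
    show Nat.card (MulAut P4 ⧸ Cfsg.Inn P4) = 2 from hout]
  have : Nat.card ↥(Cfsg.Inn P4) ≤ Nat.card P4 :=
    Nat.card_le_card_of_surjective (MulAut.conj : P4 →* MulAut P4).rangeRestrict
      (MulAut.conj : P4 →* MulAut P4).rangeRestrict_surjective
  rw [card_P4] at this
  omega

variable {G : Type u} [Group G] [Finite G] {D : Set G}

theorem mem_pair {d e x : G} :
    x ∈ Subgroup.centralizer ({d, e} : Set G) ↔ Commute x d ∧ Commute x e := by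
  rw [Subgroup.mem_centralizer_iff]
  simp only [Set.mem_insert_iff, Set.mem_singleton_iff, forall_eq_or_imp, forall_eq]
  exact ⟨fun h => ⟨h.1.symm, h.2.symm⟩, fun h => ⟨h.1.symm, h.2.symm⟩⟩

/-- The centraliser of the product fixes or exchanges the two. -/
theorem cent_prod (hD : IsThreeTranspositionGroup D) (h22 : IsOfTypeM22 G D)
    {d e : G} (hd : d ∈ D) (he : e ∈ nbrs D d) {c : G} (hc : c ∈ Subgroup.centralizer ({d * e} : Set G)) :
    (c * d * c⁻¹ = d ∧ c * e * c⁻¹ = e) ∨ (c * d * c⁻¹ = e ∧ c * e * c⁻¹ = d) := by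
  have hcm : ∀ x y : G, x ∈ D → y ∈ D → x ≠ y → Commute x y → ComList D [x, y] := fun x y hx hy hne hxy => by
    refine ⟨by simpa using hne, ?_, ?_⟩
    · intro z hz
      simp only [List.mem_cons, List.not_mem_nil, or_false] at hz
      rcases hz with rfl | rfl
      · exact hx
      · exact hy
    · intro z hz w hw
      simp only [List.mem_cons, List.not_mem_nil, or_false] at hz hw
      rcases hz with rfl | rfl <;> rcases hw with rfl | rfl
      exacts [Commute.refl _, hxy, hxy.symm, Commute.refl _]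
  have hne : c * d * c⁻¹ ≠ c * e * c⁻¹ := fun h => he.2.1 (mul_left_cancel (mul_right_cancel h)).symm
  rcases same_or_disjoint (m := 2) hD.1 (m22_noRel hD h22)
      (hcm _ _ (hD.2.1 c d hd) (hD.2.1 c e he.1) hne (commute_conj_iff.2 he.2.2))
      (hcm d e hd he.1 he.2.1.symm he.2.2) rfl rfl (by norm_num) (by
        simp only [List.prod_cons, List.prod_nil, mul_one]
        rw [show c * d * c⁻¹ * (c * e * c⁻¹) = c * (d * e) * c⁻¹ by group,
          Subgroup.mem_centralizer_singleton_iff.1 hc, mul_inv_cancel_right]) with h | ⟨h, -⟩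
  · have h1 := (h (c * d * c⁻¹)).1 (by simp)
    have h2 := (h (c * e * c⁻¹)).1 (by simp)
    simp only [List.mem_cons, List.not_mem_nil, or_false] at h1 h2
    rcases h1 with h1 | h1 <;> rcases h2 with h2 | h2
    · exact absurd (h1.trans h2.symm) hne
    · exact Or.inl ⟨h1, h2⟩
    · exact Or.inr ⟨h1, h2⟩
    · exact absurd (h1.trans h2.symm) hne
  · omega

/-- No element exchanging the pair centralises the section. -/
theorem no_outer (hD : IsThreeTranspositionGroup D) (hprim : IsPrimitiveUnderConj D) (h22 : IsOfTypeM22 G D)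
    {d e : G} (hd : d ∈ D) (he : e ∈ nbrs D d)
    (K : Subgroup G) (hK : K = Subgroup.centralizer ({d, e} : Set G))
    (φ : ↥K →* P4) (hφ : Function.Surjective φ)
    (hcard : Nat.card φ.ker = 1024) (c : G) (h1 : c * d * c⁻¹ = e) (h2 : c * e * c⁻¹ = d)
    (h3 : ∀ (x : G) (hx : x ∈ K) (hx' : c * x * c⁻¹ ∈ K), φ ⟨c * x * c⁻¹, hx'⟩ = φ ⟨x, hx⟩) : False := by
  classical
  obtain ⟨e0, hE⟩ := FiM22.identify_of_type hD hprim h22
  obtain ⟨B⟩ := FiM22.exists_base_at hD hprim h22 hd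
  have hT : ∀ r, e0 (T r) ∈ D := fun r => hE ▸ ⟨_, Fi22Inv.T_mem r, rfl⟩
  have hc0 : Commute (T origin) (T mate) := by
    obtain ⟨h, -⟩ := swap_checks
    simp only [Bool.and_eq_true] at h
    exact (row_iff origin mate).1 h.1.2
  have hne0 : T origin ≠ T mate := fun h => absurd (congrArg Fin.val (T_inj h)) (by rw [origin_val]; decide)
  obtain ⟨g, hg⟩ := hprim.1 _ (hT origin) d hd
  set m := g * e0 (T mate) * g⁻¹
  have hm : m ∈ D := hD.2.1 g _ (hT mate)
  have hmne : m ≠ d := fun h => hne0 (e0.injective (mul_left_cancel (mul_right_cancel (hg.trans h.symm))))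
  have hmc : Commute d m := by rw [← hg]; exact commute_conj_iff.2 (hc0.map e0.toMonoidHom)
  obtain ⟨k, hk, hkm⟩ := B.setting.commute_transitive hd hm hmne hmc he.1 he.2.1 he.2.2
  let f : Spor.Fi22 ≃* G := e0.trans (MulAut.conj (k * g))
  have hf : ∀ x, f x = k * (g * e0 x * g⁻¹) * k⁻¹ := fun x => by
    show k * g * e0 x * (k * g)⁻¹ = _
    group
  have f0 : f (T origin) = d := by rw [hf, hg, hk.eq, mul_inv_cancel_right]
  have f1 : f (T mate) = e := by rw [hf]; exact hkm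
  have fD : ∀ r, f (T r) ∈ D := fun r => by rw [hf]; exact hD.2.1 k _ (hD.2.1 g _ (hT r))
  have fsurj : ∀ u ∈ D, ∃ r, f (T r) = u := fun u hu => by
    have hu' : (k * g)⁻¹ * u * (k * g) ∈ D := by simpa using hD.2.1 (k * g)⁻¹ u hu
    rw [← hE] at hu'
    obtain ⟨z, hz, hzu⟩ := hu'
    obtain ⟨h, rfl⟩ := isConj_iff.1 hz
    refine ⟨Fi22Group.act h origin, ?_⟩
    rw [T_act]
    show k * g * e0 _ * (k * g)⁻¹ = u
    rw [hzu]
    group
  have fcom : ∀ {x y : Spor.Fi22}, Commute (f x) (f y) ↔ Commute x y := fun {x y} =>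
    ⟨fun h => by simpa using h.map f.symm.toMonoidHom, fun h => h.map f.toMonoidHom⟩
  set W := nbrs D d ∩ nbrs D e with hW
  have hWiff : ∀ r, f (T r) ∈ W ↔ PairSign.InW r := fun r => by
    have hi : ∀ {x y : Spor.Fi22}, f x = f y ↔ x = y := f.injective.eq_iff
    simp only [hW, nbrs, Set.mem_inter_iff, Set.mem_setOf_eq, PairSign.InW, ← f0, ← f1, fcom, ne_eq, hi]
    exact ⟨fun h => ⟨h.1.2.1, h.2.2.1, h.1.2.2.symm, h.2.2.2.symm⟩,
      fun h => ⟨⟨fD r, h.1, h.2.2.1.symm⟩, fD r, h.2.1, h.2.2.2.symm⟩⟩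
  let Same : G → G → Prop := fun x y => ∀ u ∈ W, Commute x u ↔ Commute y u
  have hsame : ∀ x y : Spor.Fi22, Same (f x) (f y) ↔ PairSign.SamePat x y := fun x y => by
    constructor
    · intro h s hs
      exact fcom.symm.trans ((h _ ((hWiff s).2 hs)).trans fcom)
    · intro h u hu
      obtain ⟨s, rfl⟩ := fsurj u hu.1.1
      exact fcom.trans ((h s ((hWiff s).1 hu)).trans fcom.symm)
  obtain ⟨hsgn, hq0, hq1, hrep, hcover, hsep, hqrep⟩ := PairSign.cert
  let R : Fin 45 → G := fun i => f (T (PairSign.rep i))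
  have hR : ∀ i, R i ∈ W := fun i => (hWiff _).2 (hrep i)
  have hex : ∀ x ∈ W, ∃ i, Same x (R i) := fun x hx => by
    obtain ⟨r, rfl⟩ := fsurj x hx.1.1
    obtain ⟨i, hi⟩ := hcover r ((hWiff r).1 hx)
    exact ⟨i, (hsame _ _).2 hi⟩
  have huniq : ∀ (x : G) (i j : Fin 45), Same x (R i) → Same x (R j) → i = j := fun x i j hi hj =>
    hsep i j ((hsame _ _).1 fun u hu => (hi u hu).symm.trans (hj u hu))
  set C := Subgroup.centralizer ({d * e} : Set G)
  have hWC : ∀ c ∈ C, ∀ x ∈ W, c * x * c⁻¹ ∈ W := by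
    intro c hc x hx
    have hxD : c * x * c⁻¹ ∈ D := hD.2.1 c x hx.1.1
    have a1 : c * x * c⁻¹ ≠ c * d * c⁻¹ := fun h => hx.1.2.1 (mul_left_cancel (mul_right_cancel h))
    have a2 : c * x * c⁻¹ ≠ c * e * c⁻¹ := fun h => hx.2.2.1 (mul_left_cancel (mul_right_cancel h))
    have b1 : Commute (c * d * c⁻¹) (c * x * c⁻¹) := commute_conj_iff.2 hx.1.2.2
    have b2 : Commute (c * e * c⁻¹) (c * x * c⁻¹) := commute_conj_iff.2 hx.2.2.2
    rcases cent_prod hD h22 hd he hc with ⟨u1, u2⟩ | ⟨u1, u2⟩ <;> rw [u1] at a1 b1 <;> rw [u2] at a2 b2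
    · exact ⟨⟨hxD, a1, b1⟩, hxD, a2, b2⟩
    · exact ⟨⟨hxD, a2, b2⟩, hxD, a1, b1⟩
  have hSconj : ∀ c ∈ C, ∀ x y, Same x y → Same (c * x * c⁻¹) (c * y * c⁻¹) := by
    intro c hc x y h u hu
    have hu' : c⁻¹ * u * c ∈ W := by simpa using hWC c⁻¹ (inv_mem hc) u hu
    have e1 : u = c * (c⁻¹ * u * c) * c⁻¹ := by group
    rw [e1, commute_conj_iff, commute_conj_iff]
    exact h _ hu'
  choose cls hcls using fun (c : ↥C) (i : Fin 45) => hex _ (hWC c c.2 _ (hR i))
  letI : MulAction ↥C (Fin 45) :=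
    { smul := cls
      one_smul := fun i => huniq _ _ _ (hcls 1 i) (by
        rw [OneMemClass.coe_one, one_mul, inv_one, mul_one]; exact fun _ _ => Iff.rfl)
      mul_smul := fun a b i => huniq _ _ _ (hcls (a * b) i) (fun u hu => by
        refine Iff.trans ?_ (hcls a (cls b i) u hu)
        rw [Subgroup.coe_mul, show (a : G) * b * R i * ((a : G) * b)⁻¹ = (a : G) * ((b : G) * R i * (b : G)⁻¹) * (a : G)⁻¹
          by group]
        exact hSconj a a.2 _ _ (hcls b i) u hu) }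
  let s : ↥C →* ℤˣ := Equiv.Perm.sign.comp (MulAction.toPermHom ↥C (Fin 45))
  have hfix : ∀ x : ↥C, (∀ i, Same ((x : G) * R i * (x : G)⁻¹) (R i)) → s x = 1 := fun x hx => by
    show Equiv.Perm.sign (MulAction.toPermHom ↥C (Fin 45) x) = 1
    rw [show MulAction.toPermHom ↥C (Fin 45) x = 1 from Equiv.ext fun i => huniq _ _ _ (hcls x i) (hx i)]
    exact map_one _
  have hWK : ∀ x ∈ W, x ∈ K := fun x hx => hK ▸ mem_pair.2 ⟨hx.1.2.2.symm, hx.2.2.2.symm⟩
  have himg : ∀ (x y : G) (hx : x ∈ W) (hy : y ∈ W), φ ⟨x, hWK x hx⟩ = φ ⟨y, hWK y hy⟩ → Same x y := by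
    have hiff : ∀ (u w : G) (hu : u ∈ W) (hw : w ∈ W),
        Commute u w ↔ Commute (φ ⟨u, hWK u hu⟩) (φ ⟨w, hWK w hw⟩) := by
      intro u w hu hw
      set u' : ↥K := ⟨u, hWK u hu⟩
      set w' : ↥K := ⟨w, hWK w hw⟩
      refine ⟨fun h => (show Commute u' w' from Subtype.ext h.eq).map φ, fun h => ?_⟩
      by_contra hn
      have h3 : (u' * w') ^ 3 = 1 := Subtype.ext (pow_three hD.1 hu.1.1 hw.1.1 hn)
      have sq : ∀ {x : G} (hx : x ∈ W), φ ⟨x, hWK x hx⟩ * φ ⟨x, hWK x hx⟩ = 1 := fun {x} hx => by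
        rw [← map_mul, show (⟨x, hWK x hx⟩ : ↥K) * ⟨x, hWK x hx⟩ = 1 from Subtype.ext (mul_self hD.1 hx.1.1),
          map_one]
      have e3 : φ (u' * w') = 1 := by
        have e2 : φ (u' * w') ^ 2 = 1 := by
          rw [map_mul, h.mul_pow, pow_two, pow_two, sq hu, sq hw, mul_one]
        have := congrArg φ h3
        rwa [map_pow, pow_succ, e2, one_mul, map_one] at this
      have hp := pow_two_pow _ hcard _ (MonoidHom.mem_ker.2 e3)
      rw [show (1024 : ℕ) = 3 * 341 + 1 from rfl, pow_succ, pow_mul, h3, one_pow, one_mul] at hp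
      have e4 : u * w = 1 := congrArg Subtype.val hp
      rw [← inv_eq_of_mul_eq_one_right e4] at hn
      exact hn (Commute.refl u).inv_right
    intro x y hx hy h u hu
    rw [hiff x u hx hu, hiff y u hy hu, h]
  have hKC : K ≤ C := fun x hx =>
    Subgroup.mem_centralizer_singleton_iff.2 ((mem_pair.1 (hK ▸ hx)).1.mul_right (mem_pair.1 (hK ▸ hx)).2).eq
  let sK : ↥K →* ℤˣ := s.comp (Subgroup.inclusion hKC)
  have hker : φ.ker ≤ sK.ker := fun x hx => by
    refine MonoidHom.mem_ker.2 (hfix (Subgroup.inclusion hKC x) fun i => ?_)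
    refine himg ((x : G) * R i * (x : G)⁻¹) (R i) (hWC x (hKC x.2) _ (hR i)) (hR i) ?_
    have e : φ (x * ⟨R i, hWK _ (hR i)⟩ * x⁻¹) = φ ⟨R i, hWK _ (hR i)⟩ := by
      rw [map_mul, map_mul, map_inv, MonoidHom.mem_ker.1 hx, one_mul, inv_one, mul_one]
    exact e
  let ψ : P4 →* ℤˣ := MonoidHom.liftOfSurjective φ hφ ⟨sK, hker⟩
  have hψ : ∀ z, ψ z = 1 := by
    haveI := simple_P4
    rcases (inferInstance : ψ.ker.Normal).eq_bot_or_eq_top with hb | ht
    · exact absurd (fun x y => (MonoidHom.ker_eq_bot_iff ψ).1 hb (by rw [map_mul, map_mul, mul_comm])) nonabelian_P4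
    · exact fun z => MonoidHom.mem_ker.1 (ht ▸ Subgroup.mem_top z)
  have hcC : c ∈ C := by
    rw [Subgroup.mem_centralizer_singleton_iff]
    calc c * (d * e) = (c * d * c⁻¹) * (c * e * c⁻¹) * c := by group
      _ = d * e * c := by rw [h1, h2, he.2.2.eq]
  have hsc : s ⟨c, hcC⟩ = 1 := hfix _ fun i =>
    himg _ _ (hWC c hcC _ (hR i)) (hR i) (h3 (R i) (hWK _ (hR i)) (hWK _ (hWC c hcC _ (hR i))))
  set q := f PairSign.qsw
  have q1 : q * d * q⁻¹ = e := by rw [← f0, ← f1, ← map_inv, ← map_mul, ← map_mul, hq0]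
  have q2 : q * e * q⁻¹ = d := by rw [← f0, ← f1, ← map_inv, ← map_mul, ← map_mul, hq1]
  have hqC : q ∈ C := by
    rw [Subgroup.mem_centralizer_singleton_iff]
    calc q * (d * e) = (q * d * q⁻¹) * (q * e * q⁻¹) * q := by group
      _ = d * e * q := by rw [q1, q2, he.2.2.eq]
  have hkq : c⁻¹ * q ∈ K := hK ▸ mem_pair.2
    ⟨mul_inv_eq_iff_eq_mul.1 (by
      calc c⁻¹ * q * d * (c⁻¹ * q)⁻¹ = c⁻¹ * (q * d * q⁻¹) * c := by group
        _ = c⁻¹ * (c * d * c⁻¹) * c := by rw [q1, h1]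
        _ = d := by group),
    mul_inv_eq_iff_eq_mul.1 (by
      calc c⁻¹ * q * e * (c⁻¹ * q)⁻¹ = c⁻¹ * (q * e * q⁻¹) * c := by group
        _ = c⁻¹ * (c * e * c⁻¹) * c := by rw [q2, h2]
        _ = e := by group)⟩
  have hsk : s ⟨c⁻¹ * q, hKC hkq⟩ = 1 := by
    have e5 : ψ (φ ⟨c⁻¹ * q, hkq⟩) = s ⟨c⁻¹ * q, hKC hkq⟩ :=
      MonoidHom.liftOfRightInverse_comp_apply _ _ (Function.rightInverse_surjInv hφ) ⟨sK, hker⟩ _
    rw [← e5, hψ]
  have hsq : s ⟨q, hqC⟩ = -1 := by
    show Equiv.Perm.sign (MulAction.toPermHom ↥C (Fin 45) ⟨q, hqC⟩) = -1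
    rw [show MulAction.toPermHom ↥C (Fin 45) ⟨q, hqC⟩ = PairSign.piP from Equiv.ext fun i => huniq _ _ _
      (hcls _ i) (by
        show Same (q * f _ * q⁻¹) (f _)
        rw [← map_inv, ← map_mul, ← map_mul]
        exact (hsame _ _).2 (hqrep i))]
    exact hsgn
  rw [show (⟨q, hqC⟩ : ↥C) = ⟨c, hcC⟩ * ⟨c⁻¹ * q, hKC hkq⟩ from Subtype.ext (mul_inv_cancel_left c q).symm, map_mul,
    hsc, hsk, one_mul] at hsq
  exact absurd hsq (by decide)

/-- The action of the centraliser of the product on the section. -/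
theorem exists_local (hD : IsThreeTranspositionGroup D) (hprim : IsPrimitiveUnderConj D) (h22 : IsOfTypeM22 G D)
    {d e : G} (hd : d ∈ D) (he : e ∈ nbrs D d) :
    ∃ (φ : ↥(Subgroup.centralizer ({d, e} : Set G)) →* P4)
      (Θ : ↥(Subgroup.centralizer ({d * e} : Set G)) →* MulAut P4),
      Function.Surjective φ ∧ Function.Surjective Θ ∧ Nat.card φ.ker = 1024 ∧
      (∀ x ∈ φ.ker, ∀ y ∈ φ.ker, ((x * y * x⁻¹ * y⁻¹ : _) : G) ∈ Subgroup.closure ({d, e} : Set G) ∧
        ((x ^ 2 : _) : G) ∈ Subgroup.closure ({d, e} : Set G)) ∧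
      (Subgroup.center ↥(Subgroup.centralizer ({d, e} : Set G))).map (Subgroup.centralizer ({d, e} : Set G)).subtype =
        Subgroup.closure ({d, e} : Set G) ∧
      Subgroup.closure ({d, e} : Set G) ≤ φ.ker.map (Subgroup.centralizer ({d, e} : Set G)).subtype ∧
      Subgroup.centralizer ({d, e} : Set G) ≤ Subgroup.centralizer ({d * e} : Set G) ∧
      ((Subgroup.centralizer ({d, e} : Set G)).subgroupOf (Subgroup.centralizer ({d * e} : Set G))).index = 2 ∧
      Θ.ker = (φ.ker.map (Subgroup.centralizer ({d, e} : Set G)).subtype).subgroupOf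
        (Subgroup.centralizer ({d * e} : Set G)) ∧
      Nonempty (Coord φ fun x : ↥(Subgroup.centralizer ({d, e} : Set G)) =>
        (x : G) ∈ Subgroup.closure ({d, e} : Set G)) := by
  set K := Subgroup.centralizer ({d, e} : Set G) with hKdef
  set C := Subgroup.centralizer ({d * e} : Set G) with hCdef
  obtain ⟨φ, hφ, hcard, hcs, hcen, hV, hcoord⟩ := exists_quot hD hprim h22 hd he
  obtain ⟨B⟩ := FiM22.exists_base_at hD hprim h22 hd
  have hKC : K ≤ C := fun x hx =>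
    Subgroup.mem_centralizer_singleton_iff.2 ((mem_pair.1 hx).1.mul_right (mem_pair.1 hx).2).eq
  have hconj : ∀ c ∈ C, ∀ x ∈ K, c * x * c⁻¹ ∈ K := by
    intro c hc x hx
    obtain ⟨ha, hb⟩ := mem_pair.1 hx
    have h1 : Commute (c * x * c⁻¹) (c * d * c⁻¹) := commute_conj_iff.2 ha
    have h2 : Commute (c * x * c⁻¹) (c * e * c⁻¹) := commute_conj_iff.2 hb
    rcases cent_prod hD h22 hd he hc with ⟨u1, u2⟩ | ⟨u1, u2⟩ <;> rw [u1] at h1 <;> rw [u2] at h2
    · exact mem_pair.2 ⟨h1, h2⟩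
    · exact mem_pair.2 ⟨h2, h1⟩
  obtain ⟨g, hga, hge⟩ := B.exists_swap he
  have hgC : g ∈ C := by
    rw [Subgroup.mem_centralizer_singleton_iff]
    calc g * (d * e) = (g * d * g⁻¹) * (g * e * g⁻¹) * g := by group
      _ = d * e * g := by rw [hga, hge, he.2.2.eq]
  have hgK : g ∉ K := fun h => he.2.1 (hga.symm.trans (by rw [(mem_pair.1 h).1.eq, mul_inv_cancel_right]))
  have hidx : (K.subgroupOf C).index = 2 := by
    refine Subgroup.index_eq_two_iff.2 ⟨⟨g, hgC⟩, fun b => ?_⟩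
    simp only [Subgroup.mem_subgroupOf, Subgroup.coe_mul]
    rcases cent_prod hD h22 hd he b.2 with ⟨u1, u2⟩ | ⟨u1, u2⟩
    · refine Or.inr ⟨mem_pair.2 ⟨mul_inv_eq_iff_eq_mul.1 u1, mul_inv_eq_iff_eq_mul.1 u2⟩, fun h => hgK ?_⟩
      have hb : (b : G) ∈ K := mem_pair.2 ⟨mul_inv_eq_iff_eq_mul.1 u1, mul_inv_eq_iff_eq_mul.1 u2⟩
      exact (Subgroup.mul_mem_cancel_left K hb).1 h
    · refine Or.inl ⟨mem_pair.2 ⟨mul_inv_eq_iff_eq_mul.1 (?_ : (b : G) * g * d * ((b : G) * g)⁻¹ = d),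
        mul_inv_eq_iff_eq_mul.1 (?_ : (b : G) * g * e * ((b : G) * g)⁻¹ = e)⟩, fun h => he.2.1 ?_⟩
      · rw [show (b : G) * g * d * ((b : G) * g)⁻¹ = (b : G) * (g * d * g⁻¹) * (b : G)⁻¹ by group, hga, u2]
      · rw [show (b : G) * g * e * ((b : G) * g)⁻¹ = (b : G) * (g * e * g⁻¹) * (b : G)⁻¹ by group, hge, u1]
      · rw [← u1, (mem_pair.1 h).1.eq, mul_inv_cancel_right]
  let act : ↥C →* MulAut ↥K := MonoidHom.mk' (fun c =>
    { toFun := fun x => ⟨(c : G) * x * (c : G)⁻¹, hconj c c.2 x x.2⟩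
      invFun := fun x => ⟨(c : G)⁻¹ * x * (c : G), by simpa using hconj (c : G)⁻¹ (inv_mem c.2) x x.2⟩
      left_inv := fun x => Subtype.ext (by show (c : G)⁻¹ * ((c : G) * x * (c : G)⁻¹) * c = x; group)
      right_inv := fun x => Subtype.ext (by show (c : G) * ((c : G)⁻¹ * x * c) * (c : G)⁻¹ = x; group)
      map_mul' := fun x y => Subtype.ext (by
        show (c : G) * (x * y : ↥K) * (c : G)⁻¹ = (c : G) * x * (c : G)⁻¹ * ((c : G) * y * (c : G)⁻¹)
        rw [Subgroup.coe_mul]; group) })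
    (fun c c' => MulEquiv.ext fun x => Subtype.ext (by
      show ((c * c' : ↥C) : G) * x * ((c * c' : ↥C) : G)⁻¹ = (c : G) * ((c' : G) * x * (c' : G)⁻¹) * (c : G)⁻¹
      rw [Subgroup.coe_mul]; group))
  have hk : ∀ c x, φ x = 1 → φ (act c x) = 1 := by
    intro c x hx
    haveI := simple_P4
    let M := φ.ker.map (act c).toMonoidHom
    haveI : M.Normal := (inferInstance : φ.ker.Normal).map _ (act c).surjective
    haveI : (M.map φ).Normal := (inferInstance : M.Normal).map φ hφ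
    rcases (inferInstance : (M.map φ).Normal).eq_bot_or_eq_top with hb | ht
    · exact Subgroup.mem_bot.1 (hb ▸ Subgroup.mem_map_of_mem φ
        (Subgroup.mem_map_of_mem (act c).toMonoidHom (MonoidHom.mem_ker.2 hx)))
    · exfalso
      have hd1 : Nat.card ↥(M.map φ) ∣ 1024 := by
        rw [← hcard, ← Subgroup.card_map_of_injective (f := (act c).toMonoidHom) (act c).injective]
        exact Subgroup.card_map_dvd M φ
      rw [ht, Subgroup.card_top, card_P4] at hd1
      norm_num at hd1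
  obtain ⟨Θ, hΘ⟩ := exists_descend act φ hφ hk
  have hker : Θ.ker = (φ.ker.map K.subtype).subgroupOf C := by
    ext c
    rw [MonoidHom.mem_ker, Subgroup.mem_subgroupOf, Subgroup.mem_map]
    constructor
    · intro h
      have hfix : ∀ x, φ (act c x) = φ x := fun x => by rw [← hΘ, h, MulAut.one_apply]
      rcases cent_prod hD h22 hd he c.2 with ⟨u1, u2⟩ | ⟨u1, u2⟩
      · let cK : ↥K := ⟨c, mem_pair.2 ⟨mul_inv_eq_iff_eq_mul.1 u1, mul_inv_eq_iff_eq_mul.1 u2⟩⟩
        refine ⟨cK, eq_one_of_central fun w => ?_, rfl⟩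
        obtain ⟨x, rfl⟩ := hφ w
        have := hfix x
        rw [show act c x = cK * x * cK⁻¹ from Subtype.ext rfl, map_mul, map_mul, map_inv, mul_inv_eq_iff_eq_mul] at this
        exact this
      · exact (no_outer hD hprim h22 hd he K rfl φ hφ hcard (c : G) u1 u2 fun x hx _ => hfix ⟨x, hx⟩).elim
    · rintro ⟨y, hy, hyc⟩
      refine MulEquiv.ext fun z => ?_
      obtain ⟨x, rfl⟩ := hφ z
      rw [hΘ, MulAut.one_apply, show act c x = y * x * y⁻¹ from Subtype.ext (by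
        show (c : G) * x * (c : G)⁻¹ = (y : G) * x * (y : G)⁻¹
        rw [show (c : G) = y from hyc.symm]), map_mul, map_mul, map_inv, MonoidHom.mem_ker.1 hy, one_mul, inv_one,
        mul_one]
  have hEK : φ.ker.map K.subtype ≤ K := Subgroup.map_subtype_le _
  have hsurj : Function.Surjective Θ := by
    have hC : Nat.card ↥C = 2 * (25920 * 1024) := by
      rw [← Subgroup.card_mul_index (K.subgroupOf C), hidx, Nat.card_congr (Subgroup.subgroupOfEquivOfLe hKC).toEquiv,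
        φ.ker.card_eq_card_quotient_mul_card_subgroup,
        Nat.card_congr (QuotientGroup.quotientKerEquivOfSurjective φ hφ).toEquiv, card_P4, hcard, mul_comm]
    rw [← MonoidHom.range_eq_top]
    refine Subgroup.eq_top_of_le_card _ (card_aut_le.trans ?_)
    have h1 := Subgroup.card_mul_index Θ.ker
    rw [Subgroup.index_ker, hC, hker, Nat.card_congr (Subgroup.subgroupOfEquivOfLe (hEK.trans hKC)).toEquiv,
      Subgroup.card_map_of_injective Subtype.val_injective, hcard] at h1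
    omega
  refine ⟨φ, Θ, hφ, hsurj, hcard, hcs, hcen, fun v hv => ?_, hKC, hidx, hker, hcoord⟩
  have hvK : v ∈ K := by rw [← hcen] at hv; exact Subgroup.map_subtype_le _ hv
  exact ⟨⟨v, hvK⟩, hV ⟨v, hvK⟩ hv, rfl⟩

end CfsgLib.Recog.FiM22Two.PairOuter
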