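import Cfsg.Agent.Lib.Recog.FiM22.Rows
import Cfsg.Agent.Lib.Classical.Unitary.Two
import Cfsg.Agent.Lib.Known.AutPSU.Aut

set_option autoImplicit false
set_option maxRecDepth 20000

/-!
The centraliser of a transvection of PSU(6, 2): its quotient PSU(4, 2) and the kernel of that (owner: helper6).
-/

namespace CfsgLib.Recog.FiM22Two.PointBlock

open Cfsg CfsgLib.Recog.SporBound.Fi22U6
open CfsgLib.Recog.FiM22 (Q6)
open scoped Matrix

theorem self_add : ∀ a : F4, a + a = 0 := by decide +kernel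

theorem eq_of_sum : ∀ a b : F4, a + b = 0 → a = b := by decide +kernel

theorem cube : ∀ a : F4, a ≠ 0 → a * (a * a) = 1 := by decide +kernel

theorem cube' {a : F4} (h : a ≠ 0) : a ^ 3 = 1 := by
  rw [pow_succ, pow_two, mul_assoc]; exact cube a h

/-- The isotropic vector. -/
def vv : Fin 6 → F4 := ![1, 1, 0, 0, 0, 0]

theorem vv_tail : ∀ i : Fin 4, vv i.succ.succ = 0 := by decide +kernel

theorem vv_ne : vv ≠ 0 := fun h => one_ne_zero (congrFun h 0)

theorem mulVec_vv (M : Matrix (Fin 6) (Fin 6) F4) (i : Fin 6) : (M *ᵥ vv) i = M i 0 + M i 1 := by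
  simp [Matrix.mulVec, dotProduct, Fin.sum_univ_six, vv]

theorem herm_vv (x : Fin 6 → F4) : Cfsg.hermForm 6 F4 2 x vv = x 0 + x 1 := by
  simp [Cfsg.hermForm, Fin.sum_univ_six, vv]

theorem vv_iso : Cfsg.hermForm 6 F4 2 vv vv = 0 := by
  rw [herm_vv]; exact self_add 1

theorem herm_smul_right {n : ℕ} (x y : Fin n → F4) (l : F4) :
    Cfsg.hermForm n F4 2 x (l • y) = l ^ 2 * Cfsg.hermForm n F4 2 x y := by
  simp only [Cfsg.hermForm, Pi.smul_apply, smul_eq_mul, Finset.mul_sum, mul_pow]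
  exact Finset.sum_congr rfl fun i _ => by ring

theorem herm_smul_left {n : ℕ} (x y : Fin n → F4) (l : F4) :
    Cfsg.hermForm n F4 2 (l • x) y = l * Cfsg.hermForm n F4 2 x y := by
  simp only [Cfsg.hermForm, Pi.smul_apply, smul_eq_mul, Finset.mul_sum]
  exact Finset.sum_congr rfl fun i _ => by ring

/-- The stabiliser of the point. -/
noncomputable def P : Subgroup SU6 where
  carrier := {g | ∃ l : F4, l ≠ 0 ∧ mat g *ᵥ vv = l • vv}
  one_mem' := ⟨1, one_ne_zero, by rw [mat_one, Matrix.one_mulVec, one_smul]⟩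
  mul_mem' {g h} := by
    rintro ⟨l, hl, e⟩ ⟨m, hm, e'⟩
    exact ⟨m * l, mul_ne_zero hm hl, by
      rw [mat_mul, ← Matrix.mulVec_mulVec, e', Matrix.mulVec_smul, e, smul_smul]⟩
  inv_mem' {g} := by
    rintro ⟨l, hl, e⟩
    refine ⟨l⁻¹, inv_ne_zero hl, ?_⟩
    have h := congrArg (mat g⁻¹ *ᵥ ·) e
    simp only [Matrix.mulVec_mulVec, ← mat_mul, inv_mul_cancel, mat_one, Matrix.one_mulVec,
      Matrix.mulVec_smul] at h
    conv_rhs => rw [h, smul_smul, inv_mul_cancel₀ hl, one_smul]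

theorem mem_P {g : SU6} {l : F4} (h : mat g *ᵥ vv = l • vv) : g ∈ P := by
  refine ⟨l, fun hl => vv_ne ?_, h⟩
  have e := congrArg (mat g⁻¹ *ᵥ ·) h
  simpa only [Matrix.mulVec_mulVec, ← mat_mul, inv_mul_cancel, mat_one, Matrix.one_mulVec, hl, zero_smul,
    Matrix.mulVec_zero] using e

theorem row_sum {g : SU6} {l : F4} (h : mat g *ᵥ vv = l • vv) (i : Fin 6) : mat g i 0 + mat g i 1 = l * vv i := by
  rw [← mulVec_vv, h]; rfl

theorem col_sum {g : SU6} {l : F4} (hl : l ≠ 0) (h : mat g *ᵥ vv = l • vv) (j : Fin 6) :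
    mat g 0 j + mat g 1 j = l * vv j := by
  have e := form_eq g (Pi.single j 1) vv
  rw [h, herm_smul_right, herm_vv, herm_vv, Matrix.mulVec_single_one] at e
  have hj : ∀ j : Fin 6, (Pi.single j (1 : F4) : Fin 6 → F4) 0 + (Pi.single j (1 : F4) : Fin 6 → F4) 1 = vv j := by
    decide +kernel
  rw [hj] at e
  change l ^ 2 * (mat g 0 j + mat g 1 j) = vv j at e
  rw [← e, ← mul_assoc, ← pow_succ', cube' hl, one_mul]

/-- The lower block. -/
def blk (g : SU6) : Matrix (Fin 4) (Fin 4) F4 := fun i j => mat g i.succ.succ j.succ.succ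

theorem col_tail {g : SU6} (hg : g ∈ P) (j : Fin 4) : mat g 1 j.succ.succ = mat g 0 j.succ.succ := by
  obtain ⟨l, hl, h⟩ := hg
  exact (eq_of_sum _ _ (by rw [col_sum hl h, vv_tail, mul_zero])).symm

theorem row_tail {g : SU6} (hg : g ∈ P) (i : Fin 4) : mat g i.succ.succ 1 = mat g i.succ.succ 0 := by
  obtain ⟨l, hl, h⟩ := hg
  exact (eq_of_sum _ _ (by rw [row_sum h, vv_tail, mul_zero])).symm

theorem blk_mul {g h : SU6} (hg : g ∈ P) (hh : h ∈ P) : blk (g * h) = blk g * blk h := by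
  ext i j
  show mat (g * h) i.succ.succ j.succ.succ = _
  rw [mat_mul, Matrix.mul_apply, Fin.sum_univ_succ, Fin.sum_univ_succ, Fin.succ_zero_eq_one, row_tail hg,
    col_tail hh, ← add_assoc, self_add, zero_add, Matrix.mul_apply]
  rfl

theorem blk_one : blk 1 = 1 := by
  ext i j
  show (1 : Matrix (Fin 6) (Fin 6) F4) i.succ.succ j.succ.succ = _
  simp [Matrix.one_apply]

theorem blk_det_ne {g : SU6} (hg : g ∈ P) : (blk g).det ≠ 0 := fun h => by
  have e := congrArg Matrix.det (blk_mul (inv_mem hg) hg)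
  rw [inv_mul_cancel, blk_one, Matrix.det_one, Matrix.det_mul, h, mul_zero] at e
  exact one_ne_zero e

theorem blk_form {g : SU6} (hg : g ∈ P) (x y : Fin 4 → F4) :
    Cfsg.hermForm 4 F4 2 (blk g *ᵥ x) (blk g *ᵥ y) = Cfsg.hermForm 4 F4 2 x y := by
  have key : ∀ x : Fin 4 → F4, (∀ k, (mat g *ᵥ (Fin.cons 0 (Fin.cons 0 x) : Fin 6 → F4)) (Fin.succ (Fin.succ k)) = (blk g *ᵥ x) k) ∧
      (mat g *ᵥ (Fin.cons 0 (Fin.cons 0 x) : Fin 6 → F4)) 1 = (mat g *ᵥ (Fin.cons 0 (Fin.cons 0 x) : Fin 6 → F4)) 0 := by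
    intro x
    constructor
    · intro k
      simp [Matrix.mulVec, dotProduct, Fin.sum_univ_succ (n := 5), Fin.sum_univ_succ (n := 4), blk]
    · simp [Matrix.mulVec, dotProduct, Fin.sum_univ_succ (n := 5), Fin.sum_univ_succ (n := 4), col_tail hg]
  have e := form_eq g (Fin.cons 0 (Fin.cons 0 x)) (Fin.cons 0 (Fin.cons 0 y))
  simp only [Cfsg.hermForm, Fin.sum_univ_succ (n := 5), Fin.sum_univ_succ (n := 4), Fin.succ_zero_eq_one,
    (key x).1, (key y).1, (key x).2, (key y).2, Fin.cons_zero, Fin.cons_succ, zero_mul, zero_add] at e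
  rw [← add_assoc, self_add, zero_add] at e
  exact e

/-- The block scaled to determinant one. -/
noncomputable def blkSU : ↥P →* ↥(Cfsg.SU 4 F4 2) where
  toFun g := ⟨⟨(blk g)⁻¹.det • blk g, by
      rw [Matrix.det_smul, Matrix.det_nonsing_inv, Ring.inverse_eq_inv']
      have h := blk_det_ne g.2
      generalize (blk (g : SU6)).det = d at h ⊢
      revert d; decide +kernel⟩, fun x y => by
      show Cfsg.hermForm 4 F4 2 (((blk g)⁻¹.det • blk g) *ᵥ x) (((blk g)⁻¹.det • blk g) *ᵥ y) = _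
      have h : (blk g)⁻¹.det ≠ 0 := by
        rw [Matrix.det_nonsing_inv, Ring.inverse_eq_inv']; exact inv_ne_zero (blk_det_ne g.2)
      rw [Matrix.smul_mulVec, Matrix.smul_mulVec, herm_smul_left, herm_smul_right, blk_form g.2, ← mul_assoc,
        ← pow_succ', cube' h, one_mul]⟩
  map_one' := Subtype.ext (Subtype.ext (by
    show (blk 1)⁻¹.det • blk 1 = 1
    simp [blk_one]))
  map_mul' g h := Subtype.ext (Subtype.ext (by
    show (blk ((g : SU6) * h))⁻¹.det • blk ((g : SU6) * h) = ((blk g)⁻¹.det • blk g) * ((blk h)⁻¹.det • blk h)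
    rw [blk_mul g.2 h.2, Matrix.smul_mul, Matrix.mul_smul, smul_smul, Matrix.mul_inv_rev, Matrix.det_mul, mul_comm]))

theorem center_four : Subgroup.center ↥(Cfsg.SU 4 F4 2) = ⊥ := by
  apply Subgroup.eq_bot_of_card_eq
  rw [CfsgLib.Classical.Herm.card_center_SU' (q := 2) F4.card 4 (by norm_num)]
  rfl

/-- The map to PSU(4, 2). -/
noncomputable def blkP : ↥P →* Cfsg.PSU 4 F4 2 := (QuotientGroup.mk' _).comp blkSU

theorem blkP_eq_one {g : ↥P} (h : blkP g = 1) : blk (g : SU6) = (blk (g : SU6)).det • 1 := by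
  have h1 : blkSU g ∈ Subgroup.center ↥(Cfsg.SU 4 F4 2) := (QuotientGroup.eq_one_iff _).1 h
  rw [center_four, Subgroup.mem_bot] at h1
  have h2 : (blk (g : SU6))⁻¹.det • blk (g : SU6) = 1 :=
    congrArg (fun A : ↥(Cfsg.SU 4 F4 2) => ((A : Matrix.SpecialLinearGroup (Fin 4) F4) : Matrix (Fin 4) (Fin 4) F4)) h1
  rw [Matrix.det_nonsing_inv, Ring.inverse_eq_inv'] at h2
  conv_rhs => rw [← h2, smul_smul, mul_inv_cancel₀ (blk_det_ne g.2), one_smul]

/-- Adding one row and column. -/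
def pad {n : ℕ} (M : Matrix (Fin n) (Fin n) F4) : Matrix (Fin (n + 1)) (Fin (n + 1)) F4 :=
  fun i j => Fin.cases (Fin.cases 1 (fun _ => 0) j) (fun i' => Fin.cases 0 (M i') j) i

theorem pad_det {n : ℕ} (M : Matrix (Fin n) (Fin n) F4) : (pad M).det = M.det := by
  rw [Matrix.det_succ_row_zero, Fin.sum_univ_succ]
  simp [pad]
  rfl

theorem pad_zero {n : ℕ} (M : Matrix (Fin n) (Fin n) F4) (x : Fin (n + 1) → F4) : (pad M *ᵥ x) 0 = x 0 := by
  simp [Matrix.mulVec, dotProduct, Fin.sum_univ_succ, pad]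

theorem pad_succ {n : ℕ} (M : Matrix (Fin n) (Fin n) F4) (x : Fin (n + 1) → F4) (i : Fin n) :
    (pad M *ᵥ x) i.succ = (M *ᵥ fun k => x k.succ) i := by
  simp [Matrix.mulVec, dotProduct, Fin.sum_univ_succ, pad]

theorem pad_form {n : ℕ} {M : Matrix (Fin n) (Fin n) F4}
    (h : ∀ x y, Cfsg.hermForm n F4 2 (M *ᵥ x) (M *ᵥ y) = Cfsg.hermForm n F4 2 x y) (x y : Fin (n + 1) → F4) :
    Cfsg.hermForm (n + 1) F4 2 (pad M *ᵥ x) (pad M *ᵥ y) = Cfsg.hermForm (n + 1) F4 2 x y := by
  simp only [Cfsg.hermForm] at h ⊢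
  rw [Fin.sum_univ_succ, Fin.sum_univ_succ]
  simp only [pad_zero, pad_succ]
  rw [h]

/-- The embedding of SU(4, 2). -/
noncomputable def emb (A : ↥(Cfsg.SU 4 F4 2)) : SU6 :=
  ⟨⟨pad (pad ((A : Matrix.SpecialLinearGroup (Fin 4) F4) : Matrix (Fin 4) (Fin 4) F4)), by
      rw [pad_det, pad_det]; exact (A : Matrix.SpecialLinearGroup (Fin 4) F4).2⟩,
    fun x y => pad_form (pad_form fun x y => A.2 x y) x y⟩

theorem emb_vv (A : ↥(Cfsg.SU 4 F4 2)) : mat (emb A) *ᵥ vv = (1 : F4) • vv := by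
  rw [one_smul]
  show pad (pad _) *ᵥ vv = vv
  funext i
  refine Fin.cases ?_ (fun i' => ?_) i
  · rw [pad_zero]
  · refine Fin.cases ?_ (fun k => ?_) i'
    · rw [pad_succ, pad_zero]
    · rw [pad_succ, pad_succ, vv_tail]
      simp [Matrix.mulVec, dotProduct, vv_tail]

theorem blk_emb (A : ↥(Cfsg.SU 4 F4 2)) :
    blk (emb A) = ((A : Matrix.SpecialLinearGroup (Fin 4) F4) : Matrix (Fin 4) (Fin 4) F4) := rfl

theorem blkP_surjective : Function.Surjective blkP := by
  intro z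
  obtain ⟨A, rfl⟩ := QuotientGroup.mk'_surjective _ z
  refine ⟨⟨emb A, mem_P (emb_vv A)⟩, congrArg (QuotientGroup.mk' _) (Subtype.ext (Subtype.ext ?_))⟩
  show (blk (emb A))⁻¹.det • blk (emb A) = _
  rw [blk_emb, Matrix.det_nonsing_inv, (A : Matrix.SpecialLinearGroup (Fin 4) F4).2]
  simp

theorem scalar_of_center {z : SU6} (hz : z ∈ Subgroup.center SU6) :
    ∃ c : F4, c ≠ 0 ∧ mat z = c • (1 : Matrix (Fin 6) (Fin 6) F4) := by
  obtain ⟨c, hc⟩ := CfsgLib.Known.AutPSU.scalar_of_mem_center (q := 2) F4.card (by norm_num) z hz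
  exact ⟨c, c.ne_zero, hc⟩

theorem blk_scalar {g : SU6} {c : F4} (h : mat g = c • (1 : Matrix (Fin 6) (Fin 6) F4)) : blk g = c • 1 := by
  ext i j
  show mat g i.succ.succ j.succ.succ = _
  simp [h, Matrix.one_apply]

theorem center_le_P : Subgroup.center SU6 ≤ P := fun z hz => by
  obtain ⟨c, -, e⟩ := scalar_of_center hz
  exact mem_P (l := c) (by rw [e, Matrix.smul_mulVec, Matrix.one_mulVec])

/-- The transvection. -/
noncomputable def Tv : Q6 := QuotientGroup.mk' (Subgroup.center SU6) (tsu vv)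

theorem exists_row : ∃ r < 693, Tv = FiM22.T r ∧ ∃ l : F4, l ≠ 0 ∧ vv = l • FiM22.vec (FiM22.code r) := by
  obtain ⟨r, hr, l, hl, e⟩ := FiM22.point_of vv_ne vv_iso
  refine ⟨r, hr, ?_, l, hl, e⟩
  rw [Tv, e, tsu_smul (FiM22.dot_iso hr) hl]
  rfl

theorem Tv_sq : Tv * Tv = 1 := by
  obtain ⟨r, hr, e, -⟩ := exists_row
  rw [e]; exact FiM22.T_sq hr

theorem mem_cent_iff (g : SU6) :
    QuotientGroup.mk' (Subgroup.center SU6) g ∈ Subgroup.centralizer ({Tv} : Set Q6) ↔ g ∈ P := by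
  have hc : QuotientGroup.mk' (Subgroup.center SU6) g ∈ Subgroup.centralizer ({Tv} : Set Q6) ↔
      QuotientGroup.mk' (Subgroup.center SU6) (tsu (mat g *ᵥ vv)) = Tv := by
    rw [Subgroup.mem_centralizer_singleton_iff, Tv, ← tsu_conj g vv_iso, map_mul, map_mul, map_inv,
      mul_inv_eq_iff_eq_mul]
  rw [hc]
  constructor
  · intro h
    obtain ⟨r, hr, hT, l, hl, hv⟩ := exists_row
    have hne : mat g *ᵥ vv ≠ 0 := fun e0 => vv_ne (by
      have := congrArg (mat g⁻¹ *ᵥ ·) e0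
      simpa only [Matrix.mulVec_mulVec, ← mat_mul, inv_mul_cancel, mat_one, Matrix.one_mulVec,
        Matrix.mulVec_zero] using this)
    obtain ⟨s, hs, m, hm, hw⟩ := FiM22.point_of hne (by rw [form_eq, vv_iso])
    have e : FiM22.T s = FiM22.T r := by
      rw [← hT, ← h, hw, tsu_smul (FiM22.dot_iso hs) hm]; rfl
    rw [FiM22.T_inj hs hr e] at hw
    refine mem_P (l := m * l⁻¹) ?_
    rw [hw, hv, smul_smul, mul_assoc, inv_mul_cancel₀ hl, mul_one]
  · rintro ⟨l, hl, e⟩
    rw [e, tsu_smul vv_iso hl]; rfl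

/-- The projection of the stabiliser. -/
noncomputable def toCent : ↥P →* ↥(Subgroup.centralizer ({Tv} : Set Q6)) :=
  ((QuotientGroup.mk' (Subgroup.center SU6)).comp P.subtype).codRestrict _ fun g => (mem_cent_iff g).2 g.2

theorem toCent_surjective : Function.Surjective toCent := by
  rintro ⟨x, hx⟩
  obtain ⟨g, rfl⟩ := QuotientGroup.mk'_surjective _ x
  exact ⟨⟨g, (mem_cent_iff g).1 hx⟩, rfl⟩

theorem ker_le : toCent.ker ≤ blkP.ker := by
  intro g hg
  have hz : (g : SU6) ∈ Subgroup.center SU6 :=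
    (QuotientGroup.eq_one_iff _).1 (congrArg Subtype.val (MonoidHom.mem_ker.1 hg))
  obtain ⟨c, hc0, hc⟩ := scalar_of_center hz
  refine MonoidHom.mem_ker.2 ((congrArg (QuotientGroup.mk' _) (?_ : blkSU g = 1)).trans (map_one _))
  refine Subtype.ext (Subtype.ext ?_)
  show (blk (g : SU6))⁻¹.det • blk (g : SU6) = 1
  rw [blk_scalar hc, Matrix.det_nonsing_inv, Ring.inverse_eq_inv', Matrix.det_smul, Matrix.det_one, mul_one,
    smul_smul, Fintype.card_fin, pow_succ c 3, cube' hc0, one_mul, inv_mul_cancel₀ hc0, one_smul]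

/-- The quotient map of the centraliser. -/
noncomputable def bar : ↥(Subgroup.centralizer ({Tv} : Set Q6)) →* Cfsg.PSU 4 F4 2 :=
  MonoidHom.liftOfSurjective toCent toCent_surjective ⟨blkP, ker_le⟩

theorem bar_toCent (g : ↥P) : bar (toCent g) = blkP g := by
  exact MonoidHom.liftOfRightInverse_comp_apply _ _ (Function.rightInverse_surjInv _) ⟨blkP, ker_le⟩ g

theorem bar_surjective : Function.Surjective bar := fun z => by
  obtain ⟨g, rfl⟩ := blkP_surjective z
  exact ⟨_, bar_toCent g⟩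

/-- The unipotent elements. -/
noncomputable def U : Subgroup SU6 where
  carrier := {g | mat g *ᵥ vv = vv ∧ blk g = 1}
  one_mem' := ⟨by rw [mat_one, Matrix.one_mulVec], blk_one⟩
  mul_mem' {g h} := by
    rintro ⟨e, b⟩ ⟨e', b'⟩
    have hP : ∀ {k : SU6}, mat k *ᵥ vv = vv → k ∈ P := fun {k} e => mem_P (l := 1) (by rwa [one_smul])
    exact ⟨by rw [mat_mul, ← Matrix.mulVec_mulVec, e', e], by rw [blk_mul (hP e) (hP e'), b, b', one_mul]⟩
  inv_mem' {g} := by
    rintro ⟨e, b⟩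
    have hP : g ∈ P := mem_P (l := 1) (by rwa [one_smul])
    refine ⟨?_, ?_⟩
    · have h := congrArg (mat g⁻¹ *ᵥ ·) e
      simp only [Matrix.mulVec_mulVec, ← mat_mul, inv_mul_cancel, mat_one, Matrix.one_mulVec] at h
      exact h.symm
    · have h := blk_mul (inv_mem hP) hP
      rw [inv_mul_cancel, blk_one, b, mul_one] at h
      exact h.symm

theorem U_le {g : SU6} (hg : g ∈ U) : g ∈ P := mem_P (l := 1) (by rw [one_smul]; exact hg.1)

theorem U_row (g : ↥U) (i : Fin 6) : mat (g : SU6) i 0 + mat (g : SU6) i 1 = vv i := by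
  rw [row_sum (l := 1) (by rw [one_smul]; exact g.2.1), one_mul]

theorem U_col (g : ↥U) (j : Fin 6) : mat (g : SU6) 0 j + mat (g : SU6) 1 j = vv j := by
  rw [col_sum one_ne_zero (by rw [one_smul]; exact g.2.1), one_mul]

theorem U_blk (g : ↥U) (i j : Fin 4) :
    mat (g : SU6) i.succ.succ j.succ.succ = (1 : Matrix (Fin 4) (Fin 4) F4) i j :=
  congrFun (congrFun g.2.2 i) j

/-- The coordinates outside the small block. -/
def side (g : ↥U) (i : Fin 4) : F4 × F4 := (mat (g : SU6) i.succ.succ 0, mat (g : SU6) 0 i.succ.succ)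

theorem side_mul (g h : ↥U) : side (g * h) = side g + side h := by
  funext i
  refine Prod.ext ?_ ?_
  · show mat ((g : SU6) * h) i.succ.succ 0 = _
    rw [mat_mul, Matrix.mul_apply, Fin.sum_univ_succ, Fin.sum_univ_succ, Fin.succ_zero_eq_one,
      row_tail (U_le g.2), ← add_assoc, ← mul_add, U_col h]
    simp [U_blk, Matrix.one_apply, side, vv]
  · show mat ((g : SU6) * h) 0 i.succ.succ = _
    rw [mat_mul, Matrix.mul_apply, Fin.sum_univ_succ, Fin.sum_univ_succ, Fin.succ_zero_eq_one,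
      col_tail (U_le h.2), ← add_assoc, ← add_mul, U_row g]
    simp [U_blk, Matrix.one_apply, side, vv, add_comm]

/-- The coordinates as a homomorphism. -/
def sideHom : ↥U →* Multiplicative (Fin 4 → F4 × F4) where
  toFun g := Multiplicative.ofAdd (side g)
  map_one' := by
    refine Multiplicative.toAdd.injective ?_
    funext i
    simp [side, mat_one, Matrix.one_apply]
    exact fun h => absurd h.symm (Fin.succ_ne_zero _)
  map_mul' g h := by rw [side_mul]; rfl

theorem small {g : ↥U} (h : sideHom g = 1) :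
    QuotientGroup.mk' (Subgroup.center SU6) (g : SU6) = 1 ∨ QuotientGroup.mk' (Subgroup.center SU6) (g : SU6) = Tv := by
  have h0 : ∀ i, side g i = 0 := fun i => congrFun (congrArg Multiplicative.toAdd h) i
  have hc : ∀ i : Fin 4, mat (g : SU6) i.succ.succ 0 = 0 := fun i => congrArg Prod.fst (h0 i)
  have hr : ∀ j : Fin 4, mat (g : SU6) 0 j.succ.succ = 0 := fun j => congrArg Prod.snd (h0 j)
  have hc1 : ∀ i : Fin 4, mat (g : SU6) i.succ.succ 1 = 0 := fun i => by rw [row_tail (U_le g.2)]; exact hc i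
  have hr1 : ∀ j : Fin 4, mat (g : SU6) 1 j.succ.succ = 0 := fun j => by rw [col_tail (U_le g.2)]; exact hr j
  set a := mat (g : SU6) 0 1 with ha
  have e00 : mat (g : SU6) 0 0 = 1 + a := by
    have := U_row g 0
    rw [show vv 0 = 1 from rfl, ← ha] at this
    exact eq_of_sum _ _ (by rw [← add_assoc, add_comm (mat (g : SU6) 0 0) 1, add_assoc, this, self_add])
  have e10 : mat (g : SU6) 1 0 = a := by
    have := U_col g 0
    rw [show vv 0 = 1 from rfl, e00, add_assoc, add_eq_left] at this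
    exact (eq_of_sum _ _ this).symm
  have e11 : mat (g : SU6) 1 1 = 1 + a := by
    have := U_col g 1
    rw [show vv 1 = 1 from rfl, ← ha] at this
    exact eq_of_sum _ _ (by rw [← add_assoc, add_comm (mat (g : SU6) 1 1) 1, add_assoc,
      add_comm (mat (g : SU6) 1 1) a, this, self_add])
  have key : ∀ x : Fin 6 → F4, mat (g : SU6) *ᵥ x = x + (a * (x 0 + x 1)) • vv := by
    intro x
    funext i
    simp only [Matrix.mulVec, dotProduct]
    rw [Fin.sum_univ_succ, Fin.sum_univ_succ, Fin.succ_zero_eq_one]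
    refine Fin.cases ?_ (fun i' => ?_) i
    · simp [e00, hr, ← ha, vv]; ring
    · refine Fin.cases ?_ (fun k => ?_) i'
      · simp [e10, e11, hr1, vv]; ring
      · simp [hc, hc1, U_blk, Matrix.one_apply, vv_tail]
  have hf := form_eq (g : SU6) (Pi.single 0 1) (Pi.single 0 1)
  rw [key] at hf
  simp [Cfsg.hermForm, Fin.sum_univ_six, vv, Pi.single_apply] at hf
  have h01 : a = 0 ∨ a = 1 := by
    revert hf; generalize a = b; revert b; decide +kernel
  rcases h01 with e | e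
  · refine Or.inl ((congrArg _ ?_).trans (map_one _))
    refine eq_of_mulVec fun x => ?_
    rw [key, e, zero_mul, zero_smul, add_zero, mat_one, Matrix.one_mulVec]
  · refine Or.inr (congrArg _ ?_)
    refine eq_of_mulVec fun x => ?_
    rw [key, e, one_mul, tsu_apply vv_iso, herm_vv]

/-- A scalar element. -/
noncomputable def sc (c : F4) (hc : c ≠ 0) : SU6 :=
  ⟨⟨c • (1 : Matrix (Fin 6) (Fin 6) F4), by
      rw [Matrix.det_smul, Matrix.det_one, mul_one, Fintype.card_fin, show 6 = 3 * 2 from rfl, pow_mul, cube' hc,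
        one_pow]⟩, fun x y => by
      show Cfsg.hermForm 6 F4 2 ((c • (1 : Matrix (Fin 6) (Fin 6) F4)) *ᵥ x) ((c • (1 : Matrix (Fin 6) (Fin 6) F4)) *ᵥ y) = _
      rw [Matrix.smul_mulVec, Matrix.smul_mulVec, Matrix.one_mulVec, Matrix.one_mulVec, herm_smul_left,
        herm_smul_right, ← mul_assoc, ← pow_succ', cube' hc, one_mul]⟩

theorem sc_central (c : F4) (hc : c ≠ 0) : sc c hc ∈ Subgroup.center SU6 :=
  Subgroup.mem_center_iff.2 fun M => eq_of_mulVec fun x => by
    rw [mat_mul, mat_mul, show mat (sc c hc) = c • (1 : Matrix (Fin 6) (Fin 6) F4) from rfl, Matrix.smul_mul,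
      Matrix.mul_smul, Matrix.one_mul, Matrix.mul_one]

/-- A 2-element of the kernel comes from a unipotent element. -/
theorem exists_unipotent {x : ↥(Subgroup.centralizer ({Tv} : Set Q6))} (hx : bar x = 1) (h2 : x ^ 1024 = 1) :
    ∃ g : ↥U, QuotientGroup.mk' (Subgroup.center SU6) (g : SU6) = x := by
  obtain ⟨g, rfl⟩ := toCent_surjective x
  rw [bar_toCent] at hx
  obtain ⟨l, hl, hv⟩ := g.2
  have hd := blkP_eq_one hx
  set d := (blk (g : SU6)).det
  have hd0 : d ≠ 0 := blk_det_ne g.2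
  let g' : ↥P := ⟨sc l⁻¹ (inv_ne_zero hl) * g, mul_mem (center_le_P (sc_central _ _)) g.2⟩
  have hmat : mat (g' : SU6) = l⁻¹ • mat (g : SU6) := by
    show mat (sc _ _ * _) = _
    rw [mat_mul, show mat (sc l⁻¹ (inv_ne_zero hl)) = l⁻¹ • (1 : Matrix (Fin 6) (Fin 6) F4) from rfl,
      Matrix.smul_mul, Matrix.one_mul]
  have hfix : mat (g' : SU6) *ᵥ vv = vv := by
    rw [hmat, Matrix.smul_mulVec, hv, smul_smul, inv_mul_cancel₀ hl, one_smul]
  have hmk : QuotientGroup.mk' (Subgroup.center SU6) (g' : SU6) = QuotientGroup.mk' (Subgroup.center SU6) (g : SU6) := by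
    show QuotientGroup.mk' (Subgroup.center SU6) (sc _ _ * _) = _
    rw [map_mul, show QuotientGroup.mk' (Subgroup.center SU6) (sc l⁻¹ (inv_ne_zero hl)) = 1 from
      (QuotientGroup.eq_one_iff _).2 (sc_central _ _), one_mul]
  have hblk : blk (g' : SU6) = (l⁻¹ * d) • 1 := by
    rw [← smul_smul, ← hd]
    ext i j
    show mat (g' : SU6) _ _ = _
    rw [hmat]; rfl
  let f : ↥P →* Matrix (Fin 4) (Fin 4) F4 :=
    { toFun := fun k => blk (k : SU6), map_one' := blk_one, map_mul' := fun a b => blk_mul a.2 b.2 }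
  have hz : ((g' : SU6)) ^ 1024 ∈ Subgroup.center SU6 := (QuotientGroup.eq_one_iff _).1 (by
    show QuotientGroup.mk' (Subgroup.center SU6) _ = 1
    rw [map_pow, hmk]
    exact congrArg Subtype.val h2)
  obtain ⟨c, hc0, hc⟩ := scalar_of_center hz
  have hfix' : ∀ n : ℕ, mat ((g' : SU6) ^ n) *ᵥ vv = vv := fun n => by
    induction n with
    | zero => rw [pow_zero, mat_one, Matrix.one_mulVec]
    | succ n ih => rw [pow_succ, mat_mul, ← Matrix.mulVec_mulVec, hfix, ih]
  have hc1 : c = 1 := by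
    have := congrFun (hfix' 1024) 0
    rw [hc, Matrix.smul_mulVec, Matrix.one_mulVec] at this
    simpa [vv] using this
  have hpow : (l⁻¹ * d) ^ 1024 = 1 := by
    have e : f (g' ^ 1024) = f g' ^ 1024 := map_pow f g' 1024
    rw [show f g' = blk (g' : SU6) from rfl, hblk, smul_pow, one_pow,
      show f (g' ^ 1024) = blk ((g' : SU6) ^ 1024) from rfl, blk_scalar hc, hc1, one_smul] at e
    have := congrFun (congrFun e 0) 0
    simpa using this.symm
  have h1 : l⁻¹ * d = 1 := by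
    rwa [show (1024 : ℕ) = 3 * 341 + 1 from rfl, pow_succ, pow_mul, cube' (mul_ne_zero (inv_ne_zero hl) hd0),
      one_pow, one_mul] at hpow
  exact ⟨⟨g', hfix, by rw [hblk, h1, one_smul]⟩, hmk⟩

/-- Commutators and squares of 2-elements of the kernel. -/
theorem comm_sq {x y : ↥(Subgroup.centralizer ({Tv} : Set Q6))} (hx : bar x = 1) (hx2 : x ^ 1024 = 1)
    (hy : bar y = 1) (hy2 : y ^ 1024 = 1) :
    ((x * y * x⁻¹ * y⁻¹ : _) : Q6) ∈ ({1, Tv} : Set Q6) ∧ ((x ^ 2 : _) : Q6) ∈ ({1, Tv} : Set Q6) := by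
  obtain ⟨g, hg⟩ := exists_unipotent hx hx2
  obtain ⟨h, hh⟩ := exists_unipotent hy hy2
  constructor
  · have := small (g := g * h * g⁻¹ * h⁻¹) (by rw [map_mul, map_mul, map_mul, map_inv, map_inv, mul_comm (sideHom g),
      mul_assoc (sideHom h), mul_inv_cancel, mul_one, mul_inv_cancel])
    simp only [Subgroup.coe_mul, Subgroup.coe_inv, map_mul, map_inv, hg, hh] at this
    simpa using this
  · have := small (g := g ^ 2) (by
      refine Multiplicative.toAdd.injective ?_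
      rw [map_pow, pow_two, toAdd_mul]
      funext i
      exact Prod.ext (self_add _) (self_add _))
    simp only [SubmonoidClass.coe_pow, map_pow, hg] at this
    simpa using this

/-- The diagonal element. -/
noncomputable def dia : ↥(Cfsg.SU 4 F4 2) :=
  ⟨⟨Matrix.diagonal ![F4.om, F4.om, F4.om', F4.om'], by
      rw [Matrix.det_diagonal, Fin.prod_univ_four]; decide +kernel⟩, fun x y => by
      show Cfsg.hermForm 4 F4 2 (Matrix.diagonal ![F4.om, F4.om, F4.om', F4.om'] *ᵥ x)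
        (Matrix.diagonal ![F4.om, F4.om, F4.om', F4.om'] *ᵥ y) = _
      simp only [Cfsg.hermForm, Matrix.mulVec_diagonal, mul_pow]
      refine Finset.sum_congr rfl fun i _ => ?_
      have h : ∀ i : Fin 4, (![F4.om, F4.om, F4.om', F4.om'] : Fin 4 → F4) i ≠ 0 := by decide +kernel
      calc _ = (![F4.om, F4.om, F4.om', F4.om'] i) ^ 3 * (x i * y i ^ 2) := by ring
        _ = _ := by rw [cube' (h i), one_mul]⟩

theorem mat_dia : mat (emb dia) = Matrix.diagonal ![1, 1, F4.om, F4.om, F4.om', F4.om'] := by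
  show pad (pad (Matrix.diagonal ![F4.om, F4.om, F4.om', F4.om'])) = _
  decide +kernel

/-- A 2-element of the kernel centralising the centraliser. -/
theorem central_small {x : ↥(Subgroup.centralizer ({Tv} : Set Q6))} (hx : bar x = 1) (hx2 : x ^ 1024 = 1)
    (hc : ∀ y, Commute x y) : (x : Q6) = 1 ∨ (x : Q6) = Tv := by
  obtain ⟨g, hg⟩ := exists_unipotent hx hx2
  rw [← hg]
  refine small ?_
  set Dm := emb dia
  have hD : Dm ∈ P := mem_P (emb_vv dia)
  have e : QuotientGroup.mk' (Subgroup.center SU6) ((g : SU6) * Dm) =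
      QuotientGroup.mk' (Subgroup.center SU6) (Dm * g) := by
    have := congrArg Subtype.val (hc (toCent ⟨Dm, hD⟩)).eq
    rw [map_mul, map_mul, hg]
    exact this
  rw [QuotientGroup.mk'_eq_mk'] at e
  obtain ⟨z, hz, e⟩ := e
  obtain ⟨c, -, hzc⟩ := scalar_of_center hz
  have hDv : mat Dm *ᵥ vv = vv := by simpa using emb_vv dia
  have hm : c • (mat (g : SU6) * mat Dm) = mat Dm * mat (g : SU6) := by
    rw [← mat_mul, ← mat_mul, ← e, mat_mul _ z, hzc, Matrix.mul_smul, Matrix.mul_one]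
  have hc1 : c = 1 := by
    have := congrFun (congrArg (fun M : Matrix (Fin 6) (Fin 6) F4 => M *ᵥ vv) hm) 0
    simp only [Matrix.smul_mulVec, ← Matrix.mulVec_mulVec, hDv, g.2.1] at this
    simpa [vv] using this
  rw [hc1, one_smul] at hm
  rw [show mat Dm = Matrix.diagonal ![1, 1, F4.om, F4.om, F4.om', F4.om'] from mat_dia] at hm
  refine Multiplicative.toAdd.injective (funext fun i => Prod.ext ?_ ?_)
  · have h := congrFun (congrFun hm i.succ.succ) 0
    have hd : ∀ i : Fin 4, ∀ a : F4, a * 1 = (![1, 1, F4.om, F4.om, F4.om', F4.om'] : Fin 6 → F4) i.succ.succ * a →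
        a = 0 := by decide +kernel
    rw [Matrix.mul_diagonal, Matrix.diagonal_mul] at h
    exact hd i _ h
  · have h := congrFun (congrFun hm 0) i.succ.succ
    have hd : ∀ i : Fin 4, ∀ a : F4, a * (![1, 1, F4.om, F4.om, F4.om', F4.om'] : Fin 6 → F4) i.succ.succ = 1 * a →
        a = 0 := by decide +kernel
    rw [Matrix.mul_diagonal, Matrix.diagonal_mul] at h
    exact hd i _ h

end CfsgLib.Recog.FiM22Two.PointBlock
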