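import Cfsg.Agent.Lib.Recog.FiM22Two.PointBlock

set_option autoImplicit false
set_option maxRecDepth 20000

/-!
Coordinates on the unipotent kernel in the centraliser of a transvection of PSU(6, 2): the alternating form and the
action of SU(4, 2) (owner: helper6).
-/

namespace CfsgLib.Recog.FiM22Two.PointBlock

open Cfsg CfsgLib.Recog.SporBound.Fi22U6
open CfsgLib.Recog.FiM22 (Q6)
open scoped Matrix

/-- The space of coordinates. -/
abbrev M4 : Type := Fin 4 → F4

/-- The coordinates of a unipotent element. -/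
def cc (g : ↥U) : M4 := fun i => mat (g : SU6) i.succ.succ 0

theorem cc_mul (g h : ↥U) : cc (g * h) = cc g + cc h := funext fun i => congrArg Prod.fst (congrFun (side_mul g h) i)

/-- The alternating form. -/
def bfm (u v : M4) : F4 := ∑ i, (u i ^ 2 * v i + v i ^ 2 * u i)

theorem row_eq (g : ↥U) (k : Fin 4) : mat (g : SU6) 0 k.succ.succ = cc g k ^ 2 := by
  have h := form_eq (g : SU6) (Pi.single k.succ.succ 1) (Pi.single 0 1)
  rw [Matrix.mulVec_single_one, Matrix.mulVec_single_one] at h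
  have hall : ∀ k : Fin 4, Cfsg.hermForm 6 F4 2 (Pi.single k.succ.succ (1 : F4)) (Pi.single 0 1) = 0 := by
    decide +kernel
  have e := hall k
  rw [e] at h
  simp only [Cfsg.hermForm, Fin.sum_univ_succ (n := 5), Fin.sum_univ_succ (n := 4), Fin.succ_zero_eq_one,
    Matrix.col_apply, col_tail (U_le g.2), U_blk, Matrix.one_apply] at h
  simp only [ite_mul, one_mul, zero_mul, Finset.sum_ite_eq', Finset.mem_univ, if_true] at h
  have hs : mat (g : SU6) 0 0 ^ 2 + mat (g : SU6) 1 0 ^ 2 = 1 := by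
    have hsq : ∀ a b : F4, a + b = 1 → a ^ 2 + b ^ 2 = 1 := by decide +kernel
    exact hsq _ _ ((U_col g 0).trans rfl)
  rw [← add_assoc, ← mul_add, hs, mul_one] at h
  exact eq_of_sum _ _ h

theorem mk_injective {g h : ↥U}
    (e : QuotientGroup.mk' (Subgroup.center SU6) (g : SU6) = QuotientGroup.mk' (Subgroup.center SU6) (h : SU6)) :
    g = h := by
  rw [QuotientGroup.mk'_eq_mk'] at e
  obtain ⟨z, hz, e⟩ := e
  obtain ⟨c, -, hc⟩ := scalar_of_center hz
  have h1 : c = 1 := by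
    have hm := congrArg (fun k : SU6 => (mat k *ᵥ vv) 0) e
    simp only [mat_mul, ← Matrix.mulVec_mulVec, hc, Matrix.smul_mulVec, Matrix.one_mulVec, Matrix.mulVec_smul,
      g.2.1, h.2.1] at hm
    simpa [vv] using hm
  have hz1 : z = 1 := eq_of_mulVec fun x => by rw [hc, h1, one_smul, mat_one]
  rw [hz1, mul_one] at e
  exact Subtype.ext e

theorem a_mul (g h : ↥U) : mat (g * h : ↥U).1 0 1 =
    mat (g : SU6) 0 1 + mat (h : SU6) 0 1 + ∑ i, cc g i ^ 2 * cc h i := by
  show mat ((g : SU6) * h) 0 1 = _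
  rw [mat_mul, Matrix.mul_apply, Fin.sum_univ_succ, Fin.sum_univ_succ, Fin.succ_zero_eq_one]
  simp only [row_eq, row_tail (U_le h.2)]
  rw [show ∑ i : Fin 4, cc g i ^ 2 * mat (h : SU6) i.succ.succ 0 = ∑ i, cc g i ^ 2 * cc h i from rfl, ← add_assoc]
  congr 1
  have hr : mat (g : SU6) 0 0 + mat (g : SU6) 0 1 = 1 := (U_row g 0).trans rfl
  have hc : mat (h : SU6) 0 1 + mat (h : SU6) 1 1 = 1 := (U_col h 1).trans rfl
  generalize mat (g : SU6) 0 0 = a, mat (g : SU6) 0 1 = b, mat (h : SU6) 0 1 = a', mat (h : SU6) 1 1 = b' at hr hc ⊢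
  revert a b a' b'; decide +kernel

theorem bfm_eq_zero_of_commute {g h : ↥U}
    (e : Commute (QuotientGroup.mk' (Subgroup.center SU6) (g : SU6)) (QuotientGroup.mk' (Subgroup.center SU6) (h : SU6))) :
    bfm (cc g) (cc h) = 0 := by
  have e1 : g * h = h * g := mk_injective (by simpa only [Subgroup.coe_mul, map_mul] using e.eq)
  have e2 := congrArg (fun k : ↥U => mat (k : SU6) 0 1) e1
  simp only [a_mul] at e2
  rw [add_comm (mat (h : SU6) 0 1) (mat (g : SU6) 0 1)] at e2
  rw [bfm, Finset.sum_add_distrib, add_left_cancel e2]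
  exact self_add _

/-- The transvection as a unipotent element. -/
noncomputable def tU : ↥U := ⟨tsu vv, by
  refine ⟨?_, ?_⟩
  · rw [tsu_apply vv_iso, vv_iso, zero_smul, add_zero]
  · ext i j
    have h := congrFun (tsu_apply vv_iso (Pi.single j.succ.succ (1 : F4))) i.succ.succ
    rw [Matrix.mulVec_single_one] at h
    show mat (tsu vv) i.succ.succ j.succ.succ = _
    rw [show mat (tsu vv) i.succ.succ j.succ.succ = (mat (tsu vv)).col j.succ.succ i.succ.succ from rfl, h]
    simp [vv_tail, Matrix.one_apply, Pi.single_apply]⟩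

theorem cc_tU : cc tU = 0 := by
  funext i
  have h := congrFun (tsu_apply vv_iso (Pi.single 0 (1 : F4))) i.succ.succ
  rw [Matrix.mulVec_single_one] at h
  show mat (tsu vv) i.succ.succ 0 = 0
  rw [show mat (tsu vv) i.succ.succ 0 = (mat (tsu vv)).col 0 i.succ.succ from rfl, h]
  simp [vv_tail, Pi.single_apply]

theorem conj_U (A : ↥(Cfsg.SU 4 F4 2)) (g : ↥U) :
    ∃ g' : ↥U, (g' : SU6) = emb A * g * (emb A)⁻¹ ∧
      cc g' = ((A : Matrix.SpecialLinearGroup (Fin 4) F4) : Matrix (Fin 4) (Fin 4) F4) *ᵥ cc g := by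
  set y := emb A
  have hv : mat y *ᵥ vv = vv := (emb_vv A).trans (one_smul _ _)
  have hinv : ∀ x : Fin 6 → F4, mat y *ᵥ x = x → mat y⁻¹ *ᵥ x = x := fun x hx => by
    conv_lhs => rw [← hx]
    rw [Matrix.mulVec_mulVec, ← mat_mul, inv_mul_cancel, mat_one, Matrix.one_mulVec]
  have hP : y ∈ P := mem_P (emb_vv A)
  have hmem : y * g * y⁻¹ ∈ U := by
    refine ⟨?_, ?_⟩
    · rw [mat_mul, mat_mul, ← Matrix.mulVec_mulVec, ← Matrix.mulVec_mulVec, hinv vv hv, g.2.1, hv]
    · rw [blk_mul (mul_mem hP (U_le g.2)) (inv_mem hP), blk_mul hP (U_le g.2), g.2.2, mul_one,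
        ← blk_mul hP (inv_mem hP), mul_inv_cancel, blk_one]
  refine ⟨⟨_, hmem⟩, rfl, ?_⟩
  have he0 : mat y *ᵥ Pi.single 0 1 = Pi.single 0 1 := by
    funext i
    refine Fin.cases ?_ (fun i' => ?_) i
    · exact pad_zero _ _
    · refine (pad_succ _ _ i').trans ?_
      simp [Pi.single_apply, Fin.succ_ne_zero, Matrix.mulVec, dotProduct]
  funext i
  have hcol : mat (y * g * y⁻¹) *ᵥ Pi.single 0 1 = mat y *ᵥ (mat (g : SU6) *ᵥ Pi.single 0 1) := by
    rw [mat_mul, mat_mul, ← Matrix.mulVec_mulVec, ← Matrix.mulVec_mulVec, hinv _ he0]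
  have h := congrFun hcol i.succ.succ
  rw [Matrix.mulVec_single_one, Matrix.mulVec_single_one] at h
  refine h.trans ?_
  refine (pad_succ _ _ _).trans ((pad_succ _ _ _).trans ?_)
  rfl

theorem bar_emb (A : ↥(Cfsg.SU 4 F4 2)) :
    bar (toCent ⟨emb A, mem_P (emb_vv A)⟩) = QuotientGroup.mk' (Subgroup.center ↥(Cfsg.SU 4 F4 2)) A := by
  rw [bar_toCent]
  refine congrArg (QuotientGroup.mk' _) (Subtype.ext (Subtype.ext ?_))
  show (blk (emb A))⁻¹.det • blk (emb A) = _
  rw [blk_emb, Matrix.det_nonsing_inv, (A : Matrix.SpecialLinearGroup (Fin 4) F4).2]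
  simp

end CfsgLib.Recog.FiM22Two.PointBlock
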