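import Cfsg.Agent.Lib.Recog.UsixMult.Plane.Generation
import Cfsg.Agent.Lib.Recog.FiM22.Factor.Top
import Cfsg.Agent.Lib.Recog.FiM22.ReadOff

set_option autoImplicit false
set_option maxRecDepth 20000

/-!
The members in a Sylow 2-subgroup of a group of type M(22) generate its Thompson subgroup (owner: helper6).
-/

namespace CfsgLib.Recog.FiM22Two

open Cfsg CfsgLib.ThreeTrans CfsgLib.Recog.FiM22 CfsgLib.Recog.UsixMult
open CfsgLib.Recog.UsixMult.Plane (Mod ea_map ea_subgroupOf)

universe u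

variable {G : Type u} [Group G] [Finite G] {D : Set G}

omit [Finite G] in
theorem ea_closure {S : Set G} (hc : ∀ x ∈ S, ∀ y ∈ S, Commute x y) (h2 : ∀ x ∈ S, x * x = 1) :
    IsElementaryAbelian 2 (Subgroup.closure S) := by
  have hcc : ∀ x ∈ Subgroup.closure S, ∀ y ∈ Subgroup.closure S, Commute x y := by
    intro x hx y hy
    induction hx, hy using Subgroup.closure_induction₂ with
    | mem x y hx hy => exact hc x hx y hy
    | one_left y _ => exact Commute.one_left y
    | one_right x _ => exact Commute.one_right x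
    | mul_left x y z _ _ _ h1 h2 => exact h1.mul_left h2
    | mul_right x y z _ _ _ h1 h2 => exact h1.mul_right h2
    | inv_left x y _ _ h => exact h.inv_left
    | inv_right x y _ _ h => exact h.inv_right
  refine ⟨⟨⟨fun a b => Subtype.ext (hcc a a.2 b b.2).eq⟩⟩, fun x hx => ?_⟩
  induction hx using Subgroup.closure_induction with
  | mem x hx => rw [pow_two]; exact h2 x hx
  | one => exact one_pow 2
  | mul x y hx hy ihx ihy => rw [(hcc x hx y hy).mul_pow, ihx, ihy, one_mul]
  | inv x _ ih => rw [inv_pow, ih, inv_one]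

omit [Finite G] in
theorem ea_comm {A : Subgroup G} (hA : IsElementaryAbelian 2 A) {x y : G} (hx : x ∈ A) (hy : y ∈ A) : Commute x y :=
  congrArg Subtype.val (hA.1.is_comm.comm (⟨x, hx⟩ : A) ⟨y, hy⟩)

/-- The centraliser of a member with its central extension structure. -/
theorem exists_mod_at {a : G} (B : FiM22.Base D a) :
    ∃ (σ : ↥(Subgroup.centralizer ({a} : Set G)) →* UsixMult.U0) (δ : ↥(Subgroup.centralizer ({a} : Set G))),
      Nonempty (Mod σ δ) ∧ (δ : G) = a := by
  set C := Subgroup.centralizer ({a} : Set G)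
  have hdc : IsNonsplitDoubleCover C Q6 := B.double_cover
  obtain ⟨q⟩ := hdc.2.1
  have hq := B.quasisimple
  rw [B.centralizer_eq] at hq
  have hperf : commutator C = ⊤ := hq.1.1.commutator_eq_top
  let σ : C →* UsixMult.U0 := q.toMonoidHom.comp (QuotientGroup.mk' _)
  have hker : σ.ker = Subgroup.center C := by
    ext x
    rw [MonoidHom.mem_ker]
    exact (q.map_eq_one_iff).trans (QuotientGroup.eq_one_iff x)
  let δ : C := ⟨a, Subgroup.mem_centralizer_singleton_iff.2 rfl⟩
  have ha1 : a ≠ 1 := fun e => by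
    have := B.grp.1.1 a B.mem
    rw [e, orderOf_one] at this
    norm_num at this
  have haa : a * a = 1 := by rw [← pow_two, ← B.grp.1.1 a B.mem, pow_orderOf_eq_one]
  have hσ : ∀ x : C, σ x = 1 ↔ x = 1 ∨ x = δ := fun x => by
    rw [← MonoidHom.mem_ker, hker, hq.2, Subgroup.mem_subgroupOf]
    constructor
    · rintro ⟨k, hk⟩
      change a ^ k = (x : G) at hk
      rcases Int.even_or_odd k with ⟨m, rfl⟩ | ⟨m, rfl⟩
      · rw [zpow_add, ← (Commute.refl a).mul_zpow, haa, one_zpow] at hk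
        exact Or.inl (Subtype.ext hk.symm)
      · rw [two_mul, zpow_add, zpow_add, ← (Commute.refl a).mul_zpow, haa, one_zpow, one_mul, zpow_one] at hk
        exact Or.inr (Subtype.ext hk.symm)
    · rintro (rfl | rfl)
      · exact one_mem _
      · exact Subgroup.mem_zpowers a
  have hst : Cfsg.IsStemExtension σ :=
    ⟨q.surjective.comp (QuotientGroup.mk'_surjective _), hker.le, by rw [hperf]; exact le_top⟩
  exact ⟨σ, δ, UsixMult.Plane.exists_mod σ δ hst hσ (fun h => ha1 (congrArg Subtype.val h)), rfl⟩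

/-- An elementary abelian 2-subgroup of order at least 1024 containing a member. -/
theorem at_member (hD : IsThreeTranspositionGroup D) (hprim : IsPrimitiveUnderConj D) (h22 : IsOfTypeM22 G D)
    {A : Subgroup G} (hA : IsElementaryAbelian 2 A) (hcard : 1024 ≤ Nat.card A) {e : G} (heD : e ∈ D) (heA : e ∈ A) :
    Nat.card A = 1024 ∧ Subgroup.closure {x : G | x ∈ A ∧ x ∈ D} = A ∧ {x : G | x ∈ A ∧ x ∈ D}.ncard = 22 := by
  obtain ⟨B⟩ := FiM22.exists_base_at hD hprim h22 heD
  obtain ⟨σ, δ, ⟨M⟩, hδ⟩ := exists_mod_at B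
  have hnwc : ∃ g : G, g * e * g⁻¹ ∈ Subgroup.centralizer ({e} : Set G) ∧ g * e * g⁻¹ ≠ e := by
    obtain ⟨f, hf⟩ := B.nbrs_nonempty
    obtain ⟨g, hg⟩ := hprim.1 e heD f hf.1
    exact ⟨g, by rw [hg, Subgroup.mem_centralizer_singleton_iff]; exact hf.2.2.eq.symm, by rw [hg]; exact hf.2.1⟩
  have hle : A ≤ Subgroup.centralizer ({e} : Set G) := fun x hx =>
    Subgroup.mem_centralizer_singleton_iff.2 (ea_comm hA hx heA).eq
  obtain ⟨c, hc⟩ := M.exists_conj_AA (ea_subgroupOf hA _)
    (by rwa [Nat.card_congr (Subgroup.subgroupOfEquivOfLe hle).toEquiv])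
  have hAG : A.map (MulAut.conj (c : G)).toMonoidHom = M.AG := by
    rw [Mod.AG, ← hc, Subgroup.map_map]
    conv_lhs => rw [← inf_eq_left.2 hle, ← Subgroup.subgroupOf_map_subtype, Subgroup.map_map]
    rfl
  have hD' : ∀ x, x ∈ D ↔ IsConj e x := fun x =>
    ⟨fun hx => isConj_iff.2 (hprim.1 e heD x hx), fun hx => by
      obtain ⟨g, rfl⟩ := isConj_iff.1 hx
      exact hD.2.1 g e heD⟩
  have himg : (MulAut.conj (c : G)) '' {x : G | x ∈ A ∧ x ∈ D} = {x : G | x ∈ M.AG ∧ IsConj e x} := by
    have hcj : ∀ x, IsConj x (MulAut.conj (c : G) x) := fun x => isConj_iff.2 ⟨c, rfl⟩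
    ext y
    constructor
    · rintro ⟨x, ⟨hx, hxD⟩, rfl⟩
      exact ⟨hAG ▸ ⟨x, hx, rfl⟩, ((hD' x).1 hxD).trans (hcj x)⟩
    · rintro ⟨hy, hcy⟩
      rw [← hAG] at hy
      obtain ⟨x, hx, rfl⟩ := hy
      exact ⟨x, ⟨hx, (hD' x).2 (hcy.trans (hcj x).symm)⟩, rfl⟩
  refine ⟨?_, ?_, ?_⟩
  · rw [← Subgroup.card_map_of_injective (f := (MulAut.conj (c : G)).toMonoidHom) (MulAut.conj (c : G)).injective, hAG,
      M.card_AG]
  · refine Subgroup.map_injective (f := (MulAut.conj (c : G)).toMonoidHom) (MulAut.conj (c : G)).injective ?_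
    rw [hAG, MonoidHom.map_closure]
    exact (congrArg Subgroup.closure himg).trans (M.closure_eq_AG hδ hnwc)
  · rw [← Set.ncard_image_of_injective _ (MulAut.conj (c : G)).injective, himg, M.ncard_eq_22 hδ hnwc]

/-- An elementary abelian 2-subgroup of order at least 1024 contains a member. -/
theorem exists_member (hD : IsThreeTranspositionGroup D) (hprim : IsPrimitiveUnderConj D) (h22 : IsOfTypeM22 G D)
    {A : Subgroup G} (hA : IsElementaryAbelian 2 A) (hcard : 1024 ≤ Nat.card A) : ∃ e ∈ D, e ∈ A := by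
  classical
  haveI : Fact (Nat.Prime 2) := ⟨Nat.prime_two⟩
  have hsq : ∀ x ∈ D, x * x = 1 := fun x hx => by rw [← pow_two, ← hD.1.1 x hx, pow_orderOf_eq_one]
  letI : MulAction A D :=
    { smul := fun g x => ⟨g.1 * x.1 * g.1⁻¹, hD.2.1 g.1 x.1 x.2⟩
      one_smul := fun x => Subtype.ext (by show (1 : G) * x.1 * (1 : G)⁻¹ = x.1; group)
      mul_smul := fun g h x => Subtype.ext (by
        show g.1 * h.1 * x.1 * (g.1 * h.1)⁻¹ = g.1 * (h.1 * x.1 * h.1⁻¹) * g.1⁻¹; group) }
  have hp : IsPGroup 2 A := fun x => ⟨1, Subtype.ext (by simpa using hA.2 x x.2)⟩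
  obtain ⟨d, hd⟩ : ∃ d : D, (MulAction.stabilizer A d).index ≤ 2 := by
    by_contra hno
    push Not at hno
    haveI : Fintype D := Fintype.ofFinite D
    have h4 : 4 ∣ Nat.card D := by
      rw [Nat.card_congr (MulAction.selfEquivSigmaOrbits A D), Nat.card_sigma]
      refine Finset.dvd_sum fun ω _ => ?_
      obtain ⟨x, hxω⟩ : ∃ x : D, ω.out = x := ⟨_, rfl⟩
      rw [hxω, Nat.card_coe_set_eq, ← MulAction.index_stabilizer]
      obtain ⟨n, hn⟩ := hp.index (MulAction.stabilizer A x)
      have := hno x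
      rw [hn] at this ⊢
      obtain ⟨m, rfl⟩ : ∃ m, n = m + 2 := by
        rcases n with _ | _ | n
        · norm_num at this
        · norm_num at this
        · exact ⟨n, rfl⟩
      exact ⟨2 ^ m, by ring⟩
    rw [Nat.card_coe_set_eq, FiM22.card_class hD hprim h22] at h4
    norm_num at h4
  set A0 := A ⊓ Subgroup.centralizer ({(d : G)} : Set G)
  have hmem : ∀ x : A, x ∈ MulAction.stabilizer A d ↔ (x : G) ∈ A0 := fun x => by
    rw [Subgroup.mem_inf, Subgroup.mem_centralizer_singleton_iff, MulAction.mem_stabilizer_iff, Subtype.ext_iff]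
    exact ⟨fun h => ⟨x.2, mul_inv_eq_iff_eq_mul.1 h⟩, fun h => mul_inv_eq_iff_eq_mul.2 h.2⟩
  have hA0card : Nat.card A0 * (MulAction.stabilizer A d).index = Nat.card A := by
    rw [show MulAction.stabilizer A d = A0.subgroupOf A by ext x; exact (hmem x).trans Subgroup.mem_subgroupOf.symm,
      ← Nat.card_congr (Subgroup.subgroupOfEquivOfLe (inf_le_left : A0 ≤ A)).toEquiv, Subgroup.card_mul_index]
  have hA1 : IsElementaryAbelian 2 (Subgroup.closure ((A0 : Set G) ∪ {(d : G)})) := by
    refine ea_closure ?_ ?_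
    · rintro x (hx | rfl) y (hy | rfl)
      · exact ea_comm hA hx.1 hy.1
      · exact Subgroup.mem_centralizer_singleton_iff.1 hx.2
      · exact (Subgroup.mem_centralizer_singleton_iff.1 hy.2).symm
      · exact Commute.refl _
    · rintro x (hx | rfl)
      · rw [← pow_two]; exact hA.2 x hx.1
      · exact hsq _ d.2
  set A1 := Subgroup.closure ((A0 : Set G) ∪ {(d : G)})
  have hd1 : (d : G) ∈ A1 := Subgroup.subset_closure (Or.inr rfl)
  have h01 : A0 ≤ A1 := fun x hx => Subgroup.subset_closure (Or.inl hx)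
  by_cases hdA : (d : G) ∈ A
  · exact ⟨d, d.2, hdA⟩
  have hdA0 : (d : G) ∉ A0 := fun h => hdA h.1
  have h1card : 2 * Nat.card A0 ≤ Nat.card A1 := by
    have hlt : A0 < A1 := lt_of_le_of_ne h01 fun e => hdA0 (e.symm ▸ hd1)
    obtain ⟨m, hm⟩ := Subgroup.card_dvd_of_le h01
    have hne : Nat.card A1 ≠ Nat.card A0 := fun e => hlt.ne (Subgroup.eq_of_le_of_card_ge h01 e.le)
    rcases m with _ | _ | m
    · rw [mul_zero] at hm; exact absurd hm Nat.card_pos.ne'
    · rw [zero_add, mul_one] at hm; exact absurd hm hne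
    · have h2 : Nat.card A0 * 2 ≤ Nat.card A0 * (m + 1 + 1) := Nat.mul_le_mul_left _ (by omega)
      omega
  obtain ⟨hc1, -, h22c⟩ := at_member hD hprim h22 hA1 (by nlinarith [hd, hA0card, hcard, h1card]) d.2 hd1
  have hidx : (MulAction.stabilizer A d).index = 2 := by
    have : (MulAction.stabilizer A d).index ≠ 1 := fun e => by
      rw [e, mul_one] at hA0card
      omega
    have := Subgroup.index_ne_zero_of_finite (H := MulAction.stabilizer A d)
    omega
  obtain ⟨x, hx⟩ : ∃ x : A, x • d ≠ d := by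
    by_contra hall
    push Not at hall
    rw [show MulAction.stabilizer A d = ⊤ from eq_top_iff.2 fun x _ => hall x, Subgroup.index_top] at hidx
    omega
  by_contra hnone
  push Not at hnone
  have hcoset : ∀ f ∈ A1, f ∉ A0 → (d : G) * f ∈ A0 := by
    intro f hf hf0
    have hA0i : (A0.subgroupOf A1).index = 2 := by
      have := (A0.subgroupOf A1).card_mul_index
      rw [Nat.card_congr (Subgroup.subgroupOfEquivOfLe h01).toEquiv, hc1] at this
      rw [hidx] at hA0card
      have h512 : 512 ≤ Nat.card A0 := by omega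
      nlinarith
    have := (Subgroup.mul_mem_iff_of_index_two hA0i (a := (⟨d, hd1⟩ : A1)) (b := ⟨f, hf⟩)).2
      (by simp [Subgroup.mem_subgroupOf, hdA0, hf0])
    exact this
  have h4 := Factor.m22_noRel hD h22
  have huniq : ∀ f ∈ D, f ≠ (d : G) → f ∈ A1 → f = (x • d : D) := by
    intro f hf hfd hfA
    have hf0 : f ∉ A0 := fun h => hnone f hf h.1
    have hdf := hcoset f hfA hf0
    set d' : G := ((x • d : D) : G)
    set f' : G := x.1 * f * x.1⁻¹
    have hl : Factor.ComList D [(d : G), f] :=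
      ⟨by simp [Ne.symm hfd], by simp [d.2, hf], by
        simp only [List.mem_cons, List.not_mem_nil, or_false]
        rintro p (rfl | rfl) q (rfl | rfl)
        exacts [Commute.refl _, ea_comm hA1 hd1 hfA, ea_comm hA1 hfA hd1, Commute.refl _]⟩
    have hl' := hl.conj hD.2.1 x.1
    have heq : [(d : G), f].prod = ([(d : G), f].map (MulAut.conj x.1)).prod := by
      rw [← map_list_prod, MulAut.conj_apply, List.prod_cons, List.prod_cons, List.prod_nil, mul_one,
        (ea_comm hA x.2 hdf.1).eq, mul_inv_cancel_right]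
    rcases Factor.same_or_disjoint hD.1 h4 hl hl' rfl (by simp) (by norm_num) heq with h | ⟨h, -⟩
    · have := (h d').2 (by simp [d']; left; rfl)
      simp only [List.mem_cons, List.not_mem_nil, or_false] at this
      rcases this with e | e
      · exact absurd (Subtype.ext e) hx
      · exact e.symm
    · exact absurd h (by norm_num)
  have hsub : {y : G | y ∈ A1 ∧ y ∈ D} ⊆ {(d : G), ((x • d : D) : G)} := by
    rintro y ⟨hy1, hy2⟩
    by_cases e : y = (d : G)
    · exact Or.inl e
    · exact Or.inr (huniq y hy2 e hy1)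
  have := Set.ncard_le_ncard hsub (Set.toFinite _)
  rw [h22c] at this
  have := this.trans (Set.ncard_insert_le _ _)
  rw [Set.ncard_singleton] at this
  omega

theorem commute_in_two_group (hD : IsThreeTranspositionGroup D) (T : Sylow 2 G) {x y : G}
    (hx : x ∈ D ∧ x ∈ (T : Subgroup G)) (hy : y ∈ D ∧ y ∈ (T : Subgroup G)) : Commute x y := by
  have sqx : x * x = 1 := by rw [← pow_two, ← hD.1.1 x hx.1, pow_orderOf_eq_one]
  have sqy : y * y = 1 := by rw [← pow_two, ← hD.1.1 y hy.1, pow_orderOf_eq_one]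
  have h2 : (x * y) ^ 2 = 1 := by
    rcases hD.1.2 x hx.1 y hy.1 with h | h
    · exact h
    obtain ⟨k, hk⟩ := T.isPGroup' ⟨x * y, mul_mem hx.2 hy.2⟩
    have hk' : (x * y) ^ 2 ^ k = 1 := congrArg Subtype.val hk
    have h1 := Nat.dvd_gcd (orderOf_dvd_of_pow_eq_one h) (orderOf_dvd_of_pow_eq_one hk')
    rw [Nat.Coprime.gcd_eq_one (Nat.Coprime.pow_right k (by norm_num)), Nat.dvd_one, orderOf_eq_one_iff] at h1
    rw [h1, one_pow]
  show x * y = y * x
  rw [pow_two] at h2
  rw [eq_inv_of_mul_eq_one_left h2, mul_inv_rev, inv_eq_of_mul_eq_one_right sqx, inv_eq_of_mul_eq_one_right sqy]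

/-- The members in a Sylow 2-subgroup generate its Thompson subgroup. -/
theorem closure_eq_thompson (hD : IsThreeTranspositionGroup D) (hprim : IsPrimitiveUnderConj D)
    (h22 : IsOfTypeM22 G D) (T : Sylow 2 G) :
    Subgroup.closure {x : G | x ∈ D ∧ x ∈ (T : Subgroup G)} = Cfsg.thompsonSubgroupOf 2 (T : Subgroup G) := by
  haveI : Fact (Nat.Prime 2) := ⟨Nat.prime_two⟩
  set K := Subgroup.closure {x : G | x ∈ D ∧ x ∈ (T : Subgroup G)}
  have hKT : K ≤ T := (Subgroup.closure_le _).2 fun x hx => hx.2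
  have hK : IsElementaryAbelian 2 K := ea_closure (fun x hx y hy => commute_in_two_group hD T hx hy)
    fun x hx => by rw [← pow_two, ← hD.1.1 x hx.1, pow_orderOf_eq_one]
  have hbound : ∀ A : Subgroup G, IsElementaryAbelian 2 A → 1024 ≤ Nat.card A →
      Nat.card A = 1024 ∧ (A ≤ T → A ≤ K) := by
    intro A hA hcA
    obtain ⟨e, he, heA⟩ := exists_member hD hprim h22 hA hcA
    obtain ⟨h1, hgen, -⟩ := at_member hD hprim h22 hA hcA he heA
    refine ⟨h1, fun hAT => hgen ▸ Subgroup.closure_mono fun y hy => ⟨hy.2, hAT ?_⟩⟩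
    exact hgen.symm ▸ hy.1
  obtain ⟨A, hA, hAT, hcA⟩ : ∃ A : Subgroup G, IsElementaryAbelian 2 A ∧ A ≤ T ∧ Nat.card A = 1024 := by
    obtain ⟨a, ⟨B⟩⟩ := FiM22.exists_base hD hprim h22
    obtain ⟨σ, δ, ⟨M⟩, -⟩ := exists_mod_at B
    have hp : IsPGroup 2 M.AG := fun x => ⟨1, Subtype.ext (by simpa using M.isElem_AG.2 x x.2)⟩
    obtain ⟨P, hP⟩ := hp.exists_le_sylow
    obtain ⟨g, hg⟩ := MulAction.exists_smul_eq G P T
    refine ⟨M.AG.map (MulAut.conj g).toMonoidHom, ea_map _ M.isElem_AG, ?_, ?_⟩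
    · rintro _ ⟨x, hx, rfl⟩
      rw [← hg, Sylow.coe_subgroup_smul]
      exact ⟨x, hP hx, rfl⟩
    · rw [Subgroup.card_map_of_injective (MulAut.conj g).injective, M.card_AG]
  have hK1 : Nat.card K = 1024 := by
    have := Subgroup.card_le_of_le ((hbound A hA hcA.ge).2 hAT)
    exact (hbound K hK (hcA ▸ this)).1
  have hmax : Cfsg.maxElementaryAbelianSubgroups 2 (T : Subgroup G) = {K.subgroupOf T} := by
    have hcK : Nat.card (K.subgroupOf (T : Subgroup G)) = 1024 :=
      (Nat.card_congr (Subgroup.subgroupOfEquivOfLe hKT).toEquiv).trans hK1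
    ext B
    constructor
    · rintro ⟨hB, hmx⟩
      have hcB : 1024 ≤ Nat.card B := hcK ▸ hmx _ (ea_subgroupOf hK _)
      have hcB' : Nat.card (B.map (T : Subgroup G).subtype) = Nat.card B :=
        Subgroup.card_map_of_injective (Subgroup.subtype_injective _)
      obtain ⟨h1, hle⟩ := hbound (B.map (T : Subgroup G).subtype) (ea_map _ hB) (by rw [hcB']; exact hcB)
      refine Subgroup.eq_of_le_of_card_ge (fun b hb => Subgroup.mem_subgroupOf.2
        (hle (Subgroup.map_subtype_le B) ⟨b, hb, rfl⟩)) (by rw [hcK, ← hcB', h1])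
    · rintro rfl
      refine ⟨ea_subgroupOf hK _, fun B hB => ?_⟩
      by_contra hlt
      have hcB' : Nat.card (B.map (T : Subgroup G).subtype) = Nat.card B :=
        Subgroup.card_map_of_injective (Subgroup.subtype_injective _)
      have := (hbound (B.map (T : Subgroup G).subtype) (ea_map _ hB) (by omega)).1
      omega
  rw [Cfsg.thompsonSubgroupOf, Cfsg.thompsonSubgroup, hmax, sSup_singleton, Subgroup.subgroupOf_map_subtype,
    inf_eq_left.2 hKT]

end CfsgLib.Recog.FiM22Two
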