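import Cfsg.Agent.Lib.Recog.FiM22Two.SectionPrim
import Cfsg.Agent.Lib.Recog.FiM22.ReadOff

set_option autoImplicit false

/-!
Groups of type M(23): the section at one member is a primitive group of type M(22), and commuting triples are
conjugate (owner: helper6).
-/

namespace CfsgLib.Recog.FiM22Two

open Cfsg CfsgLib.ThreeTrans CfsgLib.Recog.FiM22.Factor

universe u

variable {G : Type u} [Group G] [Finite G] {D : Set G}

/-- A member whose section is a primitive group of type M(22). -/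
structure Sec22 (D : Set G) (d : G) : Prop where
  mem : d ∈ D
  setting : RankThree.Setting D
  non : ∀ e ∈ nb D d, Noncentral D d e
  grp : IsThreeTranspositionGroup (secSet D d)
  prim : IsPrimitiveUnderConj (secSet D d)
  type : IsOfTypeM22 (SecG D d) (secSet D d)
  width : ∃ p ∈ secSet D d, ∃ q ∈ secSet D d, p ≠ q ∧ Commute p q

/-- In a group of type M(22) with a connected class the cores of prime order are trivial. -/
theorem core_of_pre {Q : Type u} [Group Q] [Finite Q] {E : Set Q} {a b : Q} (P : Pre E a b)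
    (htrans : ∀ x ∈ E, ∀ y ∈ E, ∃ g : Q, g * x * g⁻¹ = y)
    (hcommon : ∀ x ∈ E, ∀ y ∈ E, ¬ Commute x y → ∃ z ∈ nb E x, Commute z y) {p : ℕ} [Fact p.Prime] :
    Cfsg.pCore p Q = ⊥ := by
  haveI := FiM22.psu_simple
  set M := Cfsg.pCore p Q
  haveI hMn : M.Normal := inferInstance
  have hS := P.grp.1
  set H := Subgroup.closure (nb E a)
  let φ : ↥H →* FiM22.Q6 := P.iso.toMonoidHom.comp (QuotientGroup.mk' _)
  have hφ : Function.Surjective φ := P.iso.surjective.comp (QuotientGroup.mk'_surjective _)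
  haveI hK : ((M.subgroupOf H).map φ).Normal := ((hMn.subgroupOf H)).map _ hφ
  have hbot : (M.subgroupOf H).map φ = ⊥ := by
    refine hK.eq_bot_or_eq_top.resolve_right fun h => ?_
    have hP : IsPGroup p ↥((M.subgroupOf H).map φ) :=
      (((CfsgLib.Core.isPGroup_pCore p Q).comap_subtype (K := H)) : IsPGroup p ↥(M.subgroupOf H)).map φ
    obtain ⟨n, hn⟩ := IsPGroup.iff_card.1 hP
    rw [h, Subgroup.card_top, show FiM22.Q6 = Cfsg.PSU 6 CfsgLib.Recog.SporBound.Fi22U6.F4 2 from rfl,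
      CfsgLib.Recog.SporBound.Fi22U6.card_psu] at hn
    have h5 : (5 : ℕ) ∣ p ^ n := hn ▸ (by norm_num)
    have h3 : (3 : ℕ) ∣ p ^ n := hn ▸ (by norm_num)
    have hp := (Fact.out : p.Prime)
    have e5 := (Nat.prime_dvd_prime_iff_eq (by norm_num) hp).1 ((by norm_num : Nat.Prime 5).dvd_of_dvd_pow h5)
    have e3 := (Nat.prime_dvd_prime_iff_eq (by norm_num) hp).1 ((by norm_num : Nat.Prime 3).dvd_of_dvd_pow h3)
    omega
  have hfix : ∀ m ∈ M, Commute m a → ∀ z ∈ nb E a, Commute m z := by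
    intro m hm hma z hz
    have hma' : m * a * m⁻¹ = a := by rw [hma.eq, mul_inv_cancel_right]
    have hz' : m * z * m⁻¹ ∈ nb E a := ⟨P.grp.2.1 m z hz.1,
      fun h => hz.2.1 (mul_left_cancel (mul_right_cancel (h.trans hma'.symm))),
      by rw [← hma']; exact commute_conj_iff.2 hz.2.2⟩
    have hmem : z * (m * z * m⁻¹) ∈ M := by
      rw [show z * (m * z * m⁻¹) = (z * m * z⁻¹) * (z * z) * m⁻¹ by group, mul_self hS hz.1, mul_one]
      exact mul_mem (hMn.conj_mem m hm z) (inv_mem hm)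
    let u : ↥H := ⟨z, Subgroup.subset_closure hz⟩ * ⟨m * z * m⁻¹, Subgroup.subset_closure hz'⟩
    have h1 : φ u = 1 := Subgroup.mem_bot.1 (hbot ▸ Subgroup.mem_map_of_mem φ (Subgroup.mem_subgroupOf.2 hmem : u ∈ M.subgroupOf H))
    have h2 : im hz * im hz' = (1 : SecG E a) := P.iso.map_eq_one_iff.1 h1
    have h4 : im hz = im hz' := by
      rw [eq_inv_of_mul_eq_one_left h2]
      exact inv_eq_of_mul_eq_one_right (im_mul_self hS hz')
    exact mul_inv_eq_iff_eq_mul.1 (im_inj hS (P.noncentral hz) hz' h4).symm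
  -- the fixed points of a member on M are those of each commuting member
  have hall : ∀ x ∈ E, ∀ m ∈ M, Commute m x → ∀ z ∈ nb E x, Commute m z := by
    intro x hx m hm hmx z hz
    obtain ⟨g, hg⟩ := htrans x hx a P.mema
    have := hfix (g * m * g⁻¹) (hMn.conj_mem m hm g) (hg ▸ commute_conj_iff.2 hmx) (g * z * g⁻¹)
      ⟨P.grp.2.1 g z hz.1, fun h => hz.2.1 (mul_left_cancel (mul_right_cancel (h.trans hg.symm))),
        hg ▸ commute_conj_iff.2 hz.2.2⟩
    exact commute_conj_iff.1 this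
  have hcent : ∀ x ∈ E, ∀ m ∈ M, Commute m x := by
    intro x hx m hm
    set y := m * x * m⁻¹
    have hy : y ∈ E := P.grp.2.1 m x hx
    have hw : x * y ∈ M := by
      rw [show x * y = (x * m * x⁻¹) * (x * x) * m⁻¹ by simp only [y]; group, mul_self hS hx, mul_one]
      exact mul_mem (hMn.conj_mem m hm x) (inv_mem hm)
    by_contra hne
    have hxy : x ≠ y := fun h => hne (mul_inv_eq_iff_eq_mul.1 h.symm)
    have hcomm : Commute x y → False := fun hc => by
      have hmem : Commute (x * y) x := (Commute.refl x).mul_left hc.symm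
      have h := hall x hx _ hw hmem
      obtain ⟨g, hg⟩ := htrans x hx a P.mema
      have hyn : g * y * g⁻¹ ∈ nb E a :=
        ⟨P.grp.2.1 g y hy, fun h => hxy (mul_left_cancel (mul_right_cancel (hg.trans h.symm))),
          hg ▸ commute_conj_iff.2 hc⟩
      obtain ⟨f', hf', hn'⟩ := (P.noncentral hyn).2
      have hg' : g * (g⁻¹ * f' * g) * g⁻¹ = f' := conj_cancel g f'
      have hz : g⁻¹ * f' * g ∈ nb E x := ⟨by simpa using P.grp.2.1 g⁻¹ f' hf'.1,
        fun h => hf'.2.1 (by rw [← hg', h, hg]),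
        by rw [← commute_conj_iff (g := g), hg', hg]; exact hf'.2.2⟩
      have hzy := (h _ hz)
      have hzx : Commute (g⁻¹ * f' * g) x := hz.2.2.symm
      refine hn' ?_
      rw [← hg', commute_conj_iff]
      have : Commute (x * (x * y)) (g⁻¹ * f' * g) := hzx.symm.mul_left hzy
      rwa [mul_self_assoc hS hx] at this
    by_cases hc : Commute x y
    · exact hcomm hc
    obtain ⟨z, hz, hzy⟩ := hcommon x hx y hy hc
    have hwz : Commute (x * y) z := hz.2.2.mul_left hzy.symm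
    have hwx := hall z hz.1 _ hw hwz x ⟨hx, hz.2.1.symm, hz.2.2.symm⟩
    have h3 : (x * y) ^ 3 = 1 := pow_three hS hx hy hc
    have h2 : (x * y) ^ 2 = 1 := by
      rw [pow_two, show x * y * (x * y) = x * y * x * y by group, hwx.eq, ← mul_assoc x x y, mul_self hS hx, one_mul,
        mul_self hS hy]
    rw [pow_succ, h2, one_mul] at h3
    exact hxy (by rw [← inv_eq hS hy]; exact eq_inv_of_mul_eq_one_left h3)
  refine le_bot_iff.1 (P.centre ▸ fun m hm => Subgroup.mem_center_iff.2 fun g => ?_)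
  exact (RankThree.commute_closure (fun x hx => hcent x hx m hm) (P.grp.2.2 ▸ Subgroup.mem_top g : g ∈ _)).eq.symm

theorem exists_sec22 (hD : IsThreeTranspositionGroup D) (hprim : IsPrimitiveUnderConj D)
    (h : IsOfTypeM23 G D) : ∃ d, Sec22 D d := by
  have T := trans_of_prim hD hprim
  obtain ⟨-, d, hd, c, hc, hdc, h22, c₃, hc₃, hL⟩ := h
  obtain ⟨a, b, ⟨P⟩⟩ := exists_pre h22 (secGrp hD)
  have hnon : ∀ e ∈ nb D d, Noncentral D d e := fun e he => noncentral_of_sep T hd P.sep ⟨a, P.mema⟩ he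
  have hns : ¬ Group.IsSolvable ↥(Subgroup.closure (nb D d ∩ nb D c)) := fun hs => by
    haveI := hs
    exact not_solvable_of_projRefl (n := 7) (by norm_num) hc₃ hL
      (Group.isSolvable_of_surjective (f := QuotientGroup.mk' _) (QuotientGroup.mk'_surjective _))
  obtain ⟨e, he⟩ := P.exists_noncentral
  have hw : ∃ p ∈ secSet D d, ∃ q ∈ secSet D d, p ≠ q ∧ Commute p q :=
    ⟨a, P.mema.1, e, he.1.1.1, he.1.2.1.symm, he.1.2.2⟩
  obtain ⟨p₀, ⟨⟨e₀, he₀⟩, hm₀, rfl⟩, -⟩ := id hw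
  have hw' : ∃ a ∈ D, ∃ b ∈ D, a ≠ b ∧ Commute a b := ⟨d, hd, e₀, hm₀.1, hm₀.2.1.symm, hm₀.2.2⟩
  have hsec : secSet D d \ {1} = secSet D d := by
    refine Set.sdiff_singleton_eq_self fun hm => ?_
    obtain ⟨⟨e, he⟩, hme, h1⟩ := hm
    exact (hnon e hme).im_ne_one h1
  have S := setting_of_prim hD hprim hw'
  have hcore : ∀ p : ℕ, p = 2 ∨ p = 3 → Cfsg.pCore p (SecG D d) = ⊥ := by
    intro p hp
    haveI : Fact p.Prime := ⟨by rcases hp with rfl | rfl <;> norm_num⟩
    refine core_of_pre P (fun x hx y hy => ?_) fun x hx y hy hxy => ?_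
    · obtain ⟨f, hf, rfl⟩ := exists_of_mem_sec hx
      obtain ⟨f', hf', rfl⟩ := exists_of_mem_sec hy
      obtain ⟨g, hg, hgf⟩ := S.commute_comp hd hf.1.1 hf.1.2.1 hf.1.2.2 hf'.1.1 hf'.1.2.1 hf'.1.2.2
      refine ⟨QuotientGroup.mk ⟨g, hg⟩, ?_⟩
      exact congrArg (QuotientGroup.mk (s := Subgroup.center ↥(Subgroup.closure (nb D d)))) (Subtype.ext hgf)
    · obtain ⟨f, hf, rfl⟩ := exists_of_mem_sec hx
      obtain ⟨f', hf', rfl⟩ := exists_of_mem_sec hy
      rw [im_commute hD.1 hf hf'.1] at hxy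
      obtain ⟨s, hs, hsf, hfs, hsf'⟩ := (nb_connected hD S hd hc hdc hns hd hf.1 hf'.1).resolve_left hxy
      exact ⟨im hs, ⟨⟨im_mem_set hs, (hnon s hs).im_ne_one⟩, fun e => hsf (im_inj hD.1 (hnon s hs) hf.1 e),
        (im_commute hD.1 hf hs).2 hfs⟩, (im_commute hD.1 (hnon s hs) hf'.1).2 hsf'⟩
  obtain ⟨-, hgrp, hp⟩ := secPrim hD hprim hd hc hdc hns hd hnon h22.1 hw hcore
  exact ⟨d, hd, setting_of_prim hD hprim hw', hnon, hgrp, hp, h22, hw⟩

namespace Sec22

variable {d : G} (S : Sec22 D d)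
include S

/-- Commuting neighbours with a common neighbour are conjugate fixing the first. -/
theorem move {x b b' : G} (hx : x ∈ nb D d) (hb : b ∈ nb D d) (hb' : b' ∈ nb D d) (hxb : x ≠ b) (hxb' : x ≠ b')
    (cb : Commute x b) (cb' : Commute x b') : ∃ k : G, Commute k d ∧ k * x * k⁻¹ = x ∧ k * b * k⁻¹ = b' := by
  have hS := S.setting.grp.1
  have hne : ∀ {y} (hy : y ∈ nb D d), x ≠ y → im hy ≠ im hx := fun hy h e =>
    h (im_inj hS (S.non x hx) hy e.symm)
  obtain ⟨q, hqx, hqb⟩ := (setting_of_prim S.grp S.prim S.width).commute_transitive (im_mem_set hx) (im_mem_set hb)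
    (hne hb hxb) ((im_commute hS (S.non x hx) hb).2 cb) (im_mem_set hb') (hne hb' hxb')
    ((im_commute hS (S.non x hx) hb').2 cb')
  obtain ⟨⟨k, hk⟩, rfl⟩ := QuotientGroup.mk_surjective q
  have hcd : Commute d k := RankThree.commute_closure (fun _ hz => hz.2.2) hk
  have hkd : k * d * k⁻¹ = d := by rw [← hcd.eq, mul_inv_cancel_right]
  have hin : ∀ {y : G}, y ∈ nb D d → k * y * k⁻¹ ∈ nb D d := fun {y} hy =>
    ⟨S.setting.grp.2.1 k y hy.1, fun e => hy.2.1 (mul_left_cancel (mul_right_cancel (e.trans hkd.symm))),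
      by rw [← hkd]; exact commute_conj_iff.2 hy.2.2⟩
  have him : ∀ {y : G} (hy : y ∈ nb D d), im (hin hy) =
      (QuotientGroup.mk ⟨k, hk⟩ : SecG D d) * im hy * (QuotientGroup.mk ⟨k, hk⟩)⁻¹ := fun hy => rfl
  refine ⟨k, hcd.symm, ?_, ?_⟩
  · refine (im_inj hS (S.non x hx) (hin hx) ?_).symm
    rw [him hx, hqx.eq, mul_inv_cancel_right]
  · refine (im_inj hS (S.non b' hb') (hin hb) ?_).symm
    rw [him hb]
    exact hqb.symm

/-- Any two ordered triples of commuting members are conjugate. -/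
theorem triple_conj {x y z x' y' z' : G} (hl : ComList D [x, y, z]) (hl' : ComList D [x', y', z']) :
    ∃ g : G, g * x * g⁻¹ = x' ∧ g * y * g⁻¹ = y' ∧ g * z * g⁻¹ = z' := by
  obtain ⟨b, ⟨⟨e, he⟩, hme', -⟩, -⟩ := S.width
  have hme : e ∈ nb D d := hme'
  have key : ∀ {x y z : G}, ComList D [x, y, z] →
      ∃ g : G, g * x * g⁻¹ = d ∧ g * y * g⁻¹ = e ∧ g * z * g⁻¹ ∈ nb D d ∧ g * z * g⁻¹ ≠ e ∧ Commute e (g * z * g⁻¹) := by
    intro x y z hl
    obtain ⟨g, hg⟩ := class_trans S.setting.cls (hl.mem x (by simp)) S.mem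
    have hn := hl.nodup
    simp only [List.nodup_cons, List.mem_cons, List.not_mem_nil, not_or, not_false_iff, and_true, List.nodup_nil,
      or_false] at hn
    have hc := hl.comm
    have hD := S.setting.grp.2.1
    have hgy : g * y * g⁻¹ ∈ nb D d := ⟨hD g y (hl.mem y (by simp)),
      fun h => hn.1.1 (mul_left_cancel (mul_right_cancel (hg.trans h.symm))),
      hg ▸ commute_conj_iff.2 (hc x (by simp) y (by simp))⟩
    obtain ⟨k, hk, hky⟩ := S.setting.commute_transitive S.mem hgy.1 hgy.2.1 hgy.2.2 hme.1 hme.2.1 hme.2.2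
    refine ⟨k * g, ?_, ?_, ?_⟩
    · rw [show k * g * x * (k * g)⁻¹ = k * (g * x * g⁻¹) * k⁻¹ by group, hg, hk.eq, mul_inv_cancel_right]
    · rw [← hky]; group
    have hx : k * g * x * (k * g)⁻¹ = d := by
      rw [show k * g * x * (k * g)⁻¹ = k * (g * x * g⁻¹) * k⁻¹ by group, hg, hk.eq, mul_inv_cancel_right]
    have hy : k * g * y * (k * g)⁻¹ = e := by rw [← hky]; group
    exact ⟨⟨hD (k * g) z (hl.mem z (by simp)),
      fun h => hn.1.2 (mul_left_cancel (mul_right_cancel (hx.trans h.symm))),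
      hx ▸ commute_conj_iff.2 (hc x (by simp) z (by simp))⟩,
      fun h => hn.2 (mul_left_cancel (mul_right_cancel (hy.trans h.symm))),
      hy ▸ commute_conj_iff.2 (hc y (by simp) z (by simp))⟩
  obtain ⟨g, gx, gy, gz, gne, gc⟩ := key hl
  obtain ⟨g', gx', gy', gz', gne', gc'⟩ := key hl'
  obtain ⟨k, kd, ke, kz⟩ := S.move hme gz gz' gne.symm gne'.symm gc gc'
  refine ⟨g'⁻¹ * k * g, ?_, ?_, ?_⟩
  · rw [show g'⁻¹ * k * g * x * (g'⁻¹ * k * g)⁻¹ = g'⁻¹ * (k * (g * x * g⁻¹) * k⁻¹) * g' by group, gx, kd.eq,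
      mul_inv_cancel_right, ← gx']
    group
  · rw [show g'⁻¹ * k * g * y * (g'⁻¹ * k * g)⁻¹ = g'⁻¹ * (k * (g * y * g⁻¹) * k⁻¹) * g' by group, gy, ke, ← gy']
    group
  · rw [show g'⁻¹ * k * g * z * (g'⁻¹ * k * g)⁻¹ = g'⁻¹ * (k * (g * z * g⁻¹) * k⁻¹) * g' by group, kz]
    group

end Sec22

end CfsgLib.Recog.FiM22Two
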