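import Cfsg.Agent.Lib.Recog.FiM22Two.CentM23
import Cfsg.Agent.Lib.Recog.FiM23.Identify
import Cfsg.Agent.Lib.Recog.FiThree.Aut.Main
import Cfsg.Agent.S0293
import Cfsg.Agent.S0296

set_option autoImplicit false
set_option maxRecDepth 20000

/-!
Groups of type M(24): the section at a member is a primitive group of type M(23), and an element fixing a member and
its neighbours is trivial or that member (owner: helper6).
-/

namespace CfsgLib.Recog.FiM22Two

open Cfsg CfsgLib.ThreeTrans CfsgLib.Recog.FiM22.Factor CfsgLib.Recog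

universe u

/-- The group PΩ⁺(8, 3) is not solvable. -/
theorem not_solvable_pOmega : ¬ Group.IsSolvable (POmega (ZMod 3) (quadFormPlus 4 (ZMod 3))) := by
  intro h
  haveI := Cfsg.Agent.S0296.result (F := ZMod 3) 4 le_rfl
  have hc := Cfsg.Agent.S0293.result (F := ZMod 3) (q := 3) (ZMod.card 3) 4 le_rfl
  have hcomm : ∀ a b : POmega (ZMod 3) (quadFormPlus 4 (ZMod 3)), a * b = b * a :=
    IsSimpleGroup.comm_iff_isSolvable.2 h
  letI : CommGroup (POmega (ZMod 3) (quadFormPlus 4 (ZMod 3))) := { (inferInstance : Group (POmega (ZMod 3) (quadFormPlus 4 (ZMod 3)))) with mul_comm := hcomm }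
  haveI : Finite (POmega (ZMod 3) (quadFormPlus 4 (ZMod 3))) := Nat.finite_of_card_ne_zero fun h0 => by
    rw [h0] at hc
    norm_num [Finset.prod_range_succ] at hc
  have hp : (Nat.card (POmega (ZMod 3) (quadFormPlus 4 (ZMod 3)))).Prime := IsSimpleGroup.prime_card
  norm_num [Finset.prod_range_succ] at hc
  obtain ⟨-, hdiv⟩ := Nat.prime_def.1 hp
  rcases hdiv 3 (Dvd.intro _ (show 3 * (Nat.card (POmega (ZMod 3) (quadFormPlus 4 (ZMod 3))) / 3) = _ by omega))
    with h3 | h3 <;> omega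

section General

variable {G : Type u} [Group G] {D : Set G}

theorem nb_move (hD : IsThreeTranspositionGroup D) {k d d' e : G} (hk : k * d * k⁻¹ = d') (he : e ∈ nb D d) :
    k * e * k⁻¹ ∈ nb D d' :=
  ⟨hD.2.1 k e he.1, fun h => he.2.1 (mul_left_cancel (mul_right_cancel (h.trans hk.symm))),
    hk ▸ commute_conj_iff.2 he.2.2⟩

theorem conj_self_of_commute {k d : G} (h : Commute k d) : k * d * k⁻¹ = d := by
  rw [h.eq, mul_inv_cancel_right]

theorem im_congr {d e f : G} {he : e ∈ nb D d} {hf : f ∈ nb D d} (h : e = f) : (im he : SecG D d) = im hf := by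
  subst h; rfl

theorem im_conj {d e l : G} (hl : l ∈ Subgroup.closure (nb D d)) (he : e ∈ nb D d) (he' : l * e * l⁻¹ ∈ nb D d) :
    (QuotientGroup.mk ⟨l, hl⟩ : SecG D d) * im he * (QuotientGroup.mk ⟨l, hl⟩)⁻¹ = im he' := rfl

/-- The automorphism of the section induced by an element fixing the member. -/
noncomputable def nbAut (hD : IsThreeTranspositionGroup D) [Finite G] {k d : G} (hk : Commute k d) :
    MulAut (SecG D d) :=
  let ι : ↥(Subgroup.closure (nb D d)) ≃* ↥(Subgroup.closure (nb D d)) :=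
    ((Subgroup.closure (nb D d)).equivMapOfInjective _ (MulAut.conj k).injective).trans
      (MulEquiv.subgroupCongr ((closure_nb_conj hD k d).trans (by rw [conj_self_of_commute hk])))
  QuotientGroup.congr _ _ ι (by
    ext x
    constructor
    · rintro ⟨y, hy, rfl⟩
      refine Subgroup.mem_center_iff.2 fun z => ι.symm.injective ?_
      rw [map_mul, map_mul]
      simpa using Subgroup.mem_center_iff.1 hy (ι.symm z)
    · intro hx
      refine ⟨ι.symm x, Subgroup.mem_center_iff.2 fun z => ι.injective ?_, by simp⟩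
      rw [map_mul, map_mul]
      simpa using Subgroup.mem_center_iff.1 hx (ι z))

end General

section M23

variable {Q : Type u} [Group Q] [Finite Q] {E : Set Q} (hD : IsThreeTranspositionGroup E)
  (hprim : IsPrimitiveUnderConj E) (h23 : IsOfTypeM23 Q E)
include hD hprim h23

/-- An element fixing a member and all its neighbours, in a group of type M(23). -/
theorem fix_at {p q : Q} (hp : p ∈ E) (hqp : Commute q p) (hfix : ∀ z ∈ nb E p, Commute q z) : q = 1 ∨ q = p := by
  obtain ⟨p₀, S⟩ := exists_sec22 hD hprim h23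
  obtain ⟨t, ht⟩ := hprim.1 p hp p₀ S.mem
  have ht' : t⁻¹ * p₀ * t⁻¹⁻¹ = p := by rw [← ht]; group
  have key : ∀ {z : Q}, z ∈ nb E p₀ → Commute (t * q * t⁻¹) z := fun {z} hz => by
    have h := (commute_conj_iff (g := t)).2 (hfix _ (nb_move hD ht' hz))
    rwa [show t * (t⁻¹ * z * t⁻¹⁻¹) * t⁻¹ = z by group] at h
  rcases S.fix_all h23.1 (ht ▸ commute_conj_iff.2 hqp) (fun z hz => key hz) with h | h
  · exact Or.inl (by simpa using h)
  · exact Or.inr (mul_left_cancel (mul_right_cancel (h.trans ht.symm)))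

/-- A member is not the product of two of its neighbours, in a group of type M(23). -/
theorem no_prod_at {p a b : Q} (hp : p ∈ E) (ha : a ∈ nb E p) (hb : b ∈ nb E p) (h : a * b = p) : False := by
  obtain ⟨p₀, S⟩ := exists_sec22 hD hprim h23
  obtain ⟨t, ht⟩ := hprim.1 p hp p₀ S.mem
  have ha' := nb_move hD ht ha
  have hb' := nb_move hD ht hb
  have h' : t * a * t⁻¹ * (t * b * t⁻¹) = p₀ := by rw [← ht, ← h]; group
  have h1 : (im ha' : SecG E p₀) * im hb' = 1 := by
    rw [im, im, ← QuotientGroup.mk_mul, QuotientGroup.eq_one_iff, Subgroup.mem_center_iff]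
    rintro ⟨z, hz⟩
    refine Subtype.ext ?_
    show z * (t * a * t⁻¹ * (t * b * t⁻¹)) = t * a * t⁻¹ * (t * b * t⁻¹) * z
    rw [h']
    exact (S.closure_comm hz).eq.symm
  have e : t * a * t⁻¹ = t * b * t⁻¹ := S.inj ha' hb' (by
    rw [eq_inv_of_mul_eq_one_left h1]
    exact inv_eq_of_mul_eq_one_right (im_mul_self S.set3 hb'))
  rw [e, mul_self S.set3 hb'.1] at h'
  have := hD.1.1 p₀ S.mem
  simp [← h'] at this

end M23

variable {G : Type u} [Group G] [Finite G] {D : Set G}

/-- A member whose section is a primitive group of type M(23). -/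
structure Sec23 (D : Set G) (d : G) : Prop where
  mem : d ∈ D
  setting : RankThree.Setting D
  non : ∀ e ∈ nb D d, Noncentral D d e
  grp : IsThreeTranspositionGroup (secSet D d)
  prim : IsPrimitiveUnderConj (secSet D d)
  type : IsOfTypeM23 (SecG D d) (secSet D d)

theorem exists_sec23 (hD : IsThreeTranspositionGroup D) (hprim : IsPrimitiveUnderConj D) {d₀ : G} (hd₀ : d₀ ∈ D)
    (h3 : Cfsg.pCore 3 ↥(Subgroup.closure (nb D d₀)) ≤ Subgroup.center ↥(Subgroup.closure (nb D d₀)))
    (h2 : Cfsg.pCore 2 ↥(Subgroup.closure (nb D d₀)) ≤ Subgroup.center ↥(Subgroup.closure (nb D d₀)))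
    (h : IsOfTypeM24 G D) : ∃ d, Sec23 D d := by
  haveI : Fact (Nat.Prime 2) := ⟨Nat.prime_two⟩
  haveI : Fact (Nat.Prime 3) := ⟨Nat.prime_three⟩
  obtain ⟨-, d, hd, c, hc, hdc, h23, N, hNn, ⟨eN⟩, -⟩ := h
  obtain ⟨-, q₁, hq₁, q₂, hq₂, hq, h22, -⟩ := id h23
  obtain ⟨⟨e₀, he₀⟩, hm₀, rfl⟩ := id hq₂
  have hm₀' : e₀ ∈ nb D d := hm₀
  have hw' : ∃ p ∈ D, ∃ q ∈ D, p ≠ q ∧ Commute p q := ⟨d, hd, e₀, hm₀'.1, hm₀'.2.1.symm, hm₀'.2.2⟩
  have S := setting_of_prim hD hprim hw'
  have hconj : ∀ e ∈ nb D d, ∀ f ∈ nb D d, ∃ g ∈ Subgroup.closure (nb D d), g * e * g⁻¹ = f := by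
    intro e he f hf
    obtain ⟨g, hg, hgf⟩ := S.commute_comp hd he.1 he.2.1 he.2.2 hf.1 hf.2.1 hf.2.2
    exact ⟨g, hg, hgf⟩
  have hnc : ∀ e ∈ nb D d, Noncentral D d e := by
    intro e he
    refine ⟨he, ?_⟩
    by_contra hno
    push Not at hno
    obtain ⟨g, hg, hge⟩ := hconj e he e₀ hm₀'
    have : e₀ = e := by
      rw [← hge, ← (RankThree.commute_closure hno hg).eq, mul_inv_cancel_right]
    subst this
    have h1 := im_eq_one_of_central hm₀' hno
    refine hq ?_
    rw [show (QuotientGroup.mk ⟨e₀, he₀⟩ : SecG D d) = 1 from h1]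
    exact Commute.one_right _
  have hns : ¬ Group.IsSolvable ↥(Subgroup.closure (nb D d ∩ nb D c)) := fun hs => by
    haveI := hs
    haveI : Group.IsSolvable (↥(Subgroup.closure (nb D d ∩ nb D c)) ⧸
        Subgroup.center ↥(Subgroup.closure (nb D d ∩ nb D c))) :=
      Group.isSolvable_of_surjective (f := QuotientGroup.mk' _) (QuotientGroup.mk'_surjective _)
    haveI : Group.IsSolvable ↥N := inferInstance
    exact not_solvable_pOmega (Group.isSolvable_of_surjective (f := eN.toMonoidHom) eN.surjective)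
  obtain ⟨a, b, ⟨P⟩⟩ := exists_pre h22 (secGrp (secGrp hD |> fun hg => by
    have hsec : secSet D d \ {1} = secSet D d := by
      refine Set.sdiff_singleton_eq_self fun hm => ?_
      obtain ⟨⟨e, he⟩, hme, h1⟩ := hm
      exact (hnc e hme).im_ne_one h1
    rw [hsec] at hg
    exact hg))
  obtain ⟨⟨⟨q₃, hq₃⟩, hm₃, -⟩, -⟩ := P.mema
  have hm₃' : q₃ ∈ nb (secSet D d) q₁ := hm₃
  obtain ⟨-, hgrp, hp⟩ := secPrim hD hprim hd hc hdc hns hd hnc h23.1 ⟨q₁, hq₁, q₃, hm₃'.1, hm₃'.2.1.symm, hm₃'.2.2⟩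
    fun p hp => by
      rcases hp with rfl | rfl
      · exact core_at hD hprim hd₀ h2 hd
      · exact core_at hD hprim hd₀ h3 hd
  exact ⟨d, hd, S, hnc, hgrp, hp, h23⟩

namespace Sec23

variable {d : G} (S : Sec23 D d)
include S

theorem set3 : IsThreeTranspositionSet D := S.setting.grp.1

theorem inj {e f : G} (he : e ∈ nb D d) (hf : f ∈ nb D d) (h : im he = im hf) : e = f :=
  im_inj S.set3 (S.non e he) hf h

theorem comm_iff {e f : G} (he : e ∈ nb D d) (hf : f ∈ nb D d) : Commute (im he) (im hf) ↔ Commute e f :=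
  im_commute S.set3 (S.non e he) hf

theorem conj_nb {k : G} (hk : Commute k d) {e : G} (he : e ∈ nb D d) : k * e * k⁻¹ ∈ nb D d :=
  nb_move S.setting.grp (conj_self_of_commute hk) he

theorem exists_nb : ∃ f, f ∈ nb D d := by
  obtain ⟨-, q₁, ⟨⟨f, hf⟩, hm, -⟩, -⟩ := S.type
  exact ⟨f, hm⟩

/-- An element fixing the member acts on the section as an inner automorphism. -/
theorem exists_inner {k : G} (hk : Commute k d) :
    ∃ q : SecG D d, ∀ {e : G} (he : e ∈ nb D d), im (S.conj_nb hk he) = q * im he * q⁻¹ := by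
  obtain ⟨i, -⟩ := FiM23.identify_of_type S.grp S.prim S.type
  obtain ⟨γ, hγ⟩ := FiThree.Aut.inner ((i.trans (nbAut S.setting.grp hk)).trans i.symm)
  refine ⟨i γ, fun {e} he => ?_⟩
  have h : γ * i.symm (im he) * γ⁻¹ = i.symm (nbAut S.setting.grp hk (i (i.symm (im he)))) :=
    DFunLike.congr_fun hγ (i.symm (im he))
  rw [MulEquiv.apply_symm_apply] at h
  have h' := congrArg i h
  simp only [map_mul, map_inv, MulEquiv.apply_symm_apply] at h'
  exact h'.symm

theorem center_G (hZ : Subgroup.center G = ⊥) {x : G} (h : ∀ y ∈ D, Commute x y) : x = 1 := by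
  have := central_of_commute_class S.setting.cls (x := x) fun y hy => (h y hy).symm
  rwa [hZ, Subgroup.mem_bot] at this

/-- An element fixing the member and its neighbours. -/
theorem fix_all (hZ : Subgroup.center G = ⊥) {g : G} (hgd : Commute g d) (hfix : ∀ e ∈ nb D d, Commute g e) :
    g = 1 ∨ g = d := by
  have hD := S.setting.grp
  obtain ⟨f, hf⟩ := S.exists_nb
  obtain ⟨y, hy, hfy, hdy⟩ := S.setting.exists_sep S.mem hf.1 hf.2.1
  obtain ⟨k, hk⟩ := class_trans S.setting.cls hf.1 S.mem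
  have hd1 : k * d * k⁻¹ ∈ nb D d := nb_move hD hk ⟨S.mem, hf.2.1.symm, hf.2.2.symm⟩
  set d1 := k * d * k⁻¹ with hd1'
  have hg'd : Commute (k * g * k⁻¹) d := hk ▸ commute_conj_iff.2 (hfix f hf)
  have hg'1 : Commute (k * g * k⁻¹) d1 := commute_conj_iff.2 hgd
  obtain ⟨q, hq⟩ := S.exists_inner hg'd
  have hqp : Commute q (im hd1) :=
    mul_inv_eq_iff_eq_mul.1 ((hq hd1).symm.trans (im_congr (conj_self_of_commute hg'1)))
  have hqz : ∀ z ∈ nb (secSet D d) (im hd1), Commute q z := by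
    rintro z ⟨⟨⟨w', hw'⟩, hm, rfl⟩, hne, hc⟩
    have hw : w' ∈ nb D d := hm
    change im hw ≠ im hd1 at hne
    change Commute (im hd1) (im hw) at hc
    rw [S.comm_iff hd1 hw] at hc
    have hback : k⁻¹ * w' * k ∈ nb D d :=
      ⟨by simpa using hD.2.1 k⁻¹ w' hw.1, fun h => hne (im_congr (by rw [hd1', ← h]; group)),
        by rw [← commute_conj_iff (g := k), conj_cancel]; exact hc⟩
    have hcw : Commute (k * g * k⁻¹) w' := by
      have h := (commute_conj_iff (g := k)).2 (hfix _ hback)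
      rwa [conj_cancel] at h
    show Commute q (im hw)
    exact mul_inv_eq_iff_eq_mul.1 ((hq hw).symm.trans (im_congr (conj_self_of_commute hcw)))
  have hu : (∀ w ∈ nb D d, Commute (k * g * k⁻¹) w) ∨ ∀ w ∈ nb D d, Commute (d1 * (k * g * k⁻¹)) w := by
    rcases fix_at S.grp S.prim S.type (im_mem_set hd1) hqp hqz with rfl | rfl
    · refine Or.inl fun w hw => mul_inv_eq_iff_eq_mul.1 (S.inj (S.conj_nb hg'd hw) hw ?_)
      rw [hq hw, one_mul, inv_one, mul_one]
    · refine Or.inr fun w hw => mul_inv_eq_iff_eq_mul.1 ?_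
      have hin : d1 * w * d1⁻¹ ∈ nb D d := S.conj_nb hd1.2.2.symm hw
      have h1 : im (S.conj_nb hg'd hw) = im hin :=
        (hq hw).trans (im_conj (Subgroup.subset_closure hd1) hw hin)
      have h2 := S.inj (S.conj_nb hg'd hw) hin h1
      rw [mul_inv_rev, show d1 * (k * g * k⁻¹) * w * ((k * g * k⁻¹)⁻¹ * d1⁻¹) =
        d1 * (k * g * k⁻¹ * w * (k * g * k⁻¹)⁻¹) * d1⁻¹ by group, h2, inv_eq S.set3 hd1.1]
      simp only [mul_assoc, mul_self_assoc S.set3 hd1.1, mul_self S.set3 hd1.1, mul_one]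
  have hyf : y ∈ nb D f := ⟨hy, fun h => hdy (h ▸ hf.2.2), hfy⟩
  have key : ∀ u : G, Commute u d → (∀ e ∈ nb D d, Commute u e) → Commute u y → u = 1 := by
    intro u hud hun huy
    refine S.center_G hZ fun z hz => ?_
    refine (RankThree.commute_closure (a := u) ?_ (S.setting.max S.mem hy hdy ▸ Subgroup.mem_top z))
    rintro t (⟨htD, hdt⟩ | rfl)
    · by_cases e : t = d
      · exact e ▸ hud
      · exact hun t ⟨htD, e, hdt⟩
    · exact huy
  rcases hu with hu | hu
  · exact Or.inl (key g hgd hfix (commute_conj_iff.1 (hu _ (nb_move hD hk hyf))))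
  · have h := key (d * g) ((Commute.refl d).mul_left hgd) (fun e he => he.2.2.mul_left (hfix e he))
      (commute_conj_iff.1 (by
        have := hu _ (nb_move hD hk hyf)
        rwa [show k * (d * g) * k⁻¹ = d1 * (k * g * k⁻¹) by rw [hd1']; group]))
    exact Or.inr (by rw [eq_inv_of_mul_eq_one_right h, inv_eq S.set3 S.mem])

end Sec23

end CfsgLib.Recog.FiM22Two
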