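import Cfsg.Agent.Lib.Recog.FiM22Two.CentM23

set_option autoImplicit false
set_option maxRecDepth 20000

/-!
A group of type M(23) has one class of 3-transpositions (owner: helper6).
-/

namespace CfsgLib.Recog.FiM22Two

open Cfsg CfsgLib.ThreeTrans CfsgLib.Recog.FiM22.Factor

universe u

namespace Sec22

variable {G : Type u} [Group G] [Finite G] {D : Set G} {d : G} (S : Sec22 D d)
include S

theorem exists_fixed {x : G} (hx : x * x = 1) : ∃ y ∈ D, Commute x y := by
  classical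
  haveI : Fact (Nat.Prime 2) := ⟨Nat.prime_two⟩
  haveI : Fintype D := Fintype.ofFinite _
  let f : Function.End D := fun y => ⟨x * y * x⁻¹, S.setting.grp.2.1 x y y.2⟩
  have hf : f ^ 2 ^ 1 = 1 := by
    funext y
    refine Subtype.ext ?_
    show x * (x * (y : G) * x⁻¹) * x⁻¹ = y
    rw [inv_eq_of_mul_eq_one_right hx, ← mul_assoc, mul_assoc _ x x, hx, mul_one, ← mul_assoc, hx, one_mul]
  have h := Equiv.Perm.card_fixedPoints_modEq hf
  obtain ⟨n, hn⟩ := S.odd_class
  rw [← Nat.card_coe_set_eq, Nat.card_eq_fintype_card] at hn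
  rw [hn] at h
  by_contra hno
  push Not at hno
  have h0 : Fintype.card (Function.fixedPoints (f : D → D)) = 0 := Fintype.card_eq_zero_iff.2 ⟨fun y =>
    hno _ y.1.2 (mul_inv_eq_iff_eq_mul.1 (congrArg Subtype.val y.2))⟩
  rw [h0, Nat.ModEq] at h
  omega

/-- An element over a product of two or three commuting members is not in a class of 3-transpositions. -/
theorem two_or_three {x : G} (hx : x ∈ Subgroup.closure (nb D d)) {l : List (SecG D d)}
    (hl : ComList (secSet D d) l) (hlen : l.length = 2 ∨ l.length = 3)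
    (hp : l.prod = QuotientGroup.mk ⟨x, hx⟩) :
    ∃ c : G, (x * (c * x * c⁻¹)) ^ 2 ≠ 1 ∧ (x * (c * x * c⁻¹)) ^ 3 ≠ 1 := by
  obtain ⟨q, h2, h3⟩ := no_class S.grp S.prim S.type hl hlen
  obtain ⟨⟨c, hc⟩, rfl⟩ := QuotientGroup.mk_surjective q
  rw [hp] at h2 h3
  refine ⟨c, fun h => h2 ?_, fun h => h3 ?_⟩ <;>
  · rw [← QuotientGroup.mk_inv, ← QuotientGroup.mk_mul, ← QuotientGroup.mk_mul, ← QuotientGroup.mk_mul,
      ← QuotientGroup.mk_pow]
    rw [show ((⟨x, hx⟩ : ↥(Subgroup.closure (nb D d))) * (⟨c, hc⟩ * ⟨x, hx⟩ * ⟨c, hc⟩⁻¹)) ^ _ = 1 from Subtype.ext h,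
      QuotientGroup.mk_one]

theorem member_or_bad (hZ : Subgroup.center G = ⊥) {x : G} (hx2 : orderOf x = 2) (hxd : Commute x d) :
    x ∈ D ∨ ∃ c : G, (x * (c * x * c⁻¹)) ^ 2 ≠ 1 ∧ (x * (c * x * c⁻¹)) ^ 3 ≠ 1 := by
  have hne : x ≠ 1 := fun e => by simp [e] at hx2
  have hxx : x * x = 1 := by rw [← pow_two, ← hx2, pow_orderOf_eq_one]
  have hH : x ∈ Subgroup.closure (nb D d) := by
    rw [← S.centralizer_eq hZ, Subgroup.mem_centralizer_singleton_iff]; exact hxd.eq
  set q : SecG D d := QuotientGroup.mk ⟨x, hH⟩ with hq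
  have hcentral : ∀ (z : G) (hz : z ∈ Subgroup.closure (nb D d)), (QuotientGroup.mk ⟨z, hz⟩ : SecG D d) = 1 →
      z = 1 ∨ z = d := fun z hz h => S.fix_all hZ (S.closure_comm hz).symm fun f hf => (congrArg Subtype.val
        (Subgroup.mem_center_iff.1 ((QuotientGroup.eq_one_iff _).1 h) ⟨f, Subgroup.subset_closure hf⟩)).symm
  by_cases hq1 : q = 1
  · rcases hcentral x hH hq1 with e | e
    · exact absurd e hne
    · exact Or.inl (e ▸ S.mem)
  have hq2 : orderOf q = 2 := orderOf_eq_prime (by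
    rw [hq, ← QuotientGroup.mk_pow, show (⟨x, hH⟩ : ↥(Subgroup.closure (nb D d))) ^ 2 = 1 from
      Subtype.ext (by simpa [pow_two] using hxx), QuotientGroup.mk_one]) hq1
  obtain ⟨l, hl, h1, h3, hp⟩ := involution_factor S.grp S.prim S.type hq2
  by_cases hlen : l.length = 1
  swap
  · exact Or.inr (S.two_or_three hH hl (by omega) hp)
  obtain ⟨p, rfl⟩ := List.length_eq_one_iff.1 hlen
  obtain ⟨⟨e, he⟩, hm, rfl⟩ := hl.mem p (by simp)
  have hee : e ∈ nb D d := hm
  rw [List.prod_singleton] at hp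
  have hex : (QuotientGroup.mk ⟨e * x, mul_mem he hH⟩ : SecG D d) = 1 := by
    rw [show (⟨e * x, mul_mem he hH⟩ : ↥(Subgroup.closure (nb D d))) = ⟨e, he⟩ * ⟨x, hH⟩ from rfl,
      QuotientGroup.mk_mul, show (QuotientGroup.mk ⟨x, hH⟩ : SecG D d) = im hee from hp.symm]
    exact im_mul_self S.set3 hee
  rcases hcentral _ _ hex with h | h
  · left
    rw [eq_inv_of_mul_eq_one_right h, inv_eq S.set3 hee.1]
    exact hee.1
  right
  have hxed : x = e * d := by rw [← h, mul_self_assoc S.set3 hee.1]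
  -- move to a common neighbour of the two
  obtain ⟨B⟩ := FiM22.exists_base_at S.grp S.prim S.type (im_mem_set hee)
  obtain ⟨r, ⟨⟨f, hf⟩, hfm, rfl⟩, hrne, hrc⟩ := B.nbrs_nonempty
  have hff : f ∈ nb D d := hfm
  change im hff ≠ im hee at hrne
  change Commute (im hee) (im hff) at hrc
  rw [S.comm_iff hee hff] at hrc
  obtain ⟨k, hk⟩ := class_trans S.setting.cls hff.1 S.mem
  have hD := S.setting.grp.2.1
  have hde : k * e * k⁻¹ ∈ nb D d := ⟨hD k e hee.1,
    fun h => hrne (by congr 1; exact (mul_left_cancel (mul_right_cancel (h.trans hk.symm))).symm),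
    by rw [← hk]; exact commute_conj_iff.2 hrc.symm⟩
  have hdd : k * d * k⁻¹ ∈ nb D d := ⟨hD k d S.mem,
    fun h => hff.2.1 (mul_left_cancel (mul_right_cancel (h.trans hk.symm))).symm,
    by have h := (commute_conj_iff (g := k)).2 hff.2.2.symm; rwa [hk] at h⟩
  have hkx : k * x * k⁻¹ ∈ Subgroup.closure (nb D d) := by
    rw [hxed, show k * (e * d) * k⁻¹ = k * e * k⁻¹ * (k * d * k⁻¹) by group]
    exact mul_mem (Subgroup.subset_closure hde) (Subgroup.subset_closure hdd)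
  have hne' : k * e * k⁻¹ ≠ k * d * k⁻¹ := fun h => hee.2.1 (mul_left_cancel (mul_right_cancel h))
  have hcc : Commute (k * e * k⁻¹) (k * d * k⁻¹) := commute_conj_iff.2 hee.2.2.symm
  obtain ⟨c, c2, c3⟩ := S.two_or_three hkx (l := [im hde, im hdd])
    ⟨by simpa using fun h => hne' (S.inj hde hdd h), List.forall_mem_cons.2 ⟨im_mem_set hde, List.forall_mem_cons.2 ⟨im_mem_set hdd, fun _ h => absurd h List.not_mem_nil⟩⟩, by
      have hc := (S.comm_iff hde hdd).2 hcc
      simp only [List.mem_cons, List.not_mem_nil, or_false]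
      rintro a (rfl | rfl) b (rfl | rfl)
      exacts [Commute.refl _, hc, hc.symm, Commute.refl _]⟩ (Or.inl rfl) (by
    rw [List.prod_cons, List.prod_singleton]
    refine congrArg (QuotientGroup.mk (s := Subgroup.center ↥(Subgroup.closure (nb D d)))) (Subtype.ext ?_)
    show k * e * k⁻¹ * (k * d * k⁻¹) = k * x * k⁻¹
    rw [hxed]; group)
  have hconj : ∀ n : ℕ, (x * ((k⁻¹ * c * k) * x * (k⁻¹ * c * k)⁻¹)) ^ n = 1 →
      (k * x * k⁻¹ * (c * (k * x * k⁻¹) * c⁻¹)) ^ n = 1 := by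
    intro n hn
    rw [show k * x * k⁻¹ * (c * (k * x * k⁻¹) * c⁻¹) = k * (x * ((k⁻¹ * c * k) * x * (k⁻¹ * c * k)⁻¹)) * k⁻¹ by group,
      conj_pow, hn, mul_one, mul_inv_cancel]
  exact ⟨k⁻¹ * c * k, fun h => c2 (hconj 2 h), fun h => c3 (hconj 3 h)⟩

theorem unique (hZ : Subgroup.center G = ⊥) {E : Set G} (hE : IsThreeTranspositionClass E) : E = D := by
  have hmem : ∀ x ∈ E, x ∈ D := by
    intro x hx
    have hxx : x * x = 1 := by rw [← pow_two, ← hE.1.1 x hx, pow_orderOf_eq_one]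
    obtain ⟨y, hy, hxy⟩ := S.exists_fixed hxx
    obtain ⟨g, hg⟩ := class_trans S.setting.cls hy S.mem
    have hgx : g * x * g⁻¹ ∈ E := class_conj hE g x hx
    have hc : Commute (g * x * g⁻¹) d := hg ▸ commute_conj_iff.2 hxy
    rcases S.member_or_bad hZ (hE.1.1 _ hgx) hc with h | ⟨c, h2, h3⟩
    · have := S.setting.grp.2.1 g⁻¹ _ h
      simpa [mul_assoc] using this
    · exact ((hE.1.2 _ hgx _ (class_conj hE c _ hgx)).elim h2 h3).elim
  refine Set.Subset.antisymm hmem fun y hy => ?_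
  obtain ⟨x, hx, -⟩ := hE.2.1
  obtain ⟨g, hg⟩ := class_trans S.setting.cls (hmem x hx) hy
  exact hg ▸ class_conj hE g x hx

end Sec22

end CfsgLib.Recog.FiM22Two
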