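import Cfsg.Agent.Lib.Recog.FiM22Two.TypeM24
import Cfsg.Agent.Lib.Recog.FiM22Two.UniqueM23
import Cfsg.Agent.Lib.Recog.FiM23.ReadOff
import Cfsg.Agent.Lib.Recog.SporBound.Fi22Inv.Main

set_option autoImplicit false
set_option maxRecDepth 20000

/-!
A group of type M(24) has one class of 3-transpositions (owner: helper6).

An involution without a fixed member swaps a commuting pair and induces an involution of the Fi22 section of the pair,
which fixes a member.  An involution fixing a member induces an inner involution of its Fi23 section lying in the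
class of transpositions there.
-/

namespace CfsgLib.Recog.FiM22Two

open Cfsg CfsgLib.ThreeTrans CfsgLib.Recog.FiM22.Factor CfsgLib.Recog

universe u

variable {G : Type u} [Group G] [Finite G] {D : Set G}

namespace Sec23

variable {d : G} (S : Sec23 D d)
include S

/-- The element `k` acts on the section as conjugation by `q`. -/
def Acts (_S : Sec23 D d) (k : G) (q : SecG D d) : Prop :=
  Commute k d ∧ ∀ {e : G} (he : e ∈ nb D d) (he' : k * e * k⁻¹ ∈ nb D d), im he' = q * im he * q⁻¹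

theorem acts_inner {k : G} (hk : Commute k d) : ∃ q, S.Acts k q := by
  obtain ⟨q, hq⟩ := S.exists_inner hk
  exact ⟨q, hk, fun he _ => hq he⟩

theorem acts_mem {l : G} (hl : l ∈ Subgroup.closure (nb D d)) : S.Acts l (QuotientGroup.mk ⟨l, hl⟩) :=
  ⟨(RankThree.commute_closure (fun _ hz => hz.2.2) hl).symm, fun he he' => (im_conj hl he he').symm⟩

theorem acts_nb {f : G} (hf : f ∈ nb D d) : S.Acts f (im hf) := S.acts_mem (Subgroup.subset_closure hf)

theorem acts_self : S.Acts d 1 := ⟨Commute.refl d, fun he he' => by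
  rw [one_mul, inv_one, mul_one]
  exact im_congr (conj_self_of_commute he.2.2)⟩

theorem acts_mul {k l : G} {q r : SecG D d} (hk : S.Acts k q) (hl : S.Acts l r) : S.Acts (k * l) (q * r) := by
  refine ⟨hk.1.mul_left hl.1, fun {e} he he' => ?_⟩
  have h1 := S.conj_nb hl.1 he
  have h2 := S.conj_nb hk.1 h1
  calc im he' = im h2 := im_congr (by group)
    _ = q * im h1 * q⁻¹ := hk.2 h1 h2
    _ = q * (r * im he * r⁻¹) * q⁻¹ := by rw [hl.2 he h1]
    _ = q * r * im he * (q * r)⁻¹ := by group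

theorem acts_fix {k : G} {q : SecG D d} (hk : S.Acts k q) : q = 1 ↔ ∀ e ∈ nb D d, Commute k e := by
  constructor
  · rintro rfl e he
    refine mul_inv_eq_iff_eq_mul.1 (S.inj (S.conj_nb hk.1 he) he ?_)
    rw [hk.2 he, one_mul, inv_one, mul_one]
  · intro h
    have hc : ∀ p ∈ secSet D d, Commute q p := by
      rintro p ⟨⟨e, he⟩, hm, rfl⟩
      have he' : e ∈ nb D d := hm
      show Commute q (im he')
      exact mul_inv_eq_iff_eq_mul.1
        ((hk.2 he' (S.conj_nb hk.1 he')).symm.trans (im_congr (conj_self_of_commute (h e he'))))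
    have hq : q ∈ Subgroup.center (SecG D d) := Subgroup.mem_center_iff.2 fun x =>
      (RankThree.commute_closure hc (S.grp.2.2 ▸ Subgroup.mem_top x)).eq.symm
    rwa [S.type.1, Subgroup.mem_bot] at hq

theorem acts_congr {k : G} {q r : SecG D d} (hq : S.Acts k q) (hr : S.Acts k r) : q = r := by
  have hc : ∀ p ∈ secSet D d, Commute (r⁻¹ * q) p := by
    rintro p ⟨⟨e, he⟩, hm, rfl⟩
    have he' : e ∈ nb D d := hm
    show Commute (r⁻¹ * q) (im he')
    have h := (hq.2 he' (S.conj_nb hq.1 he')).symm.trans (hr.2 he' (S.conj_nb hq.1 he'))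
    refine mul_inv_eq_iff_eq_mul.1 ?_
    calc r⁻¹ * q * im he' * (r⁻¹ * q)⁻¹ = r⁻¹ * (q * im he' * q⁻¹) * r := by group
      _ = im he' := by rw [h]; group
  have h1 : r⁻¹ * q ∈ Subgroup.center (SecG D d) := Subgroup.mem_center_iff.2 fun x =>
    (RankThree.commute_closure hc (S.grp.2.2 ▸ Subgroup.mem_top x)).eq.symm
  rw [S.type.1, Subgroup.mem_bot] at h1
  exact (inv_mul_eq_one.1 h1).symm

theorem acts_eq_one {k : G} {q : SecG D d} (hk : S.Acts k q) (h : k = 1) : q = 1 :=
  (S.acts_fix hk).2 fun e _ => h ▸ Commute.one_left e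

/-- A member of a 3-transposition class fixing `d` is `d`, a neighbour, or `d` times a neighbour. -/
theorem step (hZ : Subgroup.center G = ⊥) {E : Set G} (hE : IsThreeTranspositionClass E) {e : G} (he : e ∈ E)
    (hed : Commute e d) : e = d ∨ ∃ f, f ∈ nb D d ∧ (e = f ∨ e = d * f) := by
  have hee : e * e = 1 := by rw [← pow_two, ← hE.1.1 e he, pow_orderOf_eq_one]
  have hne : e ≠ 1 := fun h => by simpa [h] using hE.1.1 e he
  obtain ⟨q, hq⟩ := S.acts_inner hed
  by_cases hq1 : q = 1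
  · exact Or.inl ((S.fix_all hZ hed ((S.acts_fix hq).1 hq1)).resolve_left hne)
  have hqq : q * q = 1 := S.acts_eq_one (S.acts_mul hq hq) hee
  have hpair : ∀ c : SecG D d, (q * (c * q * c⁻¹)) ^ 2 = 1 ∨ (q * (c * q * c⁻¹)) ^ 3 = 1 := by
    intro c
    obtain ⟨⟨l, hl⟩, rfl⟩ := QuotientGroup.mk_surjective c
    have h := S.acts_mul hq (S.acts_mul (S.acts_mul (S.acts_mem hl) hq) (S.acts_mem (inv_mem hl)))
    rw [show (QuotientGroup.mk ⟨l⁻¹, inv_mem hl⟩ : SecG D d) = (QuotientGroup.mk ⟨l, hl⟩)⁻¹ from rfl] at h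
    refine (hE.1.2 e he _ (class_conj hE l e he)).imp (fun h2 => ?_) (fun h3 => ?_)
    · rw [pow_two]
      exact S.acts_eq_one (S.acts_mul h h) (by rw [← pow_two]; exact h2)
    · rw [pow_succ, pow_two]
      exact S.acts_eq_one (S.acts_mul (S.acts_mul h h) h) (by rw [← pow_two, ← pow_succ]; exact h3)
  obtain ⟨p, T⟩ := exists_sec22 S.grp S.prim S.type
  haveI := FiM23.simple_of_type S.grp S.prim S.type
  have hclass : IsThreeTranspositionClass (conjugatesOf q) := by
    refine ⟨⟨fun x hx => ?_, fun x hx y hy => ?_⟩, ⟨q, mem_conjugatesOf_self, rfl⟩, ?_⟩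
    · obtain ⟨c, rfl⟩ := isConj_iff.1 hx
      refine orderOf_eq_prime (hp := ⟨Nat.prime_two⟩) ?_ fun h => hq1 (conj_eq_one_iff.1 h)
      rw [conj_pow, pow_two, hqq, mul_one, mul_inv_cancel]
    · obtain ⟨c, rfl⟩ := isConj_iff.1 hx
      obtain ⟨c', rfl⟩ := isConj_iff.1 hy
      have hconj : c * q * c⁻¹ * (c' * q * c'⁻¹) = c * (q * (c⁻¹ * c' * q * (c⁻¹ * c')⁻¹)) * c⁻¹ := by group
      rw [hconj, conj_pow, conj_pow, conj_eq_one_iff, conj_eq_one_iff]
      exact hpair _
    · have hC : Group.conjugatesOfSet {q} = conjugatesOf q := by simp [Group.conjugatesOfSet]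
      rw [← hC]
      show Subgroup.normalClosure {q} = ⊤
      exact (Subgroup.normalClosure_normal (s := {q})).eq_bot_or_eq_top.resolve_left fun h =>
        hq1 (Subgroup.mem_bot.1 (h ▸ Subgroup.subset_normalClosure rfl))
  have hmem : q ∈ secSet D d := T.unique S.type.1 hclass ▸ mem_conjugatesOf_self
  obtain ⟨⟨f, hf⟩, hm, hfq⟩ := hmem
  have hf' : f ∈ nb D d := hm
  have hfe := S.acts_mul (S.acts_nb hf') hq
  have hone : im hf' * q = 1 := by
    rw [← hfq]; exact im_mul_self S.set3 hf'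
  rcases S.fix_all hZ hfe.1 ((S.acts_fix hfe).1 hone) with h | h
  · exact Or.inr ⟨f, hf', Or.inl (by rw [eq_inv_of_mul_eq_one_right h, inv_eq S.set3 hf'.1])⟩
  · refine Or.inr ⟨f, hf', Or.inr ?_⟩
    rw [hf'.2.2.eq, ← h, mul_self_assoc S.set3 hf'.1]

/-- A member of a 3-transposition class fixing `d` is a member. -/
theorem member (hZ : Subgroup.center G = ⊥) {E : Set G} (hE : IsThreeTranspositionClass E) {e : G} (he : e ∈ E)
    (hed : Commute e d) : e ∈ D := by
  have hD := S.setting.grp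
  rcases S.step hZ hE he hed with rfl | ⟨f, hf, rfl | rfl⟩
  · exact S.mem
  · exact hf.1
  exfalso
  obtain ⟨a, ha, b, hb, hab, hc⟩ := exists_width22 S
  obtain ⟨g, hg⟩ := S.prim.1 a ha (im hf) (im_mem_set hf)
  obtain ⟨⟨w, hw⟩, hwm, hweq⟩ := S.grp.2.1 g b hb
  have hw' : w ∈ nb D d := hwm
  change im hw' = g * b * g⁻¹ at hweq
  have hfw : Commute f w := (S.comm_iff hf hw').1 (by rw [hweq, ← hg]; exact commute_conj_iff.2 hc)
  have hwf : f ≠ w := fun h => hab (mul_left_cancel (mul_right_cancel (hg.trans ((im_congr h).trans hweq))))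
  obtain ⟨k, hk⟩ := class_trans S.setting.cls hw'.1 S.mem
  have hd1 : k * d * k⁻¹ ∈ nb D d := nb_move hD hk ⟨S.mem, hw'.2.1.symm, hw'.2.2.symm⟩
  have hf1 : k * f * k⁻¹ ∈ nb D d := nb_move hD hk ⟨hf.1, hwf, hfw.symm⟩
  have hdf : (im hd1 : SecG D d) ≠ im hf1 := fun h =>
    hf.2.1 (mul_left_cancel (mul_right_cancel (S.inj hd1 hf1 h))).symm
  have hcc : Commute (im hd1 : SecG D d) (im hf1) := (S.comm_iff hd1 hf1).2 (commute_conj_iff.2 hf.2.2)
  have hact : S.Acts (k * (d * f) * k⁻¹) (im hd1 * im hf1) := by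
    have h := S.acts_mul (S.acts_nb hd1) (S.acts_nb hf1)
    rwa [show k * d * k⁻¹ * (k * f * k⁻¹) = k * (d * f) * k⁻¹ by group] at h
  have hne : ∀ {z : G} (hz : z ∈ nb D d), (im hz : SecG D d) ≠ 1 := fun hz => (S.non _ hz).im_ne_one
  have main : ∀ {z : G} (hz : z ∈ nb D d), (im hd1 : SecG D d) * im hf1 = im hz → False := by
    intro z hz h
    refine no_prod_at S.grp S.prim S.type (a := im hz) (b := im hf1) (im_mem_set hd1) ⟨im_mem_set hz, ?_, ?_⟩
      ⟨im_mem_set hf1, hdf.symm, hcc⟩ ?_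
    · intro e; exact hne hf1 (mul_eq_left.1 (h.trans e))
    · exact h ▸ (Commute.refl _).mul_right hcc
    · rw [← h, mul_assoc, im_mul_self S.set3 hf1, mul_one]
  rcases S.step hZ hE (class_conj hE k _ he) hact.1 with h | ⟨z, hz, h | h⟩ <;> rw [h] at hact
  · have h1 : (im hd1 : SecG D d) * im hf1 = 1 := S.acts_congr hact S.acts_self
    exact hdf (by rw [eq_inv_of_mul_eq_one_left h1]; exact inv_eq_of_mul_eq_one_right (im_mul_self S.set3 hf1))
  · exact main hz (S.acts_congr hact (S.acts_nb hz))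
  · exact main hz ((S.acts_congr hact (S.acts_mul S.acts_self (S.acts_nb hz))).trans (one_mul _))
where
  exists_width22 (S : Sec23 D d) : ∃ a ∈ secSet D d, ∃ b ∈ secSet D d, a ≠ b ∧ Commute a b := by
    obtain ⟨p, T⟩ := exists_sec22 S.grp S.prim S.type
    exact T.setting.width

/-- An involution exchanging `d` with the neighbour whose section is given fixes some member. -/
theorem fixed_of_swap {e₀ e : G} (h0 : e₀ ∈ nb D d) (T : Sec22 (secSet D d) (im h0)) (hee : e * e = 1)
    (hswap : e * d * e⁻¹ = e₀) : ∃ y ∈ D, Commute e y := by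
  classical
  have hD := S.setting.grp
  have hinv : e⁻¹ = e := inv_eq_of_mul_eq_one_right hee
  have hback : e * e₀ * e⁻¹ = d := by
    rw [← hswap, hinv, show e * (e * d * e) * e = e * e * d * (e * e) by group, hee, one_mul, mul_one]
  set N2 := nb D d ∩ nb D e₀ with hN2
  set K := Subgroup.closure N2
  have hKd : K ≤ Subgroup.closure (nb D d) := Subgroup.closure_mono Set.inter_subset_left
  let f1 : K →* SecG D d := (QuotientGroup.mk' _).comp (Subgroup.inclusion hKd)
  have hgen : Subgroup.closure {x : K | (x : G) ∈ N2} = ⊤ := Subgroup.closure_closure_coe_preimage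
  have hnb : ∀ {z : G} (hz : z ∈ N2), im hz.1 ∈ nb (secSet D d) (im h0) := fun {z} hz =>
    ⟨im_mem_set hz.1, fun h => hz.2.2.1 (S.inj hz.1 h0 h), (S.comm_iff h0 hz.1).2 hz.2.2.2⟩
  have hf1 : ∀ x : K, f1 x ∈ Subgroup.closure (nb (secSet D d) (im h0)) := by
    intro x
    have hx : x ∈ Subgroup.closure {x : K | (x : G) ∈ N2} := hgen ▸ Subgroup.mem_top x
    have : Subgroup.closure {x : K | (x : G) ∈ N2} ≤
        (Subgroup.closure (nb (secSet D d) (im h0))).comap f1 :=
      (Subgroup.closure_le _).2 fun z hz => Subgroup.subset_closure (hnb hz)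
    exact this hx
  let ψ : K →* SecG (secSet D d) (im h0) := (QuotientGroup.mk' _).comp (f1.codRestrict _ hf1)
  have hψim : ∀ {z : G} (hz : z ∈ N2), ψ ⟨z, Subgroup.subset_closure hz⟩ = im (hnb hz) := fun _ => rfl
  have hψ : Function.Surjective ψ := by
    rw [← MonoidHom.range_eq_top, eq_top_iff, ← T.grp.2.2, Subgroup.closure_le]
    rintro _ ⟨⟨p, hp⟩, hm, rfl⟩
    have hp' : p ∈ nb (secSet D d) (im h0) := hm
    obtain ⟨⟨⟨w, hw⟩, hwm, rfl⟩, hne, hc⟩ := id hp'
    have hw' : w ∈ nb D d := hwm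
    change im hw' ≠ im h0 at hne
    change Commute (im h0) (im hw') at hc
    exact ⟨⟨w, Subgroup.subset_closure ⟨hw', hw'.1, fun e => hne (im_congr e), (S.comm_iff h0 hw').1 hc⟩⟩, rfl⟩
  have hinj : ∀ {z z' : G} (hz : z ∈ N2) (hz' : z' ∈ N2), im (hnb hz) = im (hnb hz') → z = z' :=
    fun hz hz' h => S.inj hz.1 hz'.1 (T.inj (hnb hz) (hnb hz') h)
  have hcomm : ∀ x : K, Commute d (x : G) ∧ Commute e₀ (x : G) := fun x =>
    ⟨RankThree.commute_closure (fun z (hz : z ∈ N2) => hz.1.2.2) x.2,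
      RankThree.commute_closure (fun z (hz : z ∈ N2) => hz.2.2.2) x.2⟩
  have hker : ∀ x : K, ψ x = 1 → x ∈ Subgroup.center K := by
    intro x hx
    have hfix : ∀ z ∈ N2, Commute (x : G) z := fun z hz => by
      have hz' : (x : G) * z * (x : G)⁻¹ ∈ N2 :=
        ⟨nb_move hD (conj_self_of_commute (hcomm x).1.symm) hz.1,
          nb_move hD (conj_self_of_commute (hcomm x).2.symm) hz.2⟩
      refine mul_inv_eq_iff_eq_mul.1 (hinj hz' hz ?_)
      rw [← hψim hz', ← hψim hz, show (⟨(x : G) * z * (x : G)⁻¹, Subgroup.subset_closure hz'⟩ : K) =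
        x * ⟨z, Subgroup.subset_closure hz⟩ * x⁻¹ from Subtype.ext rfl, map_mul, map_mul, map_inv, hx, one_mul, inv_one,
        mul_one]
    exact Subgroup.mem_center_iff.2 fun y =>
      Subtype.ext (RankThree.commute_closure hfix y.2).eq.symm
  have hN2c : ∀ {z : G}, z ∈ N2 → e * z * e⁻¹ ∈ N2 := fun hz => ⟨nb_move hD hback hz.2, nb_move hD hswap hz.1⟩
  have hKc : K.map (MulAut.conj e).toMonoidHom = K := by
    rw [MonoidHom.map_closure]
    congr 1
    ext y
    constructor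
    · rintro ⟨z, hz, rfl⟩; exact hN2c hz
    · intro hy
      refine ⟨e * y * e⁻¹, hN2c hy, ?_⟩
      show e * (e * y * e⁻¹) * e⁻¹ = y
      rw [hinv, show e * (e * y * e) * e = e * e * y * (e * e) by group, hee, one_mul, mul_one]
  let c : K ≃* K := (K.equivMapOfInjective _ (MulAut.conj e).injective).trans (MulEquiv.subgroupCongr hKc)
  have hc2 : ∀ x, c (c x) = x := fun x => Subtype.ext (by
    show e * (e * (x : G) * e⁻¹) * e⁻¹ = x
    rw [hinv, show e * (e * (x : G) * e) * e = e * e * x * (e * e) by group, hee, one_mul, mul_one])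
  have hle : ψ.ker ≤ (ψ.comp c.toMonoidHom).ker := by
    intro x hx
    have hcx : c x ∈ Subgroup.center K := Subgroup.mem_center_iff.2 fun y => c.symm.injective (by
      rw [map_mul, map_mul]; simpa using Subgroup.mem_center_iff.1 (hker x (MonoidHom.mem_ker.1 hx)) (c.symm y))
    have : ψ (c x) ∈ Subgroup.center (SecG (secSet D d) (im h0)) := Subgroup.mem_center_iff.2 fun q => by
      obtain ⟨y, rfl⟩ := hψ q
      rw [← map_mul, ← map_mul, Subgroup.mem_center_iff.1 hcx y]
    rw [T.type.1, Subgroup.mem_bot] at this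
    exact MonoidHom.mem_ker.2 this
  let φ : SecG (secSet D d) (im h0) →* SecG (secSet D d) (im h0) :=
    ψ.liftOfSurjective hψ ⟨ψ.comp c.toMonoidHom, hle⟩
  have hφ : ∀ x, φ (ψ x) = ψ (c x) := fun x => ψ.liftOfRightInverse_comp_apply _ _ _ x
  have hφ2 : ∀ q, φ (φ q) = q := fun q => by
    obtain ⟨x, rfl⟩ := hψ q
    rw [hφ, hφ, hc2]
  let Φ : SecG (secSet D d) (im h0) ≃* SecG (secSet D d) (im h0) :=
    { toFun := φ, invFun := φ, left_inv := hφ2, right_inv := hφ2, map_mul' := map_mul φ }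
  obtain ⟨i, hi⟩ := FiM22.identify_of_type T.grp T.prim T.type
  obtain ⟨r, hr⟩ := SporBound.Fi22Inv.exists_fixed_row (i.trans (Φ.trans i.symm)) fun x => by
    simp only [MulEquiv.trans_apply, MulEquiv.apply_symm_apply]
    show i.symm (φ (φ (i x))) = x
    rw [hφ2, MulEquiv.symm_apply_apply]
  simp only [MulEquiv.trans_apply, MulEquiv.symm_apply_eq] at hr
  have hmem : i (SporBound.Fi22Aut.T r) ∈ secSet (secSet D d) (im h0) := hi ▸ ⟨_, SporBound.Fi22Inv.T_mem r, rfl⟩
  obtain ⟨⟨p, hp⟩, hm, hpe⟩ := hmem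
  have hp' : p ∈ nb (secSet D d) (im h0) := hm
  obtain ⟨⟨⟨w, hw⟩, hwm, rfl⟩, hne, hc⟩ := id hp'
  have hw' : w ∈ nb D d := hwm
  change im hw' ≠ im h0 at hne
  change Commute (im h0) (im hw') at hc
  have hwN : w ∈ N2 := ⟨hw', hw'.1, fun e => hne (im_congr e), (S.comm_iff h0 hw').1 hc⟩
  refine ⟨w, hw'.1, mul_inv_eq_iff_eq_mul.1 (hinj (hN2c hwN) hwN ?_)⟩
  rw [← hψim (hN2c hwN), ← hψim hwN, show (⟨e * w * e⁻¹, Subgroup.subset_closure (hN2c hwN)⟩ : K) =
    c ⟨w, Subgroup.subset_closure hwN⟩ from Subtype.ext rfl, ← hφ]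
  have hval : ψ ⟨w, Subgroup.subset_closure hwN⟩ = i (SporBound.Fi22Aut.T r) := hpe
  rw [hval]
  exact hr

/-- Every involution fixes a member. -/
theorem exists_commute {e : G} (hee : e * e = 1) : ∃ y ∈ D, Commute e y := by
  by_contra hno
  push Not at hno
  have hD := S.setting.grp
  have hinv : e⁻¹ = e := inv_eq_of_mul_eq_one_right hee
  obtain ⟨p, T⟩ := exists_sec22 S.grp S.prim S.type
  obtain ⟨⟨e₀, he₀⟩, hm, rfl⟩ := id T.mem
  have h0 : e₀ ∈ nb D d := hm
  set d' := e * d * e⁻¹ with hd'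
  have hd'D : d' ∈ D := hD.2.1 e d S.mem
  have hback : e * d' * e⁻¹ = d := by
    rw [hd', hinv, show e * (e * d * e) * e = e * e * d * (e * e) by group, hee, one_mul, mul_one]
  have hdd : Commute d d' := by
    by_contra hn
    refine hno (d * d' * d) ?_ (mul_inv_eq_iff_eq_mul.1 ?_)
    · have := hD.2.1 d d' hd'D
      rwa [inv_eq S.set3 S.mem] at this
    · rw [show e * (d * d' * d) * e⁻¹ = e * d * e⁻¹ * (e * d' * e⁻¹) * (e * d * e⁻¹) by group, hback, ← hd']
      exact (braid S.set3 S.mem hd'D hn).symm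
  have hne : d' ≠ d := fun h => hno d S.mem (mul_inv_eq_iff_eq_mul.1 h)
  obtain ⟨k, hk, hk0⟩ := S.setting.commute_transitive S.mem hd'D hne hdd h0.1 h0.2.1 h0.2.2
  have hkd := conj_self_of_commute hk
  obtain ⟨y, hy, hcy⟩ := S.fixed_of_swap (e := k * e * k⁻¹) h0 T
    (by rw [show k * e * k⁻¹ * (k * e * k⁻¹) = k * (e * e) * k⁻¹ by group, hee, mul_one, mul_inv_cancel])
    (by
      conv_lhs => arg 1; arg 2; rw [← hkd]
      rw [show k * e * k⁻¹ * (k * d * k⁻¹) * (k * e * k⁻¹)⁻¹ = k * (e * d * e⁻¹) * k⁻¹ by group]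
      exact hk0)
  refine hno (k⁻¹ * y * k) (by simpa using hD.2.1 k⁻¹ y hy) ?_
  rw [← commute_conj_iff (g := k), conj_cancel]
  exact hcy

theorem unique (hZ : Subgroup.center G = ⊥) {E : Set G} (hE : IsThreeTranspositionClass E) : E = D := by
  have hmem : ∀ x ∈ E, x ∈ D := by
    intro x hx
    have hxx : x * x = 1 := by rw [← pow_two, ← hE.1.1 x hx, pow_orderOf_eq_one]
    obtain ⟨y, hy, hxy⟩ := S.exists_commute hxx
    obtain ⟨g, hg⟩ := class_trans S.setting.cls hy S.mem
    have := S.setting.grp.2.1 g⁻¹ _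
      (S.member hZ hE (class_conj hE g x hx) (hg ▸ commute_conj_iff.2 hxy))
    simpa [mul_assoc] using this
  refine Set.Subset.antisymm hmem fun y hy => ?_
  obtain ⟨x, hx, -⟩ := hE.2.1
  obtain ⟨g, hg⟩ := class_trans S.setting.cls (hmem x hx) hy
  exact hg ▸ class_conj hE g x hx

end Sec23

end CfsgLib.Recog.FiM22Two
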